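import Cfsg.Agent.Leech.Xi
import Cfsg.Agent.Leech.Linear
import Cfsg.Agent.Golay.TableHom

/-!
# Automorphisms of the lattice acting on coordinate lists
-/

set_option autoImplicit false

namespace CfsgLib.OutConway

open Cfsg CfsgLib CfsgLib.Golay CfsgLib.Leech
open CfsgLib.Golay.Cert (genOK ofList toList_ofList)

/-- The coordinates as a list. -/
def co (x : GolayPt → ℤ) : List ℤ := (List.range 24).map fun i => x (pt i)

theorem length_co (x : GolayPt → ℤ) : (co x).length = 24 := by simp [co]

theorem getD_co (x : GolayPt → ℤ) (p : GolayPt) : (co x).getD (idx p) 0 = x p := by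
  have h := idx_lt p
  rw [List.getD_eq_getElem _ _ (by simpa [co] using h)]
  simp [co, pt_idx]

theorem co_injective : Function.Injective co := fun x y h => funext fun p => by
  rw [← getD_co x p, ← getD_co y p, h]

/-- An automorphism acts on coordinates as a given function. -/
def Sim (g : Co0) (f : List ℤ → List ℤ) : Prop :=
  ∀ v : leechLattice, co ((g • v : leechLattice) : GolayPt → ℤ) = f (co (v : GolayPt → ℤ))

theorem Sim.mul {g h : Co0} {f k : List ℤ → List ℤ} (hg : Sim g f) (hh : Sim h k) :
    Sim (g * h) (fun x => f (k x)) := fun v => by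
  rw [mul_smul, hg, hh]

theorem sim_one : Sim 1 id := fun v => by rw [one_smul]; rfl

theorem Sim.pow {g : Co0} {f : List ℤ → List ℤ} (hg : Sim g f) (n : ℕ) : Sim (g ^ n) (f^[n]) := by
  induction n with
  | zero => rw [pow_zero]; exact sim_one
  | succ n ih =>
    intro v
    rw [pow_succ', mul_smul, hg, ih, Function.iterate_succ_apply']

/-- Eight times a unit vector. -/
def unit8 (i : ℕ) : List ℤ := (List.range 24).map fun j => if j = i then 8 else 0

theorem co_eightAt (q : GolayPt) : co (eightAt q : GolayPt → ℤ) = unit8 (idx q) := by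
  refine List.map_congr_left fun i hi => ?_
  rw [eightAt_apply]
  have hi' := List.mem_range.1 hi
  by_cases h : pt i = q
  · rw [if_pos h, if_pos (by rw [← h, idx_pt i hi'])]
  · rw [if_neg h, if_neg (fun e => h (by rw [e, pt_idx]))]

/-- The units are mapped in the same way. -/
def sameAct (f k : List ℤ → List ℤ) : Bool := (List.range 24).all fun i => f (unit8 i) == k (unit8 i)

theorem eq_of_sim {g h : Co0} {f k : List ℤ → List ℤ} (hg : Sim g f) (hh : Sim h k)
    (e : sameAct f k = true) : g = h := by
  refine eq_of_mat_eq fun p q => ?_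
  have h1 := (List.all_eq_true.1 e (idx q) (List.mem_range.2 (idx_lt q)))
  rw [beq_iff_eq, ← co_eightAt, ← hg, ← hh] at h1
  exact congrFun (co_injective h1) p

theorem eq_one_of_sim {g : Co0} {f : List ℤ → List ℤ} (hg : Sim g f) (e : sameAct f id = true) :
    g = 1 := eq_of_sim hg sim_one e

theorem sameAct_of_eq {g h : Co0} {f k : List ℤ → List ℤ} (hg : Sim g f) (hh : Sim h k) (e : g = h) :
    sameAct f k = true := by
  refine List.all_eq_true.2 fun i hi => ?_
  have hi' := List.mem_range.1 hi
  rw [beq_iff_eq, ← idx_pt i hi', ← co_eightAt, ← hg, ← hh, e]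

/-- Negation. -/
def negA (x : List ℤ) : List ℤ := x.map fun a => -a

theorem sim_neg : Sim negAut negA := fun v => by
  rw [negAut_smul]
  simp [co, negA]

/-- A table of a permutation acting on coordinates. -/
def permA (L : List ℕ) (x : List ℤ) : List ℤ := (invL L).map fun i => x.getD i 0

theorem sim_perm {σ : M24} {L : List ℕ} (h : toList (σ : Equiv.Perm GolayPt) = L) :
    Sim (permHom σ) (permA L) := by
  intro v
  subst h
  rw [permA, ← toList_inv, toList, List.map_map]
  refine List.map_congr_left fun i _ => ?_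
  rw [Function.comp_apply, getD_co, permHom_apply]

theorem sim_ofList {L : List ℕ} (h : genOK L = true) : Sim (permHom (ofList L)) (permA L) :=
  sim_perm (toList_ofList h)

/-- Sign changes on a set of positions. -/
def signA (m : ℕ) (x : List ℤ) : List ℤ :=
  (List.range 24).map fun i => if m.testBit i then -(x.getD i 0) else x.getD i 0

theorem sim_sign {w : golayCode} {m : ℕ} (h : (w : GolayPt → ZMod 2) = vec m) :
    Sim (signAut w) (signA m) := by
  intro v
  refine List.map_congr_left fun i hi => ?_
  have hi' := List.mem_range.1 hi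
  rw [signAut_apply, flipSign, h]
  have hx := getD_co (v : GolayPt → ℤ) (pt i)
  rw [idx_pt i hi'] at hx
  rw [hx, vec]
  simp only [idx_pt i hi']
  cases m.testBit i <;> simp

/-- Sum of two lists of coordinates. -/
def addV (x y : List ℤ) : List ℤ := List.zipWith (· + ·) x y

/-- A matrix given by columns acting on coordinates, scaled by eight. -/
def rawA : List ℤ → List (List ℤ) → List ℤ
  | a :: x, c :: M => if a = 0 then rawA x M else addV (c.map fun b => a * b) (rawA x M)
  | _, _ => List.replicate 24 0

/-- A matrix given by columns acting on coordinates. -/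
def matA (M : List (List ℤ)) (x : List ℤ) : List ℤ := (rawA x M).map fun a => a / 8

theorem rawA_spec : ∀ (x : List ℤ) (M : List (List ℤ)), x.length = M.length → (∀ c ∈ M, c.length = 24) →
    (rawA x M).length = 24 ∧ ∀ k < 24, (rawA x M).getD k 0 =
      ∑ j ∈ Finset.range x.length, x.getD j 0 * (M.getD j []).getD k 0
  | [], [], _, _ => ⟨by simp [rawA], fun k hk => by interval_cases k <;> rfl⟩
  | a :: x, c :: M, hl, hc => by
    obtain ⟨h1, h2⟩ := rawA_spec x M (by simpa using hl) fun d hd => hc d (List.mem_cons_of_mem _ hd)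
    have hcl := hc c List.mem_cons_self
    have hsum : ∀ k, ∑ j ∈ Finset.range (a :: x).length, (a :: x).getD j 0 * ((c :: M).getD j []).getD k 0 =
        a * c.getD k 0 + ∑ j ∈ Finset.range x.length, x.getD j 0 * (M.getD j []).getD k 0 := fun k => by
      rw [List.length_cons, Finset.sum_range_succ', add_comm]
      simp
    by_cases ha : a = 0
    · rw [rawA, if_pos ha]
      exact ⟨h1, fun k hk => by rw [hsum, h2 k hk, ha, zero_mul, zero_add]⟩
    · rw [rawA, if_neg ha]
      refine ⟨by simp [addV, hcl, h1], fun k hk => ?_⟩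
      rw [hsum, ← h2 k hk]
      simp only [addV, List.getD_eq_getElem?_getD, List.getElem?_zipWith, List.getElem?_map]
      rw [List.getElem?_eq_getElem (by rw [hcl]; exact hk), List.getElem?_eq_getElem (by rw [h1]; exact hk)]
      simp
  | [], _ :: _, hl, _ => absurd hl (by simp)
  | _ :: _, [], hl, _ => absurd hl (by simp)

theorem sim_of_images {g : Co0} {M : List (List ℤ)} (hM : M.length = 24)
    (h : ∀ q, co ((g • eightAt q : leechLattice) : GolayPt → ℤ) = M.getD (idx q) []) :
    Sim g (matA M) := by
  have hc : ∀ c ∈ M, c.length = 24 := by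
    intro c hc
    obtain ⟨i, hi, rfl⟩ := List.getElem_of_mem hc
    have := h (pt i)
    rw [idx_pt i (hM ▸ hi), List.getD_eq_getElem _ _ hi] at this
    rw [← this, length_co]
  intro v
  obtain ⟨hl, hs⟩ := rawA_spec (co (v : GolayPt → ℤ)) M (by rw [length_co, hM]) hc
  refine List.ext_getElem (by simp [matA, hl, length_co]) fun i h1 h2 => ?_
  have hi : i < 24 := by simpa [co] using h1
  have hr : (rawA (co (v : GolayPt → ℤ)) M).getD i 0 =
      8 * ((g • v : leechLattice) : GolayPt → ℤ) (pt i) := by
    rw [hs i hi, length_co, mat_mul_vec, ← sum_idx]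
    refine Finset.sum_congr rfl fun q _ => ?_
    rw [getD_co, ← h q, mul_comm, ← idx_pt i hi, getD_co, idx_pt i hi]
    rfl
  have hh : (rawA (co (v : GolayPt → ℤ)) M)[i]'(hl.symm ▸ hi) =
      8 * ((g • v : leechLattice) : GolayPt → ℤ) (pt i) := by
    rw [← List.getD_eq_getElem _ 0 (hl.symm ▸ hi)]; exact hr
  simp only [matA, List.getElem_map, hh, Int.mul_ediv_cancel_left _ (by norm_num : (8 : ℤ) ≠ 0)]
  simp [co]
where
  sum_idx {f : ℕ → ℤ} : ∑ q : GolayPt, f (idx q) = ∑ j ∈ Finset.range 24, f j :=
    Finset.sum_bij (fun q _ => idx q) (fun q _ => Finset.mem_range.2 (idx_lt q))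
      (fun a _ b _ e => by rw [← pt_idx a, e, pt_idx])
      (fun j hj => ⟨pt j, Finset.mem_univ _, idx_pt j (Finset.mem_range.1 hj)⟩) (fun _ _ => rfl)

end CfsgLib.OutConway
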