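import Cfsg.Agent.OutConway.Co3
import Cfsg.Prelude.Def_Spor_Conway

/-!
# Automorphisms of the group of the lattice modulo its centre
-/

set_option autoImplicit false

namespace CfsgLib.OutConway.One

open Cfsg CfsgLib CfsgLib.Golay CfsgLib.Leech MulAction
open CfsgLib.Golay.Cert (genOK ofList toList_ofList q5)

attribute [local irreducible] shortVecs halfTable quarterTable codeFinset

/-- The projection. -/
def pr : Co0 →* Spor.Co1 := QuotientGroup.mk' (Subgroup.center Co0)

/-- The three involutions. -/
def inv3 : List (List ℤ → List ℤ) :=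
  [matA zMat, signA sMask, fun x => forceL (forceL (matA zMat x) fun y => signA sMask y) fun y => matA zMat y]

/-- The generators as functions. -/
def funs (k a c : ℕ) : List (ℕ → List ℤ → List ℤ) :=
  [fun n => permI (rotI (k * n)), fun n => permI (mulI n), fun n => (inv3.getD a id)^[n],
    fun n => (inv3.getD c id)^[n]]

/-- The relation. -/
def relW : List (ℕ × ℕ) := rep 12 [(0, 2), (1, 9), (2, 1), (0, 2), (1, 1), (3, 1)]

/-- A monomial word moving the extra point. -/
def monoW : List (ℕ × ℕ) := [(2, 1), (3, 1), (0, 20), (2, 1), (0, 14), (2, 1), (0, 6), (2, 1), (0, 18),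
  (2, 1), (0, 4), (3, 1), (2, 1)]

theorem rel_part₀ : ((List.range 8).all fun i =>
    evF (funs 1 0 1) relW (unit8 (8 * 0 + i)) == negA (unit8 (8 * 0 + i))) = true := by decide +kernel

theorem rel_part₁ : ((List.range 8).all fun i =>
    evF (funs 1 0 1) relW (unit8 (8 * 1 + i)) == negA (unit8 (8 * 1 + i))) = true := by decide +kernel

theorem rel_part₂ : ((List.range 8).all fun i =>
    evF (funs 1 0 1) relW (unit8 (8 * 2 + i)) == negA (unit8 (8 * 2 + i))) = true := by decide +kernel

theorem rel_holds : sameAct (evF (funs 1 0 1) relW) negA = true := by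
  refine List.all_eq_true.2 fun i hi => ?_
  have hi' := List.mem_range.1 hi
  have hm : i % 8 ∈ List.range 8 := List.mem_range.2 (Nat.mod_lt _ (by norm_num))
  have he : 8 * (i / 8) + i % 8 = i := Nat.div_add_mod i 8
  rcases show i / 8 = 0 ∨ i / 8 = 1 ∨ i / 8 = 2 by omega with e | e | e <;> rw [e] at he
  · have h := List.all_eq_true.1 rel_part₀ _ hm
    rw [he] at h
    exact h
  · have h := List.all_eq_true.1 rel_part₁ _ hm
    rw [he] at h
    exact h
  · have h := List.all_eq_true.1 rel_part₂ _ hm
    rw [he] at h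
    exact h

theorem rel_fails : ([1, 22].all fun k => (List.range 3).all fun a => (List.range 3).all fun c =>
    decide (a = c) || decide (k = 1 ∧ a = 0 ∧ c = 1) ||
      (evF (funs k a c) relW (unit8 5) != unit8 5 && evF (funs k a c) relW (unit8 5) != negA (unit8 5))) = true := by
  decide +kernel

theorem cand_check : (candB.all fun f =>
    !(sameAct (fun x => forceL (f x) f) id || sameAct (fun x => forceL (f x) f) negA) || sameAct f id ||
      sameAct f negA ||
      inv3.any fun h => sameAct f h || sameAct f (fun x => negA (h x))) = true := by decide +kernel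

theorem inv_checks : sameAct (fun x => permA bL (signA sMask x)) (fun x => signA sMask (permA bL x)) = true ∧
    sameAct (fun x => signA sMask (signA sMask x)) id = true ∧
    sameAct (signA sMask) id = false ∧ sameAct (signA sMask) negA = false ∧ sameAct (matA zMat) negA = false ∧
    sameAct (matA zMat) (signA sMask) = false ∧
    sameAct (matA zMat) (fun x => negA (signA sMask x)) = false := by decide +kernel

theorem mono_image : evF (funs 1 0 1) monoW (unit8 23) = unit8 20 ∨
    evF (funs 1 0 1) monoW (unit8 23) = negA (unit8 20) := by decide +kernel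

theorem half_check : halfOK (unit8 20) (unit8 23) = true ∧ halfOK (negA (unit8 20)) (unit8 23) = true := by
  decide +kernel

theorem trans_signs : ((List.range 23).all fun i =>
    sameAct (evF (funs 1 0 1) [(0, i), (3, 1), (0, 23 - i)]) (signA (fullMask ^^^ genMasks.getD i 0))) = true := by
  decide +kernel

theorem full_vec : ∀ (t : ZMod 23) (p : GolayPt),
    (qrWord t + 1 : GolayPt → ZMod 2) p = vec (fullMask ^^^ genMasks.getD t.val 0) p := by decide +kernel

theorem z_entry : (matA zMat (unit8 23)).getD 0 0 = -2 := by decide +kernel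

theorem sim_zsz : Sim (zA * sA * zA) (fun x => forceL (forceL (matA zMat x) fun y => signA sMask y)
    fun y => matA zMat y) := fun v => by
  simp only [forceL_eq]
  exact ((sim_z.mul sim_s).mul sim_z) v

/-- The three involutions as automorphisms. -/
def invG : List Co0 := [zA, sA, zA * sA * zA]

theorem sim_inv : List.Forall₂ Sim invG inv3 := .cons sim_z (.cons sim_s (.cons sim_zsz .nil))

theorem sim_inv_getD : ∀ a, Sim (invG.getD a 1) (inv3.getD a id) := by
  intro a
  match a with
  | 0 => exact sim_z
  | 1 => exact sim_s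
  | 2 => exact sim_zsz
  | n + 3 => exact sim_one

theorem sims (k a c : ℕ) : List.Forall₂ SimP [tAut ^ k, bA, invG.getD a 1, invG.getD c 1] (funs k a c) :=
  .cons (simP_t k) (.cons simP_b (.cons (simP_pow (sim_inv_getD a)) (.cons (simP_pow (sim_inv_getD c)) .nil)))

theorem sims₁ : List.Forall₂ SimP [tAut, bA, zA, sA] (funs 1 0 1) := by
  have h := sims 1 0 1
  simpa only [pow_one, invG, List.getD_cons_zero, List.getD_cons_succ] using h

theorem mem_center_iff' {g : Co0} : g ∈ Subgroup.center Co0 ↔ g = 1 ∨ g = negAut := by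
  rw [← SetLike.mem_coe, center_eq]; simp

theorem neg_comm (g : Co0) : negAut * g = g * negAut :=
  ((Subgroup.mem_center_iff.1 (mem_center_iff'.2 (Or.inr rfl))) g).symm

theorem neg_sq : negAut * negAut = 1 := by
  have h := mem_center_iff'.1 ((Subgroup.center Co0).mul_mem (mem_center_iff'.2 (Or.inr rfl))
    (mem_center_iff'.2 (Or.inr rfl)))
  refine h.resolve_right fun e => negAut_ne_one ?_
  exact mul_left_cancel (e.trans (mul_one _).symm)

theorem pr_eq {a b : Co0} : pr a = pr b ↔ a = b ∨ a = negAut * b := by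
  rw [pr, QuotientGroup.mk'_apply, QuotientGroup.mk'_apply, QuotientGroup.eq, mem_center_iff']
  constructor
  · rintro (h | h)
    · exact Or.inl (inv_mul_eq_one.1 h)
    · refine Or.inr ?_
      have : b = a * negAut := by rw [← h, mul_inv_cancel_left]
      rw [this, ← mul_assoc, neg_comm, mul_assoc, neg_sq, mul_one]
  · rintro (rfl | rfl)
    · exact Or.inl (inv_mul_cancel a)
    · refine Or.inr ?_
      have e : negAut⁻¹ = negAut := inv_eq_of_mul_eq_one_left neg_sq
      rw [mul_inv_rev, e, mul_assoc, neg_comm, inv_mul_cancel_left]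

theorem pr_surj : Function.Surjective pr := QuotientGroup.mk'_surjective _

theorem pr_eq_one {a : Co0} : pr a = 1 ↔ a = 1 ∨ a = negAut := by
  rw [← map_one pr, pr_eq, mul_one]

/-- An element commuting modulo the centre with an element of odd order commutes with it. -/
theorem comm_of_odd {g u : Co0} {n : ℕ} (hn : Odd n) (hu : u ^ n = 1) (h : pr g * pr u = pr u * pr g) :
    g * u = u * g := by
  rw [← map_mul, ← map_mul, pr_eq] at h
  refine h.resolve_right fun e => negAut_ne_one ?_
  have e1 : g * u * g⁻¹ = negAut * u := by rw [e]; group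
  have e2 : (negAut * u) ^ n = 1 := by rw [← e1, conj_pow, hu, mul_one, mul_inv_cancel]
  rw [(show Commute negAut u from neg_comm u).mul_pow, hu, mul_one] at e2
  obtain ⟨m, rfl⟩ := hn
  rwa [pow_succ, pow_mul, sq, neg_sq, one_pow, one_mul] at e2

/-- The translation. -/
def tQ : Spor.Co1 := pr tAut
/-- The multiplier. -/
noncomputable def bQ : Spor.Co1 := pr bA
/-- The first involution. -/
def zQ : Spor.Co1 := pr zA
/-- The second involution. -/
def sQ : Spor.Co1 := pr sA

theorem order_t : orderOf tQ = 23 := by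
  haveI := fact23
  refine orderOf_eq_prime (by rw [tQ, ← map_pow, ← orderOf_tAut, pow_orderOf_eq_one, map_one]) fun h => ?_
  rcases pr_eq_one.1 h with h | h
  · have := orderOf_tAut
    rw [h, orderOf_one] at this
    omega
  · have h2 : orderOf negAut ∣ 2 := orderOf_dvd_of_pow_eq_one (by rw [sq, neg_sq])
    rw [← h, orderOf_tAut] at h2
    norm_num at h2

theorem no_sq : ¬ 23 ^ 2 ∣ Nat.card Spor.Co1 :=
  fun h => not_sq_dvd_card (h.trans (Subgroup.card_quotient_dvd_card _))

theorem conj_bt : bQ * tQ * bQ⁻¹ = tQ ^ 2 := by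
  rw [bQ, tQ, ← map_pow, ← map_inv, ← map_mul, ← map_mul, Three.conj_bt]

theorem cent_t (g : Spor.Co1) (hg : g * tQ = tQ * g) : ∃ n : ℕ, g = tQ ^ n := by
  obtain ⟨g, rfl⟩ := pr_surj g
  have h := comm_of_odd (n := 23) (by decide) (by rw [← orderOf_tAut, pow_orderOf_eq_one]) hg
  have h' : tAut * g * tAut⁻¹ = g := by rw [mul_inv_eq_iff_eq_mul]; exact h.symm
  obtain ⟨n, e | e⟩ := commute_tAut h'
  · exact ⟨n, by rw [e, map_pow]; rfl⟩
  · exact ⟨n, by rw [e, map_mul, map_pow, pr_eq_one.2 (Or.inr rfl), one_mul]; rfl⟩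

/-- Generation. -/
theorem gen_top : Subgroup.closure ({tQ, bQ, zQ, sQ} : Set Spor.Co1) = ⊤ := by
  set K := (Subgroup.closure ({tQ, bQ, zQ, sQ} : Set Spor.Co1)).comap pr with hKdef
  suffices hK : K = ⊤ by
    refine (Subgroup.eq_top_iff' _).2 fun x => ?_
    obtain ⟨g, rfl⟩ := pr_surj x
    exact hK.ge (Subgroup.mem_top g)
  have hgens : ∀ g ∈ [tAut, bA, zA, sA], g ∈ K := fun g hg => by
    show pr g ∈ Subgroup.closure ({tQ, bQ, zQ, sQ} : Set Spor.Co1)
    refine Subgroup.subset_closure ?_
    simp only [List.mem_cons, List.not_mem_nil, or_false] at hg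
    rcases hg with rfl | rfl | rfl | rfl <;> simp [tQ, bQ, zQ, sQ]
  have hneg : negAut ∈ K := by
    show pr negAut ∈ Subgroup.closure ({tQ, bQ, zQ, sQ} : Set Spor.Co1)
    rw [pr_eq_one.2 (Or.inr rfl)]; exact one_mem _
  have hgens3 : ∀ g ∈ [tAut, bA, zA], g ∈ K := fun g hg => hgens g (by
    simp only [List.mem_cons, List.not_mem_nil, or_false] at hg ⊢
    tauto)
  have hsig : permHom (ofList sigA) ∈ K := by
    rw [← eq_of_sim (sim_ev Three.sims₁ _) (sim_ofList gens_ok.2.2.2.1) Three.word_sig]
    exact ev_mem hgens3 _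
  have hperm0 : ∀ σ : M24, (σ : Equiv.Perm GolayPt) none = none → permHom σ ∈ K := fun σ hσ => by
    refine perm_mem progA_ok (by norm_num) ?_ σ fun p hp => ?_
    · intro L hL
      simp only [List.mem_cons, List.not_mem_nil, or_false] at hL
      rcases hL with rfl | rfl | rfl
      exacts [⟨trans23, hgens _ (by simp [tAut]), toList_trans⟩,
        ⟨bP, hgens _ (by simp [bA]), toList_bP⟩, ⟨_, hsig, toList_ofList gens_ok.2.2.2.1⟩]
    · simp only [q5, List.take_succ_cons, List.take_zero, List.mem_singleton] at hp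
      rwa [show p = none from idx_injective hp]
  -- the sign changes
  have hsign : ∀ w : golayCode, signAut w ∈ K := by
    have h1 : ∀ t : ZMod 23, ∃ hm : qrWord t + 1 ∈ golayCode, signAut ⟨qrWord t + 1, hm⟩ ∈ K := fun t => by
      refine ⟨add_mem (Submodule.subset_span (Or.inl ⟨t, rfl⟩)) (Submodule.subset_span (Or.inr rfl)), ?_⟩
      have ht : t.val < 23 := ZMod.val_lt t
      have hc := List.all_eq_true.1 trans_signs t.val (List.mem_range.2 ht)
      rw [← eq_of_sim (sim_ev sims₁ _) (sim_sign (funext (full_vec t))) hc]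
      exact ev_mem hgens _
    intro w
    obtain ⟨x, hx⟩ := w
    induction hx using Submodule.span_induction with
    | mem v hv =>
      rcases hv with ⟨t, rfl⟩ | h
      · obtain ⟨hm, hk⟩ := h1 t
        have e : (⟨qrWord t, Submodule.subset_span (Or.inl ⟨t, rfl⟩)⟩ : golayCode) =
            ⟨qrWord t + 1, hm⟩ + oneWord := Subtype.ext (funext fun i => by
          simp only [Submodule.coe_add, oneWord, Pi.add_apply, Pi.one_apply, add_assoc,
            CharTwo.add_self_eq_zero, add_zero])
        rw [e, ← signAut_mul, signAut_one]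
        exact mul_mem hk hneg
      · rw [Set.mem_singleton_iff] at h
        subst h
        rw [show (⟨1, _⟩ : golayCode) = oneWord from rfl, signAut_one]
        exact hneg
    | zero => rw [show (⟨0, _⟩ : golayCode) = 0 from rfl, signAut_zero]; exact one_mem _
    | add u v hu hv iu iv =>
      rw [show (⟨u + v, _⟩ : golayCode) = ⟨u, hu⟩ + ⟨v, hv⟩ from rfl, ← signAut_mul]
      exact mul_mem iu iv
    | smul r v hv iv =>
      rw [show (⟨r • v, _⟩ : golayCode) = r • (⟨v, hv⟩ : golayCode) from rfl]
      rcases eq_zero_or_one r with rfl | rfl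
      · rw [zero_smul, signAut_zero]
        exact one_mem _
      · rw [one_smul]
        exact iv
  -- the permutations
  have hA := ev_mem hgens monoW
  have hAim : ((evG [tAut, bA, zA, sA] monoW • eightAt none : leechLattice) = eightAt (pt 20)) ∨
      evG [tAut, bA, zA, sA] monoW • eightAt none = -eightAt (pt 20) := by
    rcases mono_image with h | h
    · left; exact smul_of_sim (sim_ev sims₁ _) (by
        rw [co_eightAt, co_eightAt, idx_pt 20 (by norm_num)]; exact h)
    · right; exact smul_of_sim (sim_ev sims₁ _) (by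
        rw [co_eightAt, show idx (none : GolayPt) = 23 from rfl, h, show co ((-eightAt (pt 20) : leechLattice) :
          GolayPt → ℤ) = negA (co (eightAt (pt 20) : GolayPt → ℤ)) by simp [negA, co], co_eightAt,
          idx_pt 20 (by norm_num)])
  obtain ⟨⟨w, σA⟩, hwσ⟩ := exists_monoAut (g := evG [tAut, bA, zA, sA] monoW) (by
    rcases hAim with h | h <;> rw [h] <;> refine cls_eq_of_halfOK ?_
    · rw [co_eightAt, co_eightAt, idx_pt 20 (by norm_num)]; exact half_check.1
    · rw [show co ((-eightAt (pt 20) : leechLattice) : GolayPt → ℤ) = negA (co (eightAt (pt 20) : GolayPt → ℤ))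
        by simp [negA, co], co_eightAt, co_eightAt, idx_pt 20 (by norm_num)]
      exact half_check.2)
  have hσA : (σA : Equiv.Perm GolayPt) none = pt 20 := unit_or hwσ hAim
  have hσAK : permHom σA ∈ K := by
    have e : permHom σA = signAut w * evG [tAut, bA, zA, sA] monoW := by
      rw [← hwσ, monoAut, ← mul_assoc]
      conv_rhs => arg 1; arg 1; rw [← signAut_inv]
      rw [inv_mul_cancel, one_mul]
    rw [e]
    exact mul_mem (hsign w) hA
  have hperm : ∀ σ : M24, permHom σ ∈ K := fun σ => by
    rcases hx : (σ : Equiv.Perm GolayPt) none with _ | k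
    · exact hperm0 σ hx
    · set τ := trans23 ^ (k + 3).val * σA with hτ
      have hτn : (τ : Equiv.Perm GolayPt) none = some k := by
        rw [hτ, Subgroup.coe_mul, Equiv.Perm.mul_apply, hσA, show pt 20 = some (20 : ZMod 23) from rfl,
          (trans23_pow _).2, ZMod.natCast_zmod_val]
        congr 1
        rw [add_comm k, ← add_assoc, show (20 : ZMod 23) + 3 = 0 from rfl, zero_add]
      have hτK : permHom τ ∈ K := by
        rw [hτ, map_mul, map_pow]
        exact mul_mem (pow_mem (hgens _ (by simp [tAut])) _) hσAK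
      have h0 : ((τ⁻¹ * σ : M24) : Equiv.Perm GolayPt) none = none := by
        rw [Subgroup.coe_mul, Subgroup.coe_inv, Equiv.Perm.mul_apply, hx, ← hτn, Equiv.Perm.inv_def,
          Equiv.symm_apply_apply]
      have := mul_mem hτK (hperm0 _ h0)
      rwa [← map_mul, mul_inv_cancel_left] at this
  have hmono : monoGroup ≤ K := fun g hg => by
    obtain ⟨⟨u, σ⟩, rfl⟩ := (mem_monoGroup_iff g).1 hg
    exact mul_mem (hsign u) (hperm σ)
  refine (MonoMax.maximal hmono).resolve_left fun e => ?_
  obtain ⟨⟨u, σ⟩, hu⟩ := (mem_monoGroup_iff zA).1 (e ▸ hgens _ (by simp))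
  have h := congrFun (monoAut_eightAt (u, σ) none) (pt 0)
  rw [hu] at h
  have hz : ((zA • eightAt none : leechLattice) : GolayPt → ℤ) (pt 0) = -2 := by
    have h2 := getD_co ((zA • eightAt none : leechLattice) : GolayPt → ℤ) (pt 0)
    rw [sim_z, co_eightAt, idx_pt 0 (by norm_num), show idx (none : GolayPt) = 23 from rfl, z_entry] at h2
    exact h2.symm
  rw [hz] at h
  simp only [flipSign, eightAt_apply] at h
  split_ifs at h <;> omega

/-- Every automorphism is inner. -/
theorem card_out : Nat.card (Out Spor.Co1) = 1 := by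
  haveI := fact23
  refine card_out_one gen_top fun φ => ?_
  obtain ⟨g₀, k₀, hk₀, e₁, e₂⟩ :=
    normal_pair no_sq order_t (m := 2) (r := 1) conj_bt (by norm_num) cent_t φ
  obtain ⟨g, k, hk, et, eb⟩ := shift_exp (p := 23) order_t conj_bt [1, 22] (fun k h1 h2 => by
    obtain ⟨j, -, h⟩ := Three.mult_reps k h1 h2; exact ⟨j, h⟩) hk₀ e₁ e₂
  set ψ := MulAut.conj g * φ with hψ
  have hψv : ∀ x, ψ x = g * φ x * g⁻¹ := fun x => rfl
  rw [← hψv] at et eb
  refine ⟨g, ?_⟩
  simp only [← hψv]
  have hb11 : bA ^ 11 = 1 := bA_pow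
  -- the images of the involutions
  have himg : ∀ (h : Co0) (f : List ℤ → List ℤ), Sim h f → h * bA = bA * h → h * h = 1 →
      sameAct f id = false → sameAct f negA = false →
      ∃ a < 3, ψ (pr h) = pr (invG.getD a 1) := by
    intro h f hs hb hh h1 hn
    obtain ⟨x, hx⟩ := pr_surj (ψ (pr h))
    have hxb : x * bA = bA * x := by
      refine comm_of_odd (n := 11) (by decide) hb11 ?_
      have e := congrArg (fun y => ψ (pr y)) hb
      simp only [map_mul] at e
      rw [show pr bA = bQ from rfl, eb, ← hx] at e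
      exact e
    have hxx : x * x = 1 ∨ x * x = negAut := by
      have e := congrArg (fun y => ψ (pr y)) hh
      simp only [map_mul, map_one, ← hx] at e
      rw [← map_mul] at e
      exact pr_eq_one.1 e
    have hne : ¬ (x = 1 ∨ x = negAut) := fun e => by
      rw [← pr_eq_one, hx] at e
      rcases pr_eq_one.1 ((map_eq_one_iff ψ ψ.injective).1 e) with e' | e'
      · rw [sameAct_of_eq hs sim_one e'] at h1; exact Bool.noConfusion h1
      · rw [sameAct_of_eq hs sim_neg e'] at hn; exact Bool.noConfusion hn
    obtain ⟨F, hF, hFs⟩ := exists_cand hxb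
    have hc := List.all_eq_true.1 cand_check F hF
    simp only [Bool.or_eq_true, Bool.not_eq_true', Bool.or_eq_false_iff, List.any_eq_true] at hc
    rcases hc with ((hc | hc) | hc) | ⟨k', hk', hc⟩
    · exfalso
      have hFF : Sim (x * x) (fun v => forceL (F v) F) := fun v => by
        simp only [forceL_eq]; exact (hFs.mul hFs) v
      rcases hxx with e | e
      · rw [sameAct_of_eq hFF sim_one e] at hc; exact Bool.noConfusion hc.1
      · rw [sameAct_of_eq hFF sim_neg e] at hc; exact Bool.noConfusion hc.2
    · exact absurd (Or.inl (eq_one_of_sim hFs hc)) hne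
    · exact absurd (Or.inr (eq_of_sim hFs sim_neg hc)) hne
    · obtain ⟨a, ha, rfl⟩ := List.getElem_of_mem hk'
      rw [← List.getD_eq_getElem inv3 id ha] at hc
      refine ⟨a, ha, ?_⟩
      rw [← hx]
      rcases hc with hc | hc
      · rw [eq_of_sim hFs (sim_inv_getD a) hc]
      · exact pr_eq.2 (Or.inr (eq_of_sim hFs (sim_neg.mul (sim_inv_getD a)) hc))
  obtain ⟨a, ha, ez⟩ := himg zA _ sim_z (eq_of_sim (sim_z.mul sim_b) (sim_b.mul sim_z) Three.z_invol.2.2.1)
    (eq_one_of_sim (sim_z.mul sim_z) Three.z_invol.1) Three.z_invol.2.1 inv_checks.2.2.2.2.1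
  obtain ⟨c, hc', es⟩ := himg sA _ sim_s (eq_of_sim (sim_b.mul sim_s) (sim_s.mul sim_b) inv_checks.1).symm
    (eq_one_of_sim (sim_s.mul sim_s) inv_checks.2.1) inv_checks.2.2.1 inv_checks.2.2.2.1
  have hac : a ≠ c := by
    intro e
    subst e
    rcases pr_eq.1 (ψ.injective (ez.trans es.symm)) with e | e
    · have h := inv_checks.2.2.2.2.2.1
      rw [sameAct_of_eq sim_z sim_s e] at h
      exact Bool.noConfusion h
    · have h := inv_checks.2.2.2.2.2.2
      rw [sameAct_of_eq sim_z (sim_neg.mul sim_s) e] at h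
      exact Bool.noConfusion h
  -- the relation
  have h1 : evG [tQ, bQ, zQ, sQ] relW = 1 := by
    refine (map_ev pr [tAut, bA, zA, sA] relW).symm.trans ?_
    rw [eq_of_sim (sim_ev sims₁ relW) sim_neg rel_holds]
    exact pr_eq_one.2 (Or.inr rfl)
  have h2 := congrArg ψ h1
  rw [map_ev, map_one] at h2
  simp only [List.map_cons, List.map_nil, et, eb, show ψ zQ = _ from ez, show ψ sQ = _ from es] at h2
  rw [show tQ ^ k = pr (tAut ^ k) by rw [map_pow]; rfl, show bQ = pr bA from rfl] at h2
  have h3 : pr (evG [tAut ^ k, bA, invG.getD a 1, invG.getD c 1] relW) = 1 := by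
    rw [map_ev]; exact h2
  have hgood : k = 1 ∧ a = 0 ∧ c = 1 := by
    have hr := List.all_eq_true.1 (List.all_eq_true.1 (List.all_eq_true.1 rel_fails k hk) a
      (List.mem_range.2 ha)) c (List.mem_range.2 hc')
    simp only [Bool.or_eq_true, Bool.and_eq_true, decide_eq_true_iff, bne_iff_ne] at hr
    rcases hr with (hr | hr) | ⟨r1, r2⟩
    · exact absurd hr hac
    · exact hr
    · exfalso
      have h5 : (5 : ℕ) ∈ List.range 24 := List.mem_range.2 (by norm_num)
      rcases pr_eq_one.1 h3 with e | e
      · have := List.all_eq_true.1 (sameAct_of_eq (sim_ev (sims k a c) relW) sim_one e) 5 h5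
        rw [beq_iff_eq] at this
        exact r1 this
      · have := List.all_eq_true.1 (sameAct_of_eq (sim_ev (sims k a c) relW) sim_neg e) 5 h5
        rw [beq_iff_eq] at this
        exact r2 this
  obtain ⟨rfl, rfl, rfl⟩ := hgood
  rintro x (rfl | rfl | rfl | rfl)
  exacts [et.trans (pow_one _), eb, ez, es]

end CfsgLib.OutConway.One
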