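import Cfsg.Agent.Char.PrimeNormBound
import Cfsg.Prelude.Def_KGroupFacts

/-!
# Counting outer automorphisms from normalised images of generators
-/

set_option autoImplicit false

namespace CfsgLib.OutConway

open Cfsg

universe u
variable {G : Type u} [Group G]

theorem eq_one_of_fix {S : Set G} (hS : Subgroup.closure S = ⊤) {φ : MulAut G}
    (h : ∀ x ∈ S, φ x = x) : φ = 1 := by
  have e : φ.toMonoidHom = MonoidHom.id G := MonoidHom.eq_of_eqOn_dense hS h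
  ext x
  exact DFunLike.congr_fun e x

theorem eq_of_agree {S : Set G} (hS : Subgroup.closure S = ⊤) {φ ψ : MulAut G}
    (h : ∀ x ∈ S, φ x = ψ x) : φ = ψ := by
  have e : φ.toMonoidHom = ψ.toMonoidHom := MonoidHom.eq_of_eqOn_dense hS h
  ext x
  exact DFunLike.congr_fun e x

theorem mk_conj_mul (g : G) (φ : MulAut G) :
    ((MulAut.conj g * φ : MulAut G) : Out G) = (φ : Out G) := by
  rw [QuotientGroup.mk_mul, (QuotientGroup.eq_one_iff _).2 (show MulAut.conj g ∈ Inn G from ⟨g, rfl⟩),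
    one_mul]

theorem card_out_one {S : Set G} (hS : Subgroup.closure S = ⊤)
    (h : ∀ φ : MulAut G, ∃ g : G, ∀ x ∈ S, g * φ x * g⁻¹ = x) : Nat.card (Out G) = 1 := by
  refine Nat.card_eq_one_iff_unique.2 ⟨⟨fun a b => ?_⟩, ⟨1⟩⟩
  suffices ∀ q : Out G, q = 1 by rw [this a, this b]
  intro q
  obtain ⟨φ, rfl⟩ := QuotientGroup.mk_surjective q
  obtain ⟨g, hg⟩ := h φ
  have e : MulAut.conj g * φ = 1 :=
    eq_one_of_fix hS fun x hx => by simpa [MulAut.conj_apply] using hg x hx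
  rw [← mk_conj_mul g φ, e]
  rfl

theorem card_out_two {S : Set G} (hS : Subgroup.closure S = ⊤) (θ : MulAut G) (hθ : θ ∉ Inn G)
    (h : ∀ φ : MulAut G, ∃ g : G,
      (∀ x ∈ S, g * φ x * g⁻¹ = x) ∨ ∀ x ∈ S, g * φ x * g⁻¹ = θ x) : Nat.card (Out G) = 2 := by
  refine Nat.card_eq_two_iff.2 ⟨1, (θ : Out G), fun e => hθ ((QuotientGroup.eq_one_iff θ).1 e.symm), ?_⟩
  refine Set.eq_univ_of_forall fun q => ?_
  obtain ⟨φ, rfl⟩ := QuotientGroup.mk_surjective q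
  obtain ⟨g, hg | hg⟩ := h φ
  · left
    have e : MulAut.conj g * φ = 1 :=
      eq_one_of_fix hS fun x hx => by simpa [MulAut.conj_apply] using hg x hx
    rw [← mk_conj_mul g φ, e]
    rfl
  · right
    have e : MulAut.conj g * φ = θ :=
      eq_of_agree hS fun x hx => by simpa [MulAut.conj_apply] using hg x hx
    rw [Set.mem_singleton_iff, ← mk_conj_mul g φ, e]

theorem conj_trans (g h x : G) : (g * h) * x * (g * h)⁻¹ = g * (h * x * h⁻¹) * g⁻¹ := by group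

theorem card_out_congr {H : Type*} [Group H] (e : G ≃* H) : Nat.card (Out G) = Nat.card (Out H) := by
  refine Nat.card_congr (QuotientGroup.congr (Inn G) (Inn H) (MulAut.congr e) ?_).toEquiv
  ext φ
  constructor
  · rintro ⟨_, ⟨g, rfl⟩, rfl⟩
    refine ⟨e g, MulEquiv.ext fun x => ?_⟩
    simp [MulAut.congr]
  · rintro ⟨g, rfl⟩
    refine ⟨MulAut.conj (e.symm g), ⟨_, rfl⟩, MulEquiv.ext fun x => ?_⟩
    simp [MulAut.congr]

theorem pow_congr {u : G} {p : ℕ} (hu : orderOf u = p) {a b : ℕ} (h : a % p = b % p) : u ^ a = u ^ b :=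
  pow_eq_pow_iff_modEq.2 (hu ▸ h)

theorem exists_pow_pow {u : G} {p : ℕ} [Fact p.Prime] (hu : orderOf u = p) {k : ℕ} (hk : ¬ p ∣ k) :
    ∃ j : ℕ, (u ^ k) ^ j = u := by
  have hcop : Nat.Coprime k p := ((Fact.out : p.Prime).coprime_iff_not_dvd.2 hk).symm
  obtain ⟨j, -, hj⟩ := Nat.exists_mul_mod_eq_one_of_coprime hcop (Fact.out : p.Prime).one_lt
  refine ⟨j, ?_⟩
  rw [← pow_mul]
  conv_rhs => rw [← pow_one u]
  exact pow_congr hu (by rw [hj, Nat.mod_eq_of_lt (Fact.out : p.Prime).one_lt])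

theorem conj_pow_of_conj {u w : G} {m : ℕ} (h : w * u * w⁻¹ = u ^ m) (x : ℕ) :
    w * u ^ x * w⁻¹ = u ^ (m * x) := by
  rw [← conj_pow, h, ← pow_mul]

theorem conj_pow_pow' {u w : G} {m : ℕ} (h : w * u * w⁻¹ = u ^ m) (j : ℕ) :
    w ^ j * u * (w ^ j)⁻¹ = u ^ (m ^ j) := CfsgLib.PrimeNorm.conj_pow_pow h j

/-- The images of a Sylow element and an element normalising it can be normalised. -/
theorem normal_pair [Finite G] {p : ℕ} [Fact p.Prime] (hG : ¬ p ^ 2 ∣ Nat.card G) {u w : G}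
    (hu : orderOf u = p) {m r : ℕ} (hw : w * u * w⁻¹ = u ^ m) (hr : r * m % p = (r + 1) % p)
    (hC : ∀ g : G, g * u = u * g → ∃ n : ℕ, g = u ^ n) (φ : MulAut G) :
    ∃ (g : G) (k : ℕ), ¬ p ∣ k ∧ g * φ u * g⁻¹ = u ^ k ∧ g * φ w * g⁻¹ = w := by
  obtain ⟨k, hk, hkc⟩ := CfsgLib.PrimeNorm.exists_isConj_pow hG hu
    (show orderOf (φ u) = p by rw [MulEquiv.orderOf_eq, hu])
  obtain ⟨c, hc⟩ := isConj_iff.1 hkc
  set v := c⁻¹ * φ w * c with hv
  have hu' : c⁻¹ * φ u * c = u ^ k := by rw [← hc]; group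
  have h1 : v * u ^ k * v⁻¹ = u ^ (m * k) := by
    rw [hv, ← hu', mul_comm m k, pow_mul, ← hu']
    calc c⁻¹ * φ w * c * (c⁻¹ * φ u * c) * (c⁻¹ * φ w * c)⁻¹
        = c⁻¹ * (φ w * φ u * (φ w)⁻¹) * c := by group
      _ = c⁻¹ * φ u ^ m * c := by rw [← map_inv, ← map_mul, ← map_mul, hw, map_pow]
      _ = (c⁻¹ * φ u * c) ^ m := by
        have := conj_pow (i := m) (a := c⁻¹) (b := φ u)
        rw [inv_inv] at this
        exact this.symm
  obtain ⟨j, hj⟩ := exists_pow_pow hu hk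
  have h2 : (w⁻¹ * v) * u ^ k * (w⁻¹ * v)⁻¹ = u ^ k := by
    rw [conj_trans w⁻¹ v, h1, ← conj_pow_of_conj hw k]; group
  obtain ⟨i, hi⟩ := hC (w⁻¹ * v) (by
    have h3 : (w⁻¹ * v) * (u ^ k) ^ j * (w⁻¹ * v)⁻¹ = (u ^ k) ^ j := by rw [← conj_pow, h2]
    rw [hj] at h3
    calc w⁻¹ * v * u = (w⁻¹ * v * u * (w⁻¹ * v)⁻¹) * (w⁻¹ * v) := by group
      _ = u * (w⁻¹ * v) := by rw [h3])
  have hvi : v = w * u ^ i := by rw [← hi]; group
  refine ⟨u ^ (m * (r * i)) * c⁻¹, k, hk, ?_, ?_⟩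
  · rw [conj_trans, inv_inv, hu']; group
  · rw [conj_trans, inv_inv, ← hv, hvi, ← conj_pow_of_conj hw (r * i)]
    calc w * u ^ (r * i) * w⁻¹ * (w * u ^ i) * (w * u ^ (r * i) * w⁻¹)⁻¹
        = w * (u ^ (r * i) * u ^ i) * (w * u ^ (r * i) * w⁻¹)⁻¹ := by group
      _ = w * u ^ (m * (r * i)) * (w * u ^ (r * i) * w⁻¹)⁻¹ := by
        rw [← pow_add, pow_congr hu (show (r * i + i) % p = (m * (r * i)) % p by
          rw [show r * i + i = (r + 1) * i by ring, show m * (r * i) = (r * m) * i by ring,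
            Nat.mul_mod, ← hr, ← Nat.mul_mod])]
      _ = w := by rw [conj_pow_of_conj hw]; group

/-- Multiplying the exponent by a power of the multiplier. -/
theorem shift_exp [Finite G] {p : ℕ} [Fact p.Prime] {u w : G} (hu : orderOf u = p) {m : ℕ}
    (hw : w * u * w⁻¹ = u ^ m) (R : List ℕ)
    (hR : ∀ k < p, k ≠ 0 → ∃ j, (m ^ j * k) % p ∈ R) {φ : MulAut G} {g : G} {k : ℕ} (hk : ¬ p ∣ k)
    (h1 : g * φ u * g⁻¹ = u ^ k) (h2 : g * φ w * g⁻¹ = w) :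
    ∃ (g : G) (k : ℕ), k ∈ R ∧ g * φ u * g⁻¹ = u ^ k ∧ g * φ w * g⁻¹ = w := by
  obtain ⟨j, hj⟩ := hR (k % p) (Nat.mod_lt _ (Fact.out : p.Prime).pos)
    (fun e => hk (Nat.dvd_of_mod_eq_zero e))
  refine ⟨w ^ j * g, _, hj, ?_, ?_⟩
  · rw [conj_trans, h1, ← conj_pow, conj_pow_pow' hw, ← pow_mul]
    exact pow_congr hu (by simp [Nat.mul_mod])
  · rw [conj_trans, h2]; group

end CfsgLib.OutConway
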