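import Cfsg.Agent.OutConway.Powers
import Cfsg.Agent.Golay.M24

/-!
# The inversion as an automorphism of the lattice
-/

set_option autoImplicit false

namespace CfsgLib.OutConway

open Cfsg CfsgLib CfsgLib.Golay CfsgLib.Leech

/-- The inversion in the group of the code. -/
def piP : M24 := ⟨projInv, projInv_mem⟩

/-- The inversion. -/
def piA : Co0 := permHom piP

/-- Its table. -/
def piL : List ℕ := toList projInv

theorem sim_pi : Sim piA (permA piL) := sim_perm rfl

theorem pi_checks : sameAct (fun x => permA piL (permA piL x)) id = true ∧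
    sameAct (fun x => permA piL (permA bL (permA piL x))) (permI (mulI 10)) = true ∧
    permA piL (co Spor.vecU) = co Spor.vecU := by decide +kernel

theorem pi_inv : piA⁻¹ = piA :=
  inv_eq_of_mul_eq_one_left (eq_one_of_sim (sim_pi.mul sim_pi) pi_checks.1)

theorem pi_b : piA * bA * piA⁻¹ = bA⁻¹ := by
  have h : piA * (bA * piA) = bA ^ 10 :=
    eq_of_sim (sim_pi.mul (sim_b.mul sim_pi)) (simP_b 10) pi_checks.2.1
  rw [pi_inv, mul_assoc, h, eq_inv_iff_mul_eq_one, ← pow_succ, bA_pow]

end CfsgLib.OutConway
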