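import Cfsg.Agent.OutConway.Twist
import Cfsg.Agent.OutConway.Flip
import Cfsg.Agent.HSGraph.Leech

/-!
# Automorphisms of the second pair stabiliser
-/

set_option autoImplicit false

namespace CfsgLib.OutConway.Hundred

open Cfsg CfsgLib CfsgLib.Golay CfsgLib.Leech MulAction
open Cfsg.Agent.McLSimple (tripleStab)
open Cfsg.Agent.HSGraph.Lat (Sel Pts)
open CfsgLib.Golay.Cert (genOK ofList toList_ofList q5)

attribute [local irreducible] shortVecs halfTable quarterTable codeFinset

/-- The group. -/
abbrev H : Subgroup Co0 := stabilizer Co0 Spor.leechV ⊓ stabilizer Co0 Spor.leechU'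

/-- The coordinates of the first vector. -/
def vL : List ℤ := co Spor.vecV

/-- The coordinates of the second vector. -/
def wL : List ℤ := co Spor.vecU'

/-- The powers of the element of order five. -/
def eF : ℕ → List ℤ → List ℤ := powE hMat hMat2 hMat3 hMat4

/-- The images of the generators as functions. -/
def funs (k i j : ℕ) : List (ℕ → List ℤ → List ℤ) := [fun n => permI (mulI (k * n)), funC eF i j]

/-- The generators as functions. -/
def funs3 : List (ℕ → List ℤ → List ℤ) := [fun n => permI (mulI n), fun n => permI (twistI n), eF]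

/-- The relation. -/
def relW : List (ℕ × ℕ) := rep 7 [(0, 7), (1, 3)]

theorem fix_checks : permA bL vL = vL ∧ permA bL wL = wL ∧ permA cL vL = vL ∧ permA cL wL = wL ∧
    matA hMat vL = vL ∧ matA hMat wL = wL ∧ permA piL vL = addV vL wL ∧ permA piL wL = negA wL := by
  decide +kernel

theorem next₂ : ((List.range 24).all fun i => forceL (matA hMat (unit8 i)) (matA hMat) == hMat2.getD i []) = true := by
  decide +kernel

theorem next₃ : ((List.range 24).all fun i => forceL (matA hMat2 (unit8 i)) (matA hMat) == hMat3.getD i []) = true := by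
  decide +kernel

theorem next₄ : ((List.range 24).all fun i => forceL (matA hMat3 (unit8 i)) (matA hMat) == hMat4.getD i []) = true := by
  decide +kernel

theorem order_check : sameAct (fun x => forceL (matA hMat4 x) (matA hMat)) id = true := by decide +kernel

theorem comm_check : sameAct (fun x => matA hMat (permA cL x)) (fun x => permA cL (matA hMat x)) = true ∧
    sameAct (fun x => forceL (forceL (permA piL x) (matA hMat)) (permA piL)) (matA hMat4) = true ∧
    sameAct (fun x => permA piL (permA cL x)) (fun x => permA cL (permA piL x)) = true := by decide +kernel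

theorem enum_check : ((enumC (-1)).all fun x => (List.range 5).any fun i => eF i (unit8 23) == x) = true := by
  decide +kernel

theorem rel_holds : sameAct (evF (funs 1 1 0) relW) id = true := by decide +kernel

theorem rel_fails : ([1, 10].all fun k => (List.range 5).all fun i => (List.range 5).all fun j =>
    decide (k = 1 ∧ i = 1 ∧ j = 0) || decide (k = 10 ∧ i = 4 ∧ j = 0) ||
      evF (funs k i j) relW (unit8 1) != unit8 1) = true := by decide +kernel

theorem word_sig : sameAct (evF funs3 [(2, 4), (0, 4), (2, 2), (0, 1), (2, 1)]) (permA sigH) = true := by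
  decide +kernel

theorem orbit_len : orbitWords.length = 100 := by decide +kernel

theorem orbit_nodup : (orbitWords.map fun w => evF funs3 w (co Spor.vecU)).Nodup := by decide +kernel

theorem cand_check : (candB.all fun f => !(f vL == vL) || !(f wL == wL) ||
    (List.range 11).any fun i => sameAct f (permI (mulI i))) = true ∧
    (candB.all fun f => !(permA piL (f vL) == vL) || !(permA piL (f wL) == wL)) = true := by decide +kernel

theorem bmem : bA ∈ H := ⟨smul_of_sim sim_b fix_checks.1, smul_of_sim sim_b fix_checks.2.1⟩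
theorem cmem : cA ∈ H := ⟨smul_of_sim sim_c fix_checks.2.2.1, smul_of_sim sim_c fix_checks.2.2.2.1⟩
theorem emem : hA ∈ H := ⟨smul_of_sim sim_h fix_checks.2.2.2.2.1, smul_of_sim sim_h fix_checks.2.2.2.2.2.1⟩

theorem hA_pow : hA ^ 5 = 1 := by
  have h4 : Sim (hA ^ 4) (matA hMat4) := by
    rw [pow_succ', pow_succ', pow_succ', pow_one]
    exact sim_next sim_h (sim_next sim_h (sim_next sim_h sim_h rfl next₂) rfl next₃) rfl next₄
  rw [pow_succ']
  refine eq_one_of_sim (f := fun x => forceL (matA hMat4 x) (matA hMat)) (fun v => ?_) order_check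
  simp only [forceL_eq]
  exact (sim_h.mul h4) v

theorem simP_e : SimP hA eF := by
  refine simP_five sim_h ?_ ?_ ?_ hA_pow
  · rw [pow_succ', pow_one]; exact sim_next sim_h sim_h rfl next₂
  · rw [pow_succ', pow_succ', pow_one]
    exact sim_next sim_h (sim_next sim_h sim_h rfl next₂) rfl next₃
  · rw [pow_succ', pow_succ', pow_succ', pow_one]
    exact sim_next sim_h (sim_next sim_h (sim_next sim_h sim_h rfl next₂) rfl next₃) rfl next₄

theorem comm_e : hA * cA = cA * hA := eq_of_sim (sim_h.mul sim_c) (sim_c.mul sim_h) comm_check.1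

theorem simP_bpow (k : ℕ) : SimP (bA ^ k) fun n => permI (mulI (k * n)) := fun n => by
  rw [← pow_mul]; exact simP_b _

theorem sims (k i j : ℕ) : List.Forall₂ SimP [bA ^ k, hA ^ i * cA ^ j] (funs k i j) :=
  .cons (simP_bpow k) (.cons (simP_funC simP_e comm_e i j) .nil)

theorem sims₁ : List.Forall₂ SimP [bA, hA] (funs 1 1 0) := by
  have h := sims 1 1 0
  simpa only [pow_one, pow_zero, mul_one] using h

theorem sims₃ : List.Forall₂ SimP [bA, cA, hA] funs3 :=
  .cons simP_b (.cons simP_c (.cons simP_e .nil))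

theorem leechU_eq : Spor.leechU = eightAt none - Spor.leechU' := by
  refine Subtype.ext (funext fun p => ?_)
  show Spor.vecU p = (eightAt none : GolayPt → ℤ) p - Spor.vecU' p
  rw [eightAt_apply]
  simp only [Spor.vecU, Spor.vecU']
  split_ifs <;> simp_all

theorem triple {g : Co0} (hV : g • Spor.leechV = Spor.leechV) (hW : g • Spor.leechU' = Spor.leechU')
    (h8 : g • eightAt none = eightAt none) : g ∈ tripleStab :=
  ⟨⟨hV, by show g • Spor.leechU = Spor.leechU; rw [leechU_eq, Leech.smul_sub', h8, hW]⟩, hW⟩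

theorem le_closure : H ≤ Subgroup.closure {bA, cA, hA} := by
  set K := Subgroup.closure ({bA, cA, hA} : Set Co0)
  have hgens : ∀ g ∈ [bA, cA, hA], g ∈ K := fun g hg => Subgroup.subset_closure (by simpa using hg)
  have hKH : K ≤ H := (Subgroup.closure_le _).2 (by
    rintro g (rfl | rfl | rfl)
    exacts [bmem, cmem, emem])
  have hsig : permHom (ofList sigH) ∈ K := by
    rw [← eq_of_sim (sim_ev sims₃ _) (sim_ofList gens_ok.2.2.2.2.2.1) word_sig]
    exact ev_mem hgens _
  have hperm : tripleStab ≤ K := fun g hg => by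
    obtain ⟨σ, h0, h1, rfl⟩ := Cfsg.Agent.McLSimple.exists_perm_of_fix hg
    refine perm_mem progH_ok (by norm_num) ?_ σ fun p hp => ?_
    · intro L hL
      simp only [List.mem_cons, List.not_mem_nil, or_false] at hL
      rcases hL with rfl | rfl | rfl
      exacts [⟨bP, hgens _ (by simp [bA]), toList_bP⟩, ⟨cP, hgens _ (by simp [cA]), toList_cP⟩,
        ⟨_, hsig, toList_ofList gens_ok.2.2.2.2.2.1⟩]
    · simp only [q5, List.take_succ_cons, List.take_zero, List.mem_cons, List.not_mem_nil, or_false] at hp
      rcases hp with hp | hp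
      · rwa [show p = none from idx_injective hp]
      · rwa [show p = some 0 from idx_injective (hp.trans (by decide +kernel))]
  have hU : Sel (Spor.leechU : GolayPt → ℤ) := by
    show Sel Spor.vecU
    unfold Sel; decide +kernel
  let k : Fin 100 → Co0 := fun i => evG [bA, cA, hA] (orbitWords.getD i [])
  have hk : ∀ i, k i ∈ K := fun i => ev_mem hgens _
  haveI : Finite Pts := Nat.finite_of_card_ne_zero (by rw [Cfsg.Agent.HSGraph.Lat.card_pts_sel]; norm_num)
  let F : Fin 100 → Pts := fun i => ⟨k i • Spor.leechU, Cfsg.Agent.HSGraph.Lat.sel_smul (hKH (hk i)) hU⟩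
  have hbij : Function.Bijective F := by
    refine (Nat.bijective_iff_injective_and_card F).2 ⟨fun a b e => ?_, by
      rw [Nat.card_fin, Cfsg.Agent.HSGraph.Lat.card_pts_sel]⟩
    have e' := congrArg (fun z : Pts => co ((z.1 : leechLattice) : GolayPt → ℤ)) e
    simp only [F, k, (sim_ev sims₃ _) Spor.leechU] at e'
    have hd := orbit_nodup
    rw [List.nodup_iff_injective_getElem] at hd
    have ha : (a : ℕ) < (orbitWords.map fun w => evF funs3 w (co Spor.vecU)).length := by
      rw [List.length_map, orbit_len]; exact a.2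
    have hb : (b : ℕ) < (orbitWords.map fun w => evF funs3 w (co Spor.vecU)).length := by
      rw [List.length_map, orbit_len]; exact b.2
    refine Fin.ext ?_
    have := @hd ⟨a, ha⟩ ⟨b, hb⟩ (by
      simp only [List.getElem_map]
      rw [← List.getD_eq_getElem orbitWords [] (by rw [orbit_len]; exact a.2),
        ← List.getD_eq_getElem orbitWords [] (by rw [orbit_len]; exact b.2)]
      exact e')
    exact Fin.ext_iff.1 this
  intro h hh
  obtain ⟨i, hi⟩ := hbij.2 ⟨h • Spor.leechU, Cfsg.Agent.HSGraph.Lat.sel_smul hh hU⟩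
  have e : k i • Spor.leechU = h • Spor.leechU := congrArg Subtype.val hi
  have hm : (k i)⁻¹ * h ∈ tripleStab := by
    have h1 := H.mul_mem (H.inv_mem (hKH (hk i))) hh
    exact ⟨⟨h1.1, by
      show ((k i)⁻¹ * h) • Spor.leechU = Spor.leechU
      rw [mul_smul, ← e, inv_smul_smul]⟩, h1.2⟩
  simpa using K.mul_mem (hk i) (hperm hm)

/-- The generators. -/
noncomputable def bH : H := ⟨bA, bmem⟩
/-- The generators. -/
noncomputable def cH : H := ⟨cA, cmem⟩
/-- The generators. -/
def eH : H := ⟨hA, emem⟩

theorem gen_top : Subgroup.closure ({bH, cH, eH} : Set H) = ⊤ :=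
  closure_eq_top (by rw [Set.image_insert_eq, Set.image_insert_eq, Set.image_singleton]; exact le_closure)

theorem cent_b (g : H) (hg : (g : Co0) * bA = bA * g) : ∃ i : ℕ, (g : Co0) = bA ^ i := by
  obtain ⟨f, hf, hs⟩ := exists_cand hg
  have hc := List.all_eq_true.1 cand_check.1 f hf
  simp only [Bool.or_eq_true, Bool.not_eq_true', beq_eq_false_iff_ne, List.any_eq_true] at hc
  rcases hc with (h | h) | ⟨i, -, h⟩
  · exact absurd (sim_of_smul hs g.2.1) h
  · exact absurd (sim_of_smul hs g.2.2) h
  · exact ⟨i, eq_of_sim hs (simP_b i) h⟩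

theorem pi_V : piA • Spor.leechV = Spor.leechV + Spor.leechU' := by
  refine smul_of_sim sim_pi (fix_checks.2.2.2.2.2.2.1.trans ?_)
  refine List.ext_getElem (by simp [addV, vL, wL, co]) fun i h1 h2 => ?_
  simp [addV, vL, wL, co]
  rfl

theorem pi_W : piA • Spor.leechU' = -Spor.leechU' := by
  refine smul_of_sim sim_pi (fix_checks.2.2.2.2.2.2.2.trans ?_)
  simp [negA, wL, co]
  exact fun a _ => rfl

theorem pi_normal (x : Co0) (hx : x ∈ H) : piA * x * piA⁻¹ ∈ H := by
  have h1 : x • Spor.leechV = Spor.leechV := hx.1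
  have h2 : x • Spor.leechU' = Spor.leechU' := hx.2
  have e1 : piA • (Spor.leechV + Spor.leechU') = Spor.leechV := by
    rw [Leech.smul_add', pi_V, pi_W]; abel
  have e2 : piA • (-Spor.leechU') = Spor.leechU' := by rw [Leech.smul_neg', pi_W, neg_neg]
  constructor
  · show (piA * x * piA⁻¹) • Spor.leechV = Spor.leechV
    rw [mul_smul, mul_smul, pi_inv, pi_V, Leech.smul_add', h1, h2, e1]
  · show (piA * x * piA⁻¹) • Spor.leechU' = Spor.leechU'
    rw [mul_smul, mul_smul, pi_inv, pi_W, Leech.smul_neg', h2, e2]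

/-- The outer automorphism. -/
def theta : MulAut H := normConj piA pi_normal fun x hx => by
  have h := pi_normal x hx
  rw [pi_inv] at h ⊢
  exact h

theorem theta_outer : theta ∉ Inn H := by
  rintro ⟨h, e⟩
  have h1 : (h : Co0) * bA * (h : Co0)⁻¹ = piA * bA * piA⁻¹ :=
    congrArg (fun θ : MulAut H => ((θ bH : H) : Co0)) e
  have hcomm : (piA⁻¹ * h) * bA = bA * (piA⁻¹ * h) := by
    calc piA⁻¹ * (h : Co0) * bA = piA⁻¹ * ((h : Co0) * bA * (h : Co0)⁻¹) * h := by group
      _ = piA⁻¹ * (piA * bA * piA⁻¹) * h := by rw [h1]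
      _ = bA * (piA⁻¹ * h) := by group
  obtain ⟨f, hf, hs⟩ := exists_cand hcomm
  have hh : Sim (h : Co0) (fun x => permA piL (f x)) := by
    have := sim_pi.mul hs
    rwa [mul_inv_cancel_left] at this
  have hc := List.all_eq_true.1 cand_check.2 f hf
  simp only [Bool.or_eq_true, Bool.not_eq_true', beq_eq_false_iff_ne] at hc
  rcases hc with hc | hc
  · exact hc (sim_of_smul hh h.2.1)
  · exact hc (sim_of_smul hh h.2.2)

theorem theta_values : theta bH = bH ^ 10 ∧ theta cH = cH ∧ theta eH = eH ^ 4 := by
  refine ⟨Subtype.ext ?_, Subtype.ext ?_, Subtype.ext ?_⟩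
  · show piA * bA * piA⁻¹ = bA ^ 10
    rw [pi_b, inv_eq_iff_mul_eq_one, ← pow_succ', bA_pow]
  · show piA * cA * piA⁻¹ = cA
    rw [mul_inv_eq_iff_eq_mul]
    exact eq_of_sim (sim_pi.mul sim_c) (sim_c.mul sim_pi) comm_check.2.2
  · show piA * hA * piA⁻¹ = hA ^ 4
    rw [pi_inv]
    refine eq_of_sim (g := piA * hA * piA)
      (f := fun x => forceL (forceL (permA piL x) (matA hMat)) (permA piL)) (fun v => ?_) (simP_e 4) comm_check.2.1
    simp only [forceL_eq]
    exact ((sim_pi.mul sim_h).mul sim_pi) v

/-- There are two classes. -/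
theorem card_out : Nat.card (Out H) = 2 := by
  refine card_out_two gen_top theta theta_outer fun φ => ?_
  obtain ⟨g, k, hk, eb, ec⟩ := normal_bc bmem cmem cent_b φ
  set ψ := MulAut.conj g * φ
  have hψv : ∀ x, ψ x = g * φ x * g⁻¹ := fun x => rfl
  rw [← hψv] at eb ec
  change ψ bH = bH ^ k at eb
  change ψ cH = cH at ec
  refine ⟨g, ?_⟩
  simp only [← hψv]
  have hec : eH * cH = cH * eH := Subtype.ext comm_e
  have hxc : ((ψ eH : H) : Co0) * cA = cA * (ψ eH : H) := by
    have h := congrArg ψ hec
    rw [map_mul, map_mul, ec] at h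
    exact congrArg Subtype.val h
  obtain ⟨i, hi, j, hj, he⟩ := exists_pow (W := Spor.leechU') (s := -1) (by norm_num) simP_e emem.1 emem.2 comm_e
    (fun x => by
      show dotInt Spor.vecU' x = _
      rw [Cfsg.Agent.HSGraph.Lat.dot_vecU']; ring)
    enum_check (fun g a b c => triple a b c) (ψ eH).2.1 (ψ eH).2.2 hxc
  have h1 : evG [bH, eH] relW = 1 := Subtype.ext (by
    refine Eq.trans (map_ev H.subtype [bH, eH] relW) ?_
    exact eq_one_of_sim (sim_ev sims₁ _) rel_holds)
  have h2 := congrArg ψ h1
  rw [map_ev, map_one] at h2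
  have h3 := congrArg H.subtype h2
  rw [map_ev, map_one] at h3
  simp only [List.map_cons, List.map_nil, eb, map_pow] at h3
  rw [show H.subtype bH = bA from rfl, show H.subtype (ψ eH) = _ from he] at h3
  have hr := List.all_eq_true.1 (List.all_eq_true.1 (List.all_eq_true.1 rel_fails k hk) i
    (List.mem_range.2 hi)) j (List.mem_range.2 hj)
  simp only [Bool.or_eq_true, decide_eq_true_iff, bne_iff_ne] at hr
  rcases hr with (⟨rfl, rfl, rfl⟩ | ⟨rfl, rfl, rfl⟩) | hr
  · left
    rintro x (rfl | rfl | rfl)
    exacts [eb.trans (pow_one _), ec, Subtype.ext (by simpa [eH] using he)]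
  · right
    rintro x (rfl | rfl | rfl)
    exacts [eb.trans theta_values.1.symm, ec.trans theta_values.2.1.symm,
      (Subtype.ext (by simpa [eH] using he) : ψ eH = eH ^ 4).trans theta_values.2.2.symm]
  · exfalso
    have := List.all_eq_true.1 (sameAct_of_eq (sim_ev (sims k i j) relW) sim_one h3) 1
      (List.mem_range.2 (by norm_num))
    rw [beq_iff_eq] at this
    exact hr this

end CfsgLib.OutConway.Hundred
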