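import Cfsg.Agent.OutConway.Twist

/-!
# Automorphisms of the first pair stabiliser
-/

set_option autoImplicit false

namespace CfsgLib.OutConway.Pair275

open Cfsg CfsgLib CfsgLib.Golay CfsgLib.Leech MulAction
open Cfsg.Agent.McLSimple (tripleStab mclStab)
open CfsgLib.Golay.Cert (genOK ofList toList_ofList q5)

attribute [local irreducible] shortVecs halfTable quarterTable codeFinset

/-- The group. -/
abbrev H : Subgroup Co0 := stabilizer Co0 Spor.leechV ⊓ stabilizer Co0 Spor.leechU

/-- The coordinates of the first vector. -/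
def vL : List ℤ := co Spor.vecV

/-- The coordinates of the second vector. -/
def wL : List ℤ := co Spor.vecU

/-- The powers of the element of order five. -/
def eF : ℕ → List ℤ → List ℤ := powE mMat mMat2 mMat3 mMat4

/-- The images of the generators as functions. -/
def funs (k i j : ℕ) : List (ℕ → List ℤ → List ℤ) := [fun n => permI (mulI (k * n)), funC eF i j]

/-- The generators as functions. -/
def funs3 : List (ℕ → List ℤ → List ℤ) := [fun n => permI (mulI n), fun n => permI (twistI n), eF]

/-- The first relation. -/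
def relA : List (ℕ × ℕ) := rep 7 [(0, 3), (1, 1)]

/-- The second relation. -/
def relB : List (ℕ × ℕ) := rep 6 [(0, 8), (1, 2), (0, 1), (1, 1)]

theorem fix_checks : permA bL vL = vL ∧ permA bL wL = wL ∧ permA cL vL = vL ∧ permA cL wL = wL ∧
    matA mMat vL = vL ∧ matA mMat wL = wL ∧ matA zMat vL = vL ∧ matA zMat wL = negA (addV wL vL) ∧
    matA mMat (co Spor.vecU') ≠ co Spor.vecU' := by
  decide +kernel

theorem next₂ : ((List.range 24).all fun i => forceL (matA mMat (unit8 i)) (matA mMat) == mMat2.getD i []) = true := by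
  decide +kernel

theorem next₃ : ((List.range 24).all fun i => forceL (matA mMat2 (unit8 i)) (matA mMat) == mMat3.getD i []) = true := by
  decide +kernel

theorem next₄ : ((List.range 24).all fun i => forceL (matA mMat3 (unit8 i)) (matA mMat) == mMat4.getD i []) = true := by
  decide +kernel

theorem order_check : sameAct (fun x => forceL (matA mMat4 x) (matA mMat)) id = true := by decide +kernel

theorem comm_check : sameAct (fun x => matA mMat (permA cL x)) (fun x => permA cL (matA mMat x)) = true ∧
    sameAct (fun x => forceL (forceL (matA zMat x) (matA mMat)) (matA zMat)) (matA mMat4) = true ∧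
    sameAct (fun x => matA zMat (permA cL x)) (fun x => permA cL (matA zMat x)) = true ∧
    sameAct (fun x => matA zMat (permA bL x)) (fun x => permA bL (matA zMat x)) = true ∧
    sameAct (fun x => matA zMat (matA zMat x)) id = true := by decide +kernel

theorem enum_check : ((enumC 1).all fun x => (List.range 5).any fun i => eF i (unit8 23) == x) = true := by
  decide +kernel

theorem inner_check : ((List.range 11).all fun i => !(sameAct (fun x => forceL (matA mMat x) (permI (mulI i)))
    (fun x => forceL (permI (mulI i) x) (matA mMat4)))) = true := by decide +kernel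

theorem rel_holdsA : sameAct (evF (funs 1 1 0) relA) id = true := by decide +kernel

theorem rel_part₀ : ((List.range 12).all fun i =>
    evF (funs 1 1 0) relB (unit8 (12 * 0 + i)) == unit8 (12 * 0 + i)) = true := by decide +kernel

theorem rel_part₁ : ((List.range 12).all fun i =>
    evF (funs 1 1 0) relB (unit8 (12 * 1 + i)) == unit8 (12 * 1 + i)) = true := by decide +kernel

theorem rel_holdsB : sameAct (evF (funs 1 1 0) relB) id = true := by
  refine List.all_eq_true.2 fun i hi => ?_
  have hi' := List.mem_range.1 hi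
  have hm : i % 12 ∈ List.range 12 := List.mem_range.2 (Nat.mod_lt _ (by norm_num))
  have he : 12 * (i / 12) + i % 12 = i := Nat.div_add_mod i 12
  rcases show i / 12 = 0 ∨ i / 12 = 1 by omega with e | e <;> rw [e] at he
  · have h := List.all_eq_true.1 rel_part₀ _ hm
    rw [he] at h
    exact h
  · have h := List.all_eq_true.1 rel_part₁ _ hm
    rw [he] at h
    exact h

theorem rel_fails : ([1, 10].all fun k => (List.range 5).all fun i => (List.range 5).all fun j =>
    decide (k = 1 ∧ i = 1 ∧ j = 0) || decide (k = 1 ∧ i = 4 ∧ j = 0) ||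
      evF (funs k i j) relA (unit8 1) != unit8 1 || evF (funs k i j) relB (unit8 1) != unit8 1) = true := by
  decide +kernel

theorem word_sig : sameAct (evF funs3 [(2, 4), (0, 2), (2, 4), (0, 3), (2, 1), (0, 1), (2, 2)]) (permA sigM) = true := by
  decide +kernel

theorem cand_check : (candB.all fun f => !(f vL == vL) || !(f wL == wL) ||
    (List.range 11).any fun i => sameAct f (permI (mulI i))) = true := by decide +kernel

theorem bmem : bA ∈ H := ⟨smul_of_sim sim_b fix_checks.1, smul_of_sim sim_b fix_checks.2.1⟩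
theorem cmem : cA ∈ H := ⟨smul_of_sim sim_c fix_checks.2.2.1, smul_of_sim sim_c fix_checks.2.2.2.1⟩
theorem emem : mA ∈ H := ⟨smul_of_sim sim_m fix_checks.2.2.2.2.1, smul_of_sim sim_m fix_checks.2.2.2.2.2.1⟩

theorem mA_pow : mA ^ 5 = 1 := by
  have h4 : Sim (mA ^ 4) (matA mMat4) := by
    rw [pow_succ', pow_succ', pow_succ', pow_one]
    exact sim_next sim_m (sim_next sim_m (sim_next sim_m sim_m rfl next₂) rfl next₃) rfl next₄
  rw [pow_succ']
  refine eq_one_of_sim (f := fun x => forceL (matA mMat4 x) (matA mMat)) (fun v => ?_) order_check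
  simp only [forceL_eq]
  exact (sim_m.mul h4) v

theorem simP_e : SimP mA eF := by
  refine simP_five sim_m ?_ ?_ ?_ mA_pow
  · rw [pow_succ', pow_one]; exact sim_next sim_m sim_m rfl next₂
  · rw [pow_succ', pow_succ', pow_one]
    exact sim_next sim_m (sim_next sim_m sim_m rfl next₂) rfl next₃
  · rw [pow_succ', pow_succ', pow_succ', pow_one]
    exact sim_next sim_m (sim_next sim_m (sim_next sim_m sim_m rfl next₂) rfl next₃) rfl next₄

theorem comm_e : mA * cA = cA * mA := eq_of_sim (sim_m.mul sim_c) (sim_c.mul sim_m) comm_check.1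

theorem simP_bpow (k : ℕ) : SimP (bA ^ k) fun n => permI (mulI (k * n)) := fun n => by
  rw [← pow_mul]; exact simP_b _

theorem sims (k i j : ℕ) : List.Forall₂ SimP [bA ^ k, mA ^ i * cA ^ j] (funs k i j) :=
  .cons (simP_bpow k) (.cons (simP_funC simP_e comm_e i j) .nil)

theorem sims₁ : List.Forall₂ SimP [bA, mA] (funs 1 1 0) := by
  have h := sims 1 1 0
  simpa only [pow_one, pow_zero, mul_one] using h

theorem sims₃ : List.Forall₂ SimP [bA, cA, mA] funs3 :=
  .cons simP_b (.cons simP_c (.cons simP_e .nil))

theorem leechU'_eq : Spor.leechU' = eightAt none - Spor.leechU := by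
  refine Subtype.ext (funext fun p => ?_)
  show Spor.vecU' p = (eightAt none : GolayPt → ℤ) p - Spor.vecU p
  rw [eightAt_apply]
  simp only [Spor.vecU, Spor.vecU']
  split_ifs <;> simp_all

theorem triple {g : Co0} (hV : g • Spor.leechV = Spor.leechV) (hW : g • Spor.leechU = Spor.leechU)
    (h8 : g • eightAt none = eightAt none) : g ∈ tripleStab :=
  ⟨⟨hV, hW⟩, by show g • Spor.leechU' = Spor.leechU'; rw [leechU'_eq, Leech.smul_sub', h8, hW]⟩

theorem le_closure : H ≤ Subgroup.closure {bA, cA, mA} := by
  set K := Subgroup.closure ({bA, cA, mA} : Set Co0)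
  have hgens : ∀ g ∈ [bA, cA, mA], g ∈ K := fun g hg => Subgroup.subset_closure (by simpa using hg)
  have hKH : K ≤ H := (Subgroup.closure_le _).2 (by
    rintro g (rfl | rfl | rfl)
    exacts [bmem, cmem, emem])
  have hsig : permHom (ofList sigM) ∈ K := by
    rw [← eq_of_sim (sim_ev sims₃ _) (sim_ofList gens_ok.2.2.2.2.2.2.1) word_sig]
    exact ev_mem hgens _
  have hperm : tripleStab ≤ K := fun g hg => by
    obtain ⟨σ, h0, h1, rfl⟩ := Cfsg.Agent.McLSimple.exists_perm_of_fix hg
    refine perm_mem progM_ok (by norm_num) ?_ σ fun p hp => ?_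
    · intro L hL
      simp only [List.mem_cons, List.not_mem_nil, or_false] at hL
      rcases hL with rfl | rfl | rfl
      exacts [⟨bP, hgens _ (by simp [bA]), toList_bP⟩, ⟨cP, hgens _ (by simp [cA]), toList_cP⟩,
        ⟨_, hsig, toList_ofList gens_ok.2.2.2.2.2.2.1⟩]
    · simp only [q5, List.take_succ_cons, List.take_zero, List.mem_cons, List.not_mem_nil, or_false] at hp
      rcases hp with hp | hp
      · rwa [show p = none from idx_injective hp]
      · rwa [show p = some 0 from idx_injective (hp.trans (by decide +kernel))]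
  have hfull := mcl_full (L := K) hperm hKH ⟨mA, hgens _ (by simp),
    fun e => fix_checks.2.2.2.2.2.2.2.2 (sim_of_smul (v := Spor.leechU') (w := Spor.leechU') sim_m e)⟩
  exact hfull.ge

/-- The generators. -/
noncomputable def bH : H := ⟨bA, bmem⟩
/-- The generators. -/
noncomputable def cH : H := ⟨cA, cmem⟩
/-- The generators. -/
def eH : H := ⟨mA, emem⟩

theorem gen_top : Subgroup.closure ({bH, cH, eH} : Set H) = ⊤ :=
  closure_eq_top (by rw [Set.image_insert_eq, Set.image_insert_eq, Set.image_singleton]; exact le_closure)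

theorem cent_b (g : H) (hg : (g : Co0) * bA = bA * g) : ∃ i : ℕ, (g : Co0) = bA ^ i := by
  obtain ⟨f, hf, hs⟩ := exists_cand hg
  have hc := List.all_eq_true.1 cand_check f hf
  simp only [Bool.or_eq_true, Bool.not_eq_true', beq_eq_false_iff_ne, List.any_eq_true] at hc
  rcases hc with (h | h) | ⟨i, -, h⟩
  · exact absurd (sim_of_smul hs g.2.1) h
  · exact absurd (sim_of_smul hs g.2.2) h
  · exact ⟨i, eq_of_sim hs (simP_b i) h⟩

theorem z_inv : zA⁻¹ = zA :=
  inv_eq_of_mul_eq_one_left (eq_one_of_sim (sim_z.mul sim_z) comm_check.2.2.2.2)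

theorem z_V : zA • Spor.leechV = Spor.leechV := smul_of_sim sim_z fix_checks.2.2.2.2.2.2.1

theorem z_W : zA • Spor.leechU = -(Spor.leechU + Spor.leechV) := by
  refine smul_of_sim sim_z (fix_checks.2.2.2.2.2.2.2.1.trans ?_)
  refine List.ext_getElem (by simp [negA, addV, vL, wL, co]) fun i h1 h2 => ?_
  simp [negA, addV, vL, wL, co]
  rfl

theorem z_normal (x : Co0) (hx : x ∈ H) : zA * x * zA⁻¹ ∈ H := by
  have h1 : x • Spor.leechV = Spor.leechV := hx.1
  have h2 : x • Spor.leechU = Spor.leechU := hx.2
  constructor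
  · show (zA * x * zA⁻¹) • Spor.leechV = Spor.leechV
    rw [mul_smul, mul_smul, z_inv, z_V, h1, z_V]
  · show (zA * x * zA⁻¹) • Spor.leechU = Spor.leechU
    rw [mul_smul, mul_smul, z_inv, z_W, Leech.smul_neg', Leech.smul_add', h1, h2, Leech.smul_neg',
      Leech.smul_add', z_V, z_W]
    abel

/-- The outer automorphism. -/
def theta : MulAut H := normConj zA z_normal fun x hx => by
  have h := z_normal x hx
  rw [z_inv] at h ⊢
  exact h

theorem theta_values : theta bH = bH ∧ theta cH = cH ∧ theta eH = eH ^ 4 := by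
  refine ⟨Subtype.ext ?_, Subtype.ext ?_, Subtype.ext ?_⟩
  · show zA * bA * zA⁻¹ = bA
    rw [mul_inv_eq_iff_eq_mul]
    exact eq_of_sim (sim_z.mul sim_b) (sim_b.mul sim_z) comm_check.2.2.2.1
  · show zA * cA * zA⁻¹ = cA
    rw [mul_inv_eq_iff_eq_mul]
    exact eq_of_sim (sim_z.mul sim_c) (sim_c.mul sim_z) comm_check.2.2.1
  · show zA * mA * zA⁻¹ = mA ^ 4
    rw [z_inv]
    refine eq_of_sim (g := zA * mA * zA)
      (f := fun x => forceL (forceL (matA zMat x) (matA mMat)) (matA zMat)) (fun v => ?_) (simP_e 4) comm_check.2.1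
    simp only [forceL_eq]
    exact ((sim_z.mul sim_m).mul sim_z) v

theorem theta_outer : theta ∉ Inn H := by
  rintro ⟨h, e⟩
  have hv : ∀ x : H, h * x * h⁻¹ = theta x := fun x => DFunLike.congr_fun e x
  have hb := hv bH
  rw [theta_values.1] at hb
  obtain ⟨i, hi⟩ := cent_b h (congrArg Subtype.val
    (show h * bH = bH * h by conv_rhs => rw [← hb]
                             group))
  have he := hv eH
  rw [theta_values.2.2] at he
  have he' : (h : Co0) * mA = mA ^ 4 * h := by
    have h2 : h * eH = eH ^ 4 * h := by rw [← he]; group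
    exact congrArg Subtype.val h2
  rw [hi] at he'
  have hs : sameAct (fun x => forceL (matA mMat x) (permI (mulI (i % 11))))
      (fun x => forceL (permI (mulI (i % 11)) x) (matA mMat4)) = true := by
    refine sameAct_of_eq (g := bA ^ (i % 11) * mA) (h := mA ^ 4 * bA ^ (i % 11)) (fun v => ?_) (fun v => ?_) ?_
    · simp only [forceL_eq]; exact ((simP_b (i % 11)).mul sim_m) v
    · simp only [forceL_eq]; exact ((simP_e 4).mul (simP_b (i % 11))) v
    · rwa [← pow_eq_pow_mod i bA_pow]
  have hc := List.all_eq_true.1 inner_check (i % 11) (List.mem_range.2 (Nat.mod_lt _ (by norm_num)))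
  rw [hs] at hc
  exact Bool.noConfusion hc

/-- There are two classes. -/
theorem card_out : Nat.card (Out H) = 2 := by
  refine card_out_two gen_top theta theta_outer fun φ => ?_
  obtain ⟨g, k, hk, eb, ec⟩ := normal_bc bmem cmem cent_b φ
  set ψ := MulAut.conj g * φ
  have hψv : ∀ x, ψ x = g * φ x * g⁻¹ := fun x => rfl
  rw [← hψv] at eb ec
  change ψ bH = bH ^ k at eb
  change ψ cH = cH at ec
  refine ⟨g, ?_⟩
  simp only [← hψv]
  have hec : eH * cH = cH * eH := Subtype.ext comm_e
  have hxc : ((ψ eH : H) : Co0) * cA = cA * (ψ eH : H) := by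
    have h := congrArg ψ hec
    rw [map_mul, map_mul, ec] at h
    exact congrArg Subtype.val h
  obtain ⟨i, hi, j, hj, he⟩ := exists_pow (W := Spor.leechU) (s := 1) (by norm_num) simP_e emem.1 emem.2 comm_e
    (fun x => by
      rw [Leech.dot_U]; ring)
    enum_check (fun g a b c => triple a b c) (ψ eH).2.1 (ψ eH).2.2 hxc
  have key : ∀ W, sameAct (evF (funs 1 1 0) W) id = true → sameAct (evF (funs k i j) W) id = true := by
    intro W hW
    have h1 : evG [bH, eH] W = 1 := Subtype.ext (by
      refine Eq.trans (map_ev H.subtype [bH, eH] W) ?_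
      exact eq_one_of_sim (sim_ev sims₁ _) hW)
    have h2 := congrArg ψ h1
    rw [map_ev, map_one] at h2
    have h3 := congrArg H.subtype h2
    rw [map_ev, map_one] at h3
    simp only [List.map_cons, List.map_nil, eb, map_pow] at h3
    rw [show H.subtype bH = bA from rfl, show H.subtype (ψ eH) = _ from he] at h3
    exact sameAct_of_eq (sim_ev (sims k i j) W) sim_one h3
  have hr := List.all_eq_true.1 (List.all_eq_true.1 (List.all_eq_true.1 rel_fails k hk) i
    (List.mem_range.2 hi)) j (List.mem_range.2 hj)
  simp only [Bool.or_eq_true, decide_eq_true_iff, bne_iff_ne] at hr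
  have h1 : ∀ W, sameAct (evF (funs 1 1 0) W) id = true → evF (funs k i j) W (unit8 1) = unit8 1 := fun W hW => by
    simpa using List.all_eq_true.1 (key W hW) 1 (List.mem_range.2 (by norm_num))
  rcases hr with ((⟨rfl, rfl, rfl⟩ | ⟨rfl, rfl, rfl⟩) | hr) | hr
  · left
    rintro x (rfl | rfl | rfl)
    exacts [eb.trans (pow_one _), ec, Subtype.ext (by simpa [eH] using he)]
  · right
    rintro x (rfl | rfl | rfl)
    exacts [(eb.trans (pow_one _)).trans theta_values.1.symm, ec.trans theta_values.2.1.symm,
      (Subtype.ext (by simpa [eH] using he) : ψ eH = eH ^ 4).trans theta_values.2.2.symm]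
  · exact absurd (h1 _ rel_holdsA) hr
  · exact absurd (h1 _ rel_holdsB) hr

end CfsgLib.OutConway.Pair275
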