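import Mathlib.Data.List.Range

/-!
# Tables for the automorphism groups of the groups of the lattice
-/

set_option autoImplicit false

namespace CfsgLib.OutConway

/-- An element commuting with the multiplier, fixing the vector of squared length 48. -/
def zMat : List (List ℤ) := [
  [-4, 0, 0, 0, 0, 2, 0, 2, 0, 0, 2, 2, 0, 0, 2, 2, 0, 2, 0, 2, 2, 2, 2, -2],
  [0, -4, 0, 0, 0, 2, 0, -2, 0, 0, -2, -2, 0, 0, 2, 2, 0, -2, 0, 2, 2, 2, -2, 2],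
  [0, 0, -4, 0, 0, 2, 0, 2, 0, 0, 2, -2, 0, 0, -2, 2, 0, 2, 0, 2, -2, -2, -2, 2],
  [0, 0, 0, -4, 0, -2, 0, -2, 0, 0, -2, 2, 0, 0, 2, 2, 0, 2, 0, 2, -2, -2, 2, 2],
  [0, 0, 0, 0, -4, -2, 0, 2, 0, 0, 2, 2, 0, 0, 2, 2, 0, -2, 0, -2, 2, -2, -2, 2],
  [2, 2, 2, -2, -2, 4, 2, 0, 2, 2, 0, 0, -2, -2, 0, 0, 2, 0, -2, 0, 0, 0, 0, 0],
  [0, 0, 0, 0, 0, 2, -4, 2, 0, 0, -2, 2, 0, 0, -2, 2, 0, -2, 0, -2, -2, 2, 2, 2],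
  [2, -2, 2, -2, 2, 0, 2, 4, 2, -2, 0, 0, 2, 2, 0, 0, -2, 0, -2, 0, 0, 0, 0, 0],
  [0, 0, 0, 0, 0, 2, 0, 2, -4, 0, -2, -2, 0, 0, 2, -2, 0, 2, 0, -2, 2, -2, 2, 2],
  [0, 0, 0, 0, 0, 2, 0, -2, 0, -4, 2, 2, 0, 0, -2, -2, 0, -2, 0, 2, 2, -2, 2, 2],
  [2, -2, 2, -2, 2, 0, -2, 0, -2, 2, 4, 0, 2, -2, 0, 0, 2, 0, 2, 0, 0, 0, 0, 0],
  [2, -2, -2, 2, 2, 0, 2, 0, -2, 2, 0, 4, -2, 2, 0, 0, 2, 0, -2, 0, 0, 0, 0, 0],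
  [0, 0, 0, 0, 0, -2, 0, 2, 0, 0, 2, -2, -4, 0, 2, -2, 0, -2, 0, 2, -2, 2, 2, 2],
  [0, 0, 0, 0, 0, -2, 0, 2, 0, 0, -2, 2, 0, -4, -2, -2, 0, 2, 0, 2, 2, 2, -2, 2],
  [2, 2, -2, 2, 2, 0, -2, 0, 2, -2, 0, 0, 2, -2, 4, 0, 2, 0, -2, 0, 0, 0, 0, 0],
  [2, 2, 2, 2, 2, 0, 2, 0, -2, -2, 0, 0, -2, -2, 0, 4, -2, 0, 2, 0, 0, 0, 0, 0],
  [0, 0, 0, 0, 0, 2, 0, -2, 0, 0, 2, 2, 0, 0, 2, -2, -4, 2, 0, -2, -2, 2, -2, 2],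
  [2, -2, 2, 2, -2, 0, -2, 0, 2, -2, 0, 0, -2, 2, 0, 0, 2, 4, 2, 0, 0, 0, 0, 0],
  [0, 0, 0, 0, 0, -2, 0, -2, 0, 0, 2, -2, 0, 0, -2, 2, 0, 2, -4, -2, 2, 2, 2, 2],
  [2, 2, 2, 2, -2, 0, -2, 0, -2, 2, 0, 0, 2, 2, 0, 0, -2, 0, -2, 4, 0, 0, 0, 0],
  [2, 2, -2, -2, 2, 0, -2, 0, 2, 2, 0, 0, -2, 2, 0, 0, -2, 0, 2, 0, 4, 0, 0, 0],
  [2, 2, -2, -2, -2, 0, 2, 0, -2, -2, 0, 0, 2, 2, 0, 0, 2, 0, 2, 0, 0, 4, 0, 0],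
  [2, -2, -2, 2, -2, 0, 2, 0, 2, 2, 0, 0, 2, -2, 0, 0, -2, 0, 2, 0, 0, 0, 4, 0],
  [-2, 2, 2, 2, 2, 0, 2, 0, 2, 2, 0, 0, 2, 2, 0, 0, 2, 0, 2, 0, 0, 0, 0, 4]]

/-- An involution inverting the multiplier, fixing a shortest vector. -/
def yMat : List (List ℤ) := [
  [-2, 2, 2, 2, 2, 0, 2, 0, 2, 2, 0, 0, 2, 2, 0, 0, 2, 0, 2, 0, 0, 0, 0, 4],
  [2, 2, -2, 2, 2, 0, -2, 0, 2, -2, 0, 0, 2, -2, 4, 0, 2, 0, -2, 0, 0, 0, 0, 0],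
  [2, -2, 2, -2, 2, 0, 2, 4, 2, -2, 0, 0, 2, 2, 0, 0, -2, 0, -2, 0, 0, 0, 0, 0],
  [2, 2, -2, -2, 2, 0, -2, 0, 2, 2, 0, 0, -2, 2, 0, 0, -2, 0, 2, 0, 4, 0, 0, 0],
  [2, 2, 2, 2, 2, 0, 2, 0, -2, -2, 0, 0, -2, -2, 0, 4, -2, 0, 2, 0, 0, 0, 0, 0],
  [0, 0, 0, 0, 0, 2, 0, -2, 0, 0, -2, 2, 4, 0, -2, 2, 0, 2, 0, -2, 2, -2, -2, -2],
  [2, -2, 2, -2, 2, 0, -2, 0, -2, 2, 4, 0, 2, -2, 0, 0, 2, 0, 2, 0, 0, 0, 0, 0],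
  [0, 0, 4, 0, 0, -2, 0, -2, 0, 0, -2, 2, 0, 0, 2, -2, 0, -2, 0, -2, 2, 2, 2, -2],
  [2, 2, 2, 2, -2, 0, -2, 0, -2, 2, 0, 0, 2, 2, 0, 0, -2, 0, -2, 4, 0, 0, 0, 0],
  [2, -2, -2, 2, -2, 0, 2, 0, 2, 2, 0, 0, 2, -2, 0, 0, -2, 0, 2, 0, 0, 0, 4, 0],
  [0, 0, 0, 0, 0, -2, 4, -2, 0, 0, 2, -2, 0, 0, 2, -2, 0, 2, 0, 2, 2, -2, -2, -2],
  [0, 0, 0, 0, 0, 2, 0, 2, 0, 0, -2, 2, 0, 0, 2, -2, 0, -2, 4, 2, -2, -2, -2, -2],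
  [2, 2, 2, -2, -2, 4, 2, 0, 2, 2, 0, 0, -2, -2, 0, 0, 2, 0, -2, 0, 0, 0, 0, 0],
  [2, -2, 2, 2, -2, 0, -2, 0, 2, -2, 0, 0, -2, 2, 0, 0, 2, 4, 2, 0, 0, 0, 0, 0],
  [0, 4, 0, 0, 0, -2, 0, 2, 0, 0, 2, 2, 0, 0, -2, -2, 0, 2, 0, -2, -2, -2, 2, -2],
  [0, 0, 0, 0, 4, 2, 0, -2, 0, 0, -2, -2, 0, 0, -2, -2, 0, 2, 0, 2, -2, 2, 2, -2],
  [2, 2, -2, -2, -2, 0, 2, 0, -2, -2, 0, 0, 2, 2, 0, 0, 2, 0, 2, 0, 0, 4, 0, 0],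
  [0, 0, 0, 0, 0, 2, 0, -2, 0, 0, 2, -2, 0, 4, 2, 2, 0, -2, 0, -2, -2, -2, 2, -2],
  [2, -2, -2, 2, 2, 0, 2, 0, -2, 2, 0, 4, -2, 2, 0, 0, 2, 0, -2, 0, 0, 0, 0, 0],
  [0, 0, 0, 0, 0, -2, 0, -2, 4, 0, 2, 2, 0, 0, -2, 2, 0, -2, 0, 2, -2, 2, -2, -2],
  [0, 0, 0, 4, 0, 2, 0, 2, 0, 0, 2, -2, 0, 0, -2, -2, 0, -2, 0, -2, 2, 2, -2, -2],
  [0, 0, 0, 0, 0, -2, 0, 2, 0, 0, -2, -2, 0, 0, -2, 2, 4, -2, 0, 2, 2, -2, 2, -2],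
  [0, 0, 0, 0, 0, -2, 0, 2, 0, 4, -2, -2, 0, 0, 2, 2, 0, 2, 0, -2, -2, 2, -2, -2],
  [4, 0, 0, 0, 0, -2, 0, -2, 0, 0, -2, -2, 0, 0, -2, -2, 0, -2, 0, -2, -2, -2, -2, 2]]

/-- An element of order 5 commuting with the twist, fixing the second pair. -/
def hMat : List (List ℤ) := [
  [6, 0, 0, 0, 0, 0, 0, 0, 2, 2, 0, 0, 2, 2, 0, 2, 2, 0, 0, 0, 0, 0, 0, -2],
  [0, -2, 2, 2, 2, 2, 2, -2, 0, 0, -2, -2, 0, 0, 2, 0, 0, -2, 2, 2, 2, 2, -2, 0],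
  [0, 2, -2, 2, 2, 2, 2, 2, 0, 0, 2, -2, 0, 0, -2, 0, 0, 2, 2, 2, -2, -2, -2, 0],
  [2, 0, 0, 0, 0, 0, 0, 0, -2, -2, 0, 0, -2, -2, 0, 6, -2, 0, 0, 0, 0, 0, 0, 2],
  [0, 2, 2, 2, -2, -2, 2, 2, 0, 0, 2, 2, 0, 0, 2, 0, 0, -2, 2, -2, 2, -2, -2, 0],
  [2, 0, 0, 0, 0, 0, 0, 0, -2, 6, 0, 0, -2, -2, 0, -2, -2, 0, 0, 0, 0, 0, 0, 2],
  [0, 2, 2, 2, 2, 2, -2, 2, 0, 0, -2, 2, 0, 0, -2, 0, 0, -2, 2, -2, -2, 2, 2, 0],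
  [2, 0, 0, 0, 0, 0, 0, 0, -2, -2, 0, 0, -2, 6, 0, -2, -2, 0, 0, 0, 0, 0, 0, 2],
  [0, -2, 2, -2, -2, 2, 2, 2, 0, 0, 2, -2, 0, 0, 2, 0, 0, 2, 2, -2, -2, 2, 2, 0],
  [0, -2, -2, -2, 2, -2, 2, 2, 0, 0, 2, 2, 0, 0, -2, 0, 0, -2, 2, 2, 2, 2, 2, 0],
  [2, 0, 0, 0, 0, 0, 0, 0, -2, -2, 0, 0, -2, -2, 0, -2, 6, 0, 0, 0, 0, 0, 0, 2],
  [0, 2, -2, 2, -2, -2, -2, 2, 0, 0, -2, -2, 0, 0, 2, 0, 0, 2, 2, 2, 2, 2, 2, 0],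
  [0, 2, 2, -2, 2, 2, -2, 2, 0, 0, 2, -2, 0, 0, 2, 0, 0, -2, -2, 2, 2, -2, 2, 0],
  [0, 2, 2, -2, -2, 2, -2, -2, 0, 0, 2, 2, 0, 0, -2, 0, 0, 2, 2, 2, 2, 2, -2, 0],
  [0, -2, 2, 2, -2, 2, 2, 2, 0, 0, -2, 2, 0, 0, -2, 0, 0, 2, -2, 2, 2, -2, 2, 0],
  [0, 2, 2, -2, 2, -2, 2, -2, 0, 0, -2, 2, 0, 0, 2, 0, 0, 2, 2, 2, -2, -2, 2, 0],
  [0, 2, -2, -2, 2, 2, 2, 2, 0, 0, -2, 2, 0, 0, 2, 0, 0, 2, -2, -2, 2, 2, -2, 0],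
  [0, 2, -2, 2, -2, 2, 2, -2, 0, 0, 2, 2, 0, 0, 2, 0, 0, -2, -2, 2, -2, 2, 2, 0],
  [0, 2, 2, 2, 2, -2, 2, -2, 0, 0, 2, -2, 0, 0, -2, 0, 0, 2, -2, -2, 2, 2, 2, 0],
  [0, -2, -2, 2, 2, 2, -2, -2, 0, 0, 2, 2, 0, 0, 2, 0, 0, 2, 2, -2, 2, -2, 2, 0],
  [2, 0, 0, 0, 0, 0, 0, 0, 6, -2, 0, 0, -2, -2, 0, -2, -2, 0, 0, 0, 0, 0, 0, 2],
  [2, 0, 0, 0, 0, 0, 0, 0, -2, -2, 0, 0, 6, -2, 0, -2, -2, 0, 0, 0, 0, 0, 0, 2],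
  [0, -2, 2, 2, 2, -2, -2, 2, 0, 0, 2, 2, 0, 0, 2, 0, 0, 2, -2, 2, -2, 2, -2, 0],
  [-2, 0, 0, 0, 0, 0, 0, 0, 2, 2, 0, 0, 2, 2, 0, 2, 2, 0, 0, 0, 0, 0, 0, 6]]

/-- An element of order 5 commuting with the twist, fixing the first pair. -/
def mMat : List (List ℤ) := [
  [6, 0, 0, 0, 0, 0, 0, 0, -2, -2, 0, 0, -2, -2, 0, 2, -2, 0, 0, 0, 0, 0, 0, 2],
  [0, -2, 2, -2, 2, 2, 2, -2, 0, 0, -2, 2, 0, 0, -2, 0, 0, 2, 2, -2, 2, 2, 2, 0],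
  [0, 2, -2, -2, 2, 2, 2, 2, 0, 0, 2, 2, 0, 0, 2, 0, 0, -2, 2, -2, -2, -2, 2, 0],
  [2, 0, 0, 0, 0, 0, 0, 0, 2, 2, 0, 0, 2, 2, 0, 6, 2, 0, 0, 0, 0, 0, 0, -2],
  [0, 2, 2, -2, -2, -2, 2, 2, 0, 0, 2, -2, 0, 0, -2, 0, 0, 2, 2, 2, 2, -2, 2, 0],
  [-2, 0, 0, 0, 0, 0, 0, 0, -2, 6, 0, 0, -2, -2, 0, 2, -2, 0, 0, 0, 0, 0, 0, 2],
  [0, 2, 2, -2, 2, 2, -2, 2, 0, 0, -2, -2, 0, 0, 2, 0, 0, 2, 2, 2, -2, 2, -2, 0],
  [-2, 0, 0, 0, 0, 0, 0, 0, -2, -2, 0, 0, -2, 6, 0, 2, -2, 0, 0, 0, 0, 0, 0, 2],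
  [0, -2, 2, 2, -2, 2, 2, 2, 0, 0, 2, 2, 0, 0, -2, 0, 0, -2, 2, 2, -2, 2, -2, 0],
  [0, -2, -2, 2, 2, -2, 2, 2, 0, 0, 2, -2, 0, 0, 2, 0, 0, 2, 2, -2, 2, 2, -2, 0],
  [-2, 0, 0, 0, 0, 0, 0, 0, -2, -2, 0, 0, -2, -2, 0, 2, 6, 0, 0, 0, 0, 0, 0, 2],
  [0, -2, 2, 2, 2, 2, 2, -2, 0, 0, 2, -2, 0, 0, 2, 0, 0, 2, -2, 2, -2, -2, 2, 0],
  [0, 2, 2, 2, 2, 2, -2, 2, 0, 0, 2, 2, 0, 0, -2, 0, 0, 2, -2, -2, 2, -2, -2, 0],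
  [0, 2, 2, 2, -2, 2, -2, -2, 0, 0, 2, -2, 0, 0, 2, 0, 0, -2, 2, -2, 2, 2, 2, 0],
  [0, 2, -2, 2, 2, -2, -2, -2, 0, 0, 2, 2, 0, 0, -2, 0, 0, 2, 2, 2, -2, 2, 2, 0],
  [0, -2, -2, -2, -2, 2, -2, 2, 0, 0, 2, 2, 0, 0, 2, 0, 0, 2, -2, 2, 2, 2, 2, 0],
  [0, 2, -2, 2, 2, 2, 2, 2, 0, 0, -2, -2, 0, 0, -2, 0, 0, -2, -2, 2, 2, 2, 2, 0],
  [0, -2, 2, 2, 2, -2, -2, 2, 0, 0, -2, 2, 0, 0, 2, 0, 0, -2, 2, 2, 2, -2, 2, 0],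
  [0, 2, 2, -2, 2, -2, 2, -2, 0, 0, 2, 2, 0, 0, 2, 0, 0, -2, -2, 2, 2, 2, -2, 0],
  [0, 2, 2, 2, -2, -2, 2, 2, 0, 0, -2, 2, 0, 0, 2, 0, 0, 2, -2, -2, -2, 2, 2, 0],
  [-2, 0, 0, 0, 0, 0, 0, 0, 6, -2, 0, 0, -2, -2, 0, 2, -2, 0, 0, 0, 0, 0, 0, 2],
  [-2, 0, 0, 0, 0, 0, 0, 0, -2, -2, 0, 0, 6, -2, 0, 2, -2, 0, 0, 0, 0, 0, 0, 2],
  [0, 2, -2, 2, -2, 2, 2, -2, 0, 0, -2, 2, 0, 0, 2, 0, 0, 2, 2, 2, 2, -2, -2, 0],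
  [2, 0, 0, 0, 0, 0, 0, 0, 2, 2, 0, 0, 2, 2, 0, -2, 2, 0, 0, 0, 0, 0, 0, 6]]

/-- The translation. -/
def tL : List ℕ := [1, 2, 3, 4, 5, 6, 7, 8, 9, 10, 11, 12, 13, 14, 15, 16, 17, 18, 19, 20, 21, 22, 0, 23]

/-- The multiplier. -/
def bL : List ℕ := [0, 2, 4, 6, 8, 10, 12, 14, 16, 18, 20, 22, 1, 3, 5, 7, 9, 11, 13, 15, 17, 19, 21, 23]

/-- The cubic twist. -/
def cL : List ℕ := [0, 18, 6, 3, 2, 21, 1, 5, 16, 12, 7, 19, 8, 9, 17, 15, 13, 11, 4, 22, 10, 20, 14, 23]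

/-- A further permutation. -/
def sigA : List ℕ := [9, 2, 11, 13, 17, 8, 1, 14, 12, 18, 3, 15, 21, 19, 10, 20, 0, 22, 6, 4, 5, 7, 16, 23]

/-- A further permutation. -/
def sigB : List ℕ := [10, 14, 12, 20, 11, 16, 6, 22, 19, 7, 17, 8, 13, 0, 15, 4, 9, 21, 18, 1, 5, 2, 3, 23]

/-- A further permutation. -/
def sigH : List ℕ := [0, 1, 15, 17, 21, 19, 10, 2, 7, 14, 11, 8, 4, 22, 13, 6, 3, 18, 5, 20, 16, 9, 12, 23]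

/-- A further permutation. -/
def sigM : List ℕ := [0, 15, 11, 22, 8, 4, 14, 1, 5, 3, 13, 17, 20, 10, 9, 7, 21, 18, 12, 6, 2, 16, 19, 23]

/-- The positions of a code word. -/
def sMask : ℕ := 16436384

/-- A straight line program. -/
def progA : List (ℕ × ℕ) := [
  (0, 0), (3, 3), (4, 0), (5, 5), (6, 0), (7, 7), (8, 0), (0, 3), (0, 5), (0, 11),
  (0, 12), (0, 13), (0, 7), (0, 15), (0, 16), (0, 17), (0, 18), (0, 19), (0, 20), (0, 21),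
  (0, 22), (0, 23), (1, 1), (25, 1), (1, 0), (0, 26), (2, 27), (1, 29), (0, 30), (31, 31),
  (31, 32), (28, 3), (26, 32), (26, 33), (31, 26), (26, 26), (31, 35), (26, 35), (31, 37), (26, 38),
  (31, 39), (26, 39), (31, 40), (31, 41), (26, 41), (31, 43), (31, 44), (26, 44), (31, 47), (26, 2),
  (23, 52), (37, 37), (54, 54), (55, 37), (56, 56), (57, 53), (58, 58), (58, 59), (58, 60), (0, 27),
  (45, 45), (63, 45), (64, 64), (65, 45), (66, 1), (67, 59), (67, 60), (67, 61), (58, 67), (67, 67),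
  (58, 68), (67, 68), (58, 69), (67, 70), (67, 71), (67, 73), (58, 74), (67, 74), (58, 76), (67, 76),
  (2, 62), (6, 83), (25, 38), (85, 85), (86, 84), (79, 79), (88, 79), (89, 87), (90, 90), (90, 91),
  (90, 92), (34, 62), (5, 94), (46, 46), (96, 46), (97, 97), (98, 95), (80, 80), (100, 80), (101, 99),
  (102, 90), (102, 91), (102, 92), (102, 102), (90, 103), (102, 103), (90, 104), (90, 105), (102, 105), (90, 107),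
  (90, 108), (102, 110), (90, 112), (90, 113), (29, 62), (7, 117), (35, 35), (119, 35), (120, 120), (121, 118),
  (101, 122), (93, 123), (124, 124), (83, 94), (39, 39), (127, 39), (128, 128), (129, 126), (76, 76), (131, 131),
  (132, 130), (116, 116), (134, 116), (135, 133), (136, 124), (136, 136), (124, 136), (137, 124), (138, 124), (139, 136),
  (125, 136), (140, 136), (126, 94), (0, 145), (36, 36), (147, 36), (148, 148), (149, 146), (81, 81), (151, 151),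
  (152, 150), (136, 153), (153, 124), (153, 136), (124, 153), (157, 124), (157, 136), (156, 124), (156, 136), (156, 153),
  (138, 153), (139, 153), (154, 124), (154, 136), (155, 124), (155, 153), (125, 153), (140, 153), (141, 153), (142, 153),
  (143, 153), (158, 124), (159, 136), (159, 153), (160, 124), (161, 124), (162, 124), (163, 124), (164, 136), (165, 124),
  (166, 136), (167, 136), (169, 136), (144, 153), (170, 136), (172, 124)]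

/-- A straight line program. -/
def progB : List (ℕ × ℕ) := [
  (0, 0), (3, 3), (4, 0), (5, 5), (6, 0), (7, 7), (8, 0), (0, 3), (0, 5), (0, 11),
  (0, 12), (0, 13), (0, 7), (0, 15), (0, 16), (0, 17), (0, 18), (0, 19), (0, 20), (0, 21),
  (0, 22), (0, 23), (1, 1), (25, 1), (1, 0), (0, 26), (2, 27), (1, 29), (8, 30), (31, 31),
  (31, 32), (31, 33), (28, 3), (26, 31), (26, 34), (31, 26), (26, 26), (31, 36), (26, 36), (31, 37),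
  (26, 37), (31, 38), (26, 38), (26, 39), (31, 41), (26, 41), (31, 43), (26, 45), (26, 2), (15, 51),
  (50, 50), (53, 50), (54, 52), (55, 55), (0, 27), (25, 25), (58, 1), (2, 57), (10, 60), (49, 49),
  (62, 42), (63, 63), (64, 61), (65, 55), (65, 65), (55, 66), (65, 66), (55, 67), (65, 67), (55, 68),
  (65, 68), (65, 69), (55, 70), (65, 70), (55, 73), (35, 57), (44, 44), (79, 79), (80, 58), (81, 66),
  (81, 69), (81, 71), (65, 81), (29, 57), (4, 86), (40, 40), (88, 88), (89, 87), (82, 82), (91, 91),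
  (92, 90), (93, 93), (93, 94), (93, 95), (60, 78), (17, 97), (33, 98), (69, 69), (100, 99), (101, 94),
  (101, 95), (101, 96), (93, 101), (101, 101), (93, 102), (101, 102), (101, 103), (93, 105), (101, 105), (93, 106),
  (93, 107), (93, 108), (93, 113), (97, 78), (3, 116), (38, 38), (118, 118), (119, 38), (120, 117), (76, 76),
  (122, 122), (123, 121), (110, 124), (125, 125), (2, 78), (5, 127), (64, 64), (129, 128), (77, 77), (131, 130),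
  (95, 132), (133, 125), (133, 133), (125, 133), (126, 133), (134, 125), (135, 125), (136, 133), (138, 133), (54, 59),
  (55, 142), (111, 111), (144, 144), (145, 143), (133, 146), (146, 125), (146, 133), (146, 146), (125, 146), (126, 146),
  (134, 146), (135, 146), (136, 146), (147, 125), (147, 146), (148, 125), (148, 133), (148, 146), (149, 133), (150, 133),
  (151, 133), (137, 146), (138, 146), (139, 146), (140, 146), (152, 125), (152, 133), (152, 146), (153, 125), (153, 133),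
  (154, 125), (155, 125), (155, 146), (157, 133), (159, 133), (159, 146), (163, 133), (165, 133), (166, 125)]

/-- A straight line program. -/
def progH : List (ℕ × ℕ) := [
  (0, 0), (3, 3), (4, 0), (5, 5), (6, 0), (0, 3), (0, 5), (0, 9), (0, 10), (0, 11),
  (2, 0), (2, 3), (2, 8), (2, 5), (2, 9), (2, 10), (2, 11), (2, 12), (0, 14), (1, 14),
  (0, 19), (1, 1), (24, 1), (1, 0), (2, 26), (1, 27), (15, 15), (29, 15), (30, 30), (31, 15),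
  (32, 28), (33, 33), (33, 34), (6, 25), (36, 34), (36, 35), (33, 36), (33, 37), (36, 38), (33, 39),
  (36, 39), (33, 40), (36, 40), (36, 41), (33, 43), (36, 44), (36, 45), (33, 46), (36, 49), (33, 51),
  (25, 2), (6, 53), (49, 49), (55, 55), (56, 54), (57, 57), (0, 26), (0, 59), (34, 60), (61, 57),
  (61, 58), (57, 61), (61, 61), (57, 62), (61, 63), (61, 64), (61, 65), (57, 66), (61, 66), (61, 67),
  (61, 70), (2, 59), (12, 74), (47, 75), (63, 63), (77, 76), (78, 78), (27, 59), (17, 17), (81, 81),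
  (82, 17), (83, 80), (35, 84), (65, 85), (86, 57), (86, 61), (86, 66), (86, 69), (86, 78), (86, 86),
  (78, 86), (92, 78), (93, 86), (79, 86), (91, 78), (95, 78), (26, 28), (19, 19), (100, 19), (101, 99),
  (35, 102), (70, 70), (104, 70), (105, 103), (86, 106), (106, 78), (106, 86), (106, 106), (78, 106), (92, 106),
  (93, 106), (111, 86), (111, 106), (79, 106), (107, 78), (107, 86), (107, 106), (108, 78), (108, 86), (109, 78),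
  (110, 78), (112, 78), (112, 86), (112, 106), (113, 78), (113, 86), (114, 78), (115, 78), (115, 86), (116, 86),
  (117, 78), (117, 86), (121, 86), (121, 106), (122, 78), (122, 106), (96, 106), (124, 78), (131, 78)]

/-- A straight line program. -/
def progM : List (ℕ × ℕ) := [
  (0, 0), (3, 3), (4, 0), (5, 5), (6, 0), (0, 3), (0, 5), (0, 9), (0, 10), (0, 11),
  (2, 0), (2, 8), (2, 4), (2, 10), (2, 11), (2, 12), (2, 6), (0, 2), (1, 13), (2, 13),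
  (1, 1), (23, 1), (1, 0), (2, 25), (1, 26), (22, 22), (28, 28), (29, 27), (30, 30), (30, 31),
  (30, 32), (30, 33), (30, 34), (6, 24), (36, 30), (36, 31), (36, 32), (36, 34), (36, 35), (30, 36),
  (36, 37), (30, 39), (36, 40), (30, 41), (36, 41), (36, 43), (30, 46), (24, 2), (2, 2), (51, 51),
  (52, 2), (53, 50), (39, 39), (55, 55), (56, 54), (57, 57), (57, 58), (0, 25), (0, 60), (42, 42),
  (62, 42), (63, 63), (64, 61), (65, 57), (65, 58), (57, 65), (65, 65), (57, 66), (57, 67), (65, 67),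
  (65, 68), (57, 69), (65, 69), (57, 70), (65, 71), (57, 72), (65, 73), (65, 74), (69, 69), (24, 60),
  (4, 82), (33, 83), (69, 84), (85, 85), (26, 60), (0, 87), (30, 88), (81, 89), (85, 90), (90, 85),
  (92, 85), (92, 90), (86, 90), (91, 85), (95, 85), (96, 85), (18, 82), (8, 99), (41, 41), (101, 101),
  (102, 100), (57, 103), (85, 104), (90, 104), (104, 85), (104, 90), (104, 104), (92, 104), (105, 104), (106, 85),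
  (106, 90), (106, 104), (107, 85), (108, 85), (108, 104), (109, 85), (109, 90), (86, 104), (91, 104), (121, 90),
  (121, 104), (93, 104), (95, 104), (96, 104), (110, 104), (111, 85), (111, 90), (112, 85), (113, 85), (114, 85),
  (115, 90), (116, 85), (117, 85), (119, 85), (123, 85), (127, 85), (129, 85)]

end CfsgLib.OutConway
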