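import Cfsg.Agent.OutConway.MatAut
import Cfsg.Agent.OutConway.Data
import Cfsg.Agent.Leech.CentralizerP
import Cfsg.Agent.Golay.M24Basics

/-!
# The elements used to generate the groups
-/

set_option autoImplicit false

namespace CfsgLib.OutConway

open Cfsg CfsgLib CfsgLib.Golay CfsgLib.Leech
open CfsgLib.Golay.Cert (genOK ofList toList_ofList)

theorem zTest : AutTest zMat := by decide +kernel
theorem yTest : AutTest yMat := by decide +kernel
theorem hTest : AutTest hMat := by decide +kernel
theorem mTest : AutTest mMat := by decide +kernel

/-- An element commuting with the multiplier. -/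
def zA : Co0 := matAut zMat zTest
/-- An element inverting the multiplier. -/
def yA : Co0 := matAut yMat yTest
/-- An element commuting with the twist. -/
def hA : Co0 := matAut hMat hTest
/-- An element commuting with the twist. -/
def mA : Co0 := matAut mMat mTest

theorem sim_z : Sim zA (matA zMat) := sim_matAut _
theorem sim_y : Sim yA (matA yMat) := sim_matAut _
theorem sim_h : Sim hA (matA hMat) := sim_matAut _
theorem sim_m : Sim mA (matA mMat) := sim_matAut _

theorem gens_ok : genOK tL = true ∧ genOK bL = true ∧ genOK cL = true ∧ genOK sigA = true ∧
    genOK sigB = true ∧ genOK sigH = true ∧ genOK sigM = true ∧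
    word (sMask % 4096) = sMask := by decide +kernel

/-- The multiplier by two. -/
noncomputable def bP : M24 := ofList bL
/-- The cubic twist. -/
noncomputable def cP : M24 := ofList cL
/-- The multiplier in the automorphism group of the lattice. -/
noncomputable def bA : Co0 := permHom bP
/-- The twist in the automorphism group of the lattice. -/
noncomputable def cA : Co0 := permHom cP
/-- A code word as a sign change. -/
def sW : golayCode := ⟨vec sMask, by rw [← gens_ok.2.2.2.2.2.2.2]; exact vec_word_mem _⟩
/-- The sign change. -/
def sA : Co0 := signAut sW

theorem toList_trans : toList (trans23 : Equiv.Perm GolayPt) = tL := by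
  refine List.ext_getElem (by rfl) fun i h1 h2 => ?_
  have hi : i < 24 := by simpa [toList] using h1
  interval_cases i <;> rfl

theorem sim_t : Sim tAut (permA tL) := sim_perm toList_trans
theorem sim_b : Sim bA (permA bL) := sim_ofList gens_ok.2.1
theorem sim_c : Sim cA (permA cL) := sim_ofList gens_ok.2.2.1
theorem sim_s : Sim sA (signA sMask) := sim_sign rfl

end CfsgLib.OutConway
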