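import Cfsg.Agent.OutConway.Word
import Cfsg.Agent.OutConway.Elements
import Cfsg.Agent.Golay.NormalForm

/-!
# Powers of the permutation generators on coordinates
-/

set_option autoImplicit false

namespace CfsgLib.OutConway

open Cfsg CfsgLib CfsgLib.Golay CfsgLib.Leech
open CfsgLib.Golay.Cert (powL)

/-- Select coordinates by a table. -/
def permI (J : List ℕ) (x : List ℤ) : List ℤ := J.map fun i => x.getD i 0

/-- The inverse table of a power of the translation. -/
def rotI (n : ℕ) : List ℕ :=
  (List.range 24).map fun i => if i = 23 then 23 else (i + (23 - n % 23)) % 23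

/-- The inverse table of a power of the multiplier. -/
def mulI (n : ℕ) : List ℕ :=
  (List.range 24).map fun i => if i = 23 then 23 else i * 2 ^ ((11 - n % 11) % 11) % 23

theorem rot_check : ∀ n < 23, invL (powL tL n) = rotI n := by decide +kernel

theorem mul_check : ∀ n < 11, invL (powL bL n) = mulI n := by decide +kernel

theorem bL_order : powL bL 11 = powL bL 0 := by decide +kernel

theorem simP_t (k : ℕ) : SimP (tAut ^ k) fun n => permI (rotI (k * n)) := by
  intro n
  set m := k * n % 23 with hm
  have e : (tAut ^ k) ^ n = permHom (trans23 ^ m) := by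
    rw [← pow_mul, map_pow, hm, ← orderOf_tAut, show permHom trans23 = tAut from rfl, pow_mod_orderOf]
  have h := sim_perm (σ := trans23 ^ m) (L := powL tL m) (by
    rw [SubgroupClass.coe_pow, Cert.toList_pow, toList_trans])
  have hr : rotI m = rotI (k * n) := by simp [rotI, hm]
  show Sim _ fun x => permI (rotI (k * n)) x
  rw [e, ← hr, ← rot_check m (Nat.mod_lt _ (by norm_num))]
  exact h

theorem simP_t' : SimP tAut fun n => permI (rotI n) := by
  have h := simP_t 1
  simp only [pow_one, one_mul] at h
  exact h

theorem toList_bP' : toList (bP : Equiv.Perm GolayPt) = bL := Cert.toList_ofList gens_ok.2.1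

theorem bP_pow : bP ^ 11 = 1 :=
  Cert.toList_coe_injective (by
    show Golay.toList ((bP ^ 11 : M24) : Equiv.Perm GolayPt) = Golay.toList ((1 : M24) : Equiv.Perm GolayPt)
    rw [SubgroupClass.coe_pow, Cert.toList_pow, toList_bP', bL_order, OneMemClass.coe_one, ← pow_zero (1 : Equiv.Perm GolayPt),
      Cert.toList_pow]
    rfl)

theorem bA_pow : bA ^ 11 = 1 := by rw [bA, ← map_pow, bP_pow, map_one]

theorem simP_b : SimP bA fun n => permI (mulI n) := by
  intro n
  set m := n % 11 with hm
  have e : bA ^ n = permHom (bP ^ m) := by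
    rw [map_pow, hm, pow_eq_pow_mod n bA_pow]
    rfl
  have h := sim_perm (σ := bP ^ m) (L := powL bL m) (by
    rw [SubgroupClass.coe_pow, Cert.toList_pow, toList_bP'])
  have hr : mulI m = mulI n := by simp [mulI, hm]
  show Sim _ fun x => permI (mulI n) x
  rw [e, ← hr, ← mul_check m (Nat.mod_lt _ (by norm_num))]
  exact h

theorem simP_pow {g : Co0} {f : List ℤ → List ℤ} (h : Sim g f) : SimP g fun n => f^[n] := fun n => h.pow n

end CfsgLib.OutConway
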