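import Cfsg.Agent.OutConway.Frame
import Cfsg.Agent.OutConway.Powers

/-!
# The commutant of the multiplier
-/

set_option autoImplicit false

namespace CfsgLib.OutConway

open Cfsg CfsgLib CfsgLib.Golay CfsgLib.Leech
open CfsgLib.Golay.Cert (genOK ofList toList_ofList q5 fiveList fixList_five toList_coe_injective powL)

/-- The class of each position under the multiplier. -/
def repB : List ℕ := (List.range 24).map fun i =>
  if i = 23 then 0 else if i = 0 then 1 else if i ∈ [1, 2, 3, 4, 6, 8, 9, 12, 13, 16, 18] then 2 else 3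

theorem eq_expandB (l : List ℤ) (hl : l.length = 24) (h : ∀ i < 24, l.getD (bL.getD i 0) 0 = l.getD i 0) :
    l = expand repB [l.getD 23 0, l.getD 0 0, l.getD 1 0, l.getD 5 0] := by
  match l, hl with
  | [a0, a1, a2, a3, a4, a5, a6, a7, a8, a9, a10, a11, a12, a13, a14, a15, a16, a17, a18, a19, a20, a21, a22, a23], _ =>
    have f : ∀ i < 24, [a0, a1, a2, a3, a4, a5, a6, a7, a8, a9, a10, a11, a12, a13, a14, a15, a16, a17, a18,
      a19, a20, a21, a22, a23].getD (bL.getD i 0) 0 = [a0, a1, a2, a3, a4, a5, a6, a7, a8, a9, a10, a11,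
      a12, a13, a14, a15, a16, a17, a18, a19, a20, a21, a22, a23].getD i 0 := h
    have e1 := f 1 (by norm_num); have e2 := f 2 (by norm_num); have e3 := f 3 (by norm_num)
    have e4 := f 4 (by norm_num); have e5 := f 5 (by norm_num); have e6 := f 6 (by norm_num)
    have e7 := f 7 (by norm_num); have e8 := f 8 (by norm_num); have e9 := f 9 (by norm_num)
    have e10 := f 10 (by norm_num); have e11 := f 11 (by norm_num); have e12 := f 12 (by norm_num)
    have e13 := f 13 (by norm_num); have e14 := f 14 (by norm_num); have e15 := f 15 (by norm_num)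
    have e16 := f 16 (by norm_num); have e17 := f 17 (by norm_num); have e18 := f 18 (by norm_num)
    have e19 := f 19 (by norm_num); have e20 := f 20 (by norm_num); have e21 := f 21 (by norm_num)
    have e22 := f 22 (by norm_num)
    simp [bL] at e1 e2 e3 e4 e5 e6 e7 e8 e9 e10 e11 e12 e13 e14 e15 e16 e17 e18 e19 e20 e21 e22
    simp [expand, repB, List.range_succ]
    omega

/-- The fixed vectors of squared length 64. -/
def fixB : List (List ℤ) :=
  (ints 8).flatMap fun a => (ints 8).flatMap fun c => (ints 2).flatMap fun d => (ints 2).flatMap fun e =>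
    if a * a + c * c + 11 * (d * d) + 11 * (e * e) = 64 ∧ memL (expand repB [a, c, d, e]) = true then
      [expand repB [a, c, d, e]] else []

theorem dotL_expandB (a c d e : ℤ) : dotL (expand repB [a, c, d, e]) (expand repB [a, c, d, e]) =
    a * a + c * c + 11 * (d * d) + 11 * (e * e) := by
  simp [dotL, expand, repB, List.range_succ]
  ring

/-- The representatives of the commutant on the fixed frame. -/
def headB : List (List ℤ → List ℤ) := [id, matA zMat, fun x => signA sMask (matA zMat x)]

/-- Two vectors are signed images of the two fixed units under a head. -/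
def pairOK (x y : List ℤ) : Bool :=
  headB.any fun f =>
    [f (unit8 23), f (unit8 0), negA (f (unit8 23)), negA (f (unit8 0))].contains x &&
      [f (unit8 23), f (unit8 0), negA (f (unit8 23)), negA (f (unit8 0))].contains y

theorem pairs_check : (fixB.all fun x => fixB.all fun y =>
    dotL x y != 0 || !halfOK x y || pairOK x y) = true := by decide +kernel

theorem half_units : halfOK (unit8 23) (unit8 0) = true := by decide +kernel

theorem heads_comm : (headB.all fun f =>
    sameAct (fun x => f (permA bL x)) (fun x => permA bL (f x))) = true := by decide +kernel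

theorem exists_head {f : List ℤ → List ℤ} (hf : f ∈ headB) :
    ∃ h : Co0, Sim h f ∧ h * bA = bA * h := by
  have hc := List.all_eq_true.1 heads_comm f hf
  simp only [headB, List.mem_cons, List.not_mem_nil, or_false] at hf
  rcases hf with rfl | rfl | rfl
  · exact ⟨1, sim_one, eq_of_sim (sim_one.mul sim_b) (sim_b.mul sim_one) hc⟩
  · exact ⟨zA, sim_z, eq_of_sim (sim_z.mul sim_b) (sim_b.mul sim_z) hc⟩
  · exact ⟨sA * zA, sim_s.mul sim_z, eq_of_sim ((sim_s.mul sim_z).mul sim_b) (sim_b.mul (sim_s.mul sim_z)) hc⟩

/-- All ones. -/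
def fullMask : ℕ := 16777215

/-- The invariant code words. -/
def signB : List ℕ := [0, sMask, fullMask, fullMask ^^^ sMask]

/-- Invariant under the multiplier, as a mask. -/
def invMask (m : ℕ) : Bool := (List.range 24).all fun i => m.testBit (bL.getD i 0) == m.testBit i

theorem words_check : ((List.range 64).all fun i => (List.range 64).all fun j =>
    !invMask (word (64 * i + j)) || signB.contains (word (64 * i + j))) = true := by decide +kernel

/-- The candidate permutations commute only if they are powers. -/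
theorem perms_check : ((List.range 44).all fun k => fiveList.all fun f =>
    !(compL (compL (transB.getD k []) f) bL == compL bL (compL (transB.getD k []) f)) ||
      (List.range 11).any fun i => compL (transB.getD k []) f == powL bL i) = true := by decide +kernel

theorem trans_ok : ((List.range 44).all fun k => genOK (transB.getD k []) &&
    (transB.getD k []).getD 23 0 == (if k < 22 then 23 else 0) &&
    (transB.getD k []).getD 0 0 == (if k < 22 then 0 else 23) &&
    (transB.getD k []).getD 1 0 == k % 22 + 1 &&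
    (transB.getD k []).getD 2 0 == bL.getD (k % 22 + 1) 0 &&
    (transB.getD k []).getD 3 0 == (powL bL 8).getD (k % 22 + 1) 0) = true := by decide +kernel

theorem base_check : bL.getD 1 0 = 2 ∧ (powL bL 8).getD 1 0 = 3 ∧ bL.getD 23 0 = 23 ∧ bL.getD 0 0 = 0 := by
  decide +kernel

theorem toList_bP : toList (bP : Equiv.Perm GolayPt) = bL := toList_ofList gens_ok.2.1

theorem bP_fix : (bP : Equiv.Perm GolayPt) none = none ∧ (bP : Equiv.Perm GolayPt) (some 0) = some 0 := by
  constructor
  · refine idx_injective ?_
    rw [← toList_getD_idx, toList_bP]; exact base_check.2.2.1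
  · refine idx_injective ?_
    rw [← toList_getD_idx, toList_bP]; exact base_check.2.2.2

/-- A permutation commuting with the multiplier that preserves the pair of fixed points is a power. -/
theorem perm_of_comm {σ : M24} (hc : σ * bP = bP * σ)
    (h0 : ((σ : Equiv.Perm GolayPt) none = none ∧ (σ : Equiv.Perm GolayPt) (some 0) = some 0) ∨
      ((σ : Equiv.Perm GolayPt) none = some 0 ∧ (σ : Equiv.Perm GolayPt) (some 0) = none)) :
    ∃ i < 11, σ = bP ^ i := by
  set S := toList (σ : Equiv.Perm GolayPt) with hS
  have hcl : compL S bL = compL bL S := by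
    rw [hS, ← toList_bP, ← toList_mul, ← toList_mul, ← Subgroup.coe_mul, ← Subgroup.coe_mul, hc]
  have hne1 : (σ : Equiv.Perm GolayPt) (pt 1) ≠ none ∧ (σ : Equiv.Perm GolayPt) (pt 1) ≠ some 0 := by
    have h1 : pt 1 ≠ (none : GolayPt) ∧ pt 1 ≠ some 0 := by decide +kernel
    rcases h0 with ⟨a, b⟩ | ⟨a, b⟩
    · exact ⟨fun e => h1.1 ((σ : Equiv.Perm GolayPt).injective (e.trans a.symm)),
        fun e => h1.2 ((σ : Equiv.Perm GolayPt).injective (e.trans b.symm))⟩
    · exact ⟨fun e => h1.2 ((σ : Equiv.Perm GolayPt).injective (e.trans b.symm)),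
        fun e => h1.1 ((σ : Equiv.Perm GolayPt).injective (e.trans a.symm))⟩
  set q := S.getD 1 0 with hq
  have hqv : q = idx ((σ : Equiv.Perm GolayPt) (pt 1)) := by rw [hq, hS, toList_getD _ (by norm_num)]
  have hq24 : q < 24 := hqv ▸ idx_lt _
  have hq0 : q ≠ 0 ∧ q ≠ 23 :=
    ⟨fun e => hne1.2 (idx_injective (by rw [← hqv, e]; decide +kernel)),
      fun e => hne1.1 (idx_injective (by rw [← hqv, e]; rfl))⟩
  have hstep : ∀ (n i : ℕ), i < 24 → S.getD ((powL bL n).getD i 0) 0 = (powL bL n).getD (S.getD i 0) 0 := by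
    intro n i hi
    rw [← toList_bP, ← Cert.toList_pow, hS, toList_getD _ hi, toList_getD _ hi, toList_getD_idx,
      toList_getD_idx, ← SubgroupClass.coe_pow, ← Equiv.Perm.mul_apply, ← Equiv.Perm.mul_apply,
      ← Subgroup.coe_mul, ← Subgroup.coe_mul, (Commute.pow_right (show Commute σ bP from hc) n).eq]
  have hone : powL bL 1 = bL := by decide +kernel
  have h2 : S.getD 2 0 = bL.getD q 0 := by
    have := hstep 1 1 (by norm_num)
    rwa [hone, base_check.1] at this
  have h3 : S.getD 3 0 = (powL bL 8).getD q 0 := by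
    have := hstep 8 1 (by norm_num)
    rwa [base_check.2.1] at this
  obtain ⟨k, hk, hk1, h23, hz⟩ : ∃ k < 44, k % 22 + 1 = q ∧ (if k < 22 then 23 else 0) = S.getD 23 0 ∧
      (if k < 22 then 0 else 23) = S.getD 0 0 := by
    have e23 : S.getD 23 0 = idx ((σ : Equiv.Perm GolayPt) none) := toList_getD_idx _ none
    have e0 : S.getD 0 0 = idx ((σ : Equiv.Perm GolayPt) (some 0)) := toList_getD_idx _ (some 0)
    rcases h0 with ⟨a, b⟩ | ⟨a, b⟩
    · exact ⟨q - 1, by omega, by omega, by rw [if_pos (by omega), e23, a]; rfl,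
        by rw [if_pos (by omega), e0, b]; rfl⟩
    · exact ⟨q + 21, by omega, by omega, by rw [if_neg (by omega), e23, a]; rfl,
        by rw [if_neg (by omega), e0, b]; rfl⟩
  have ht := List.all_eq_true.1 trans_ok k (List.mem_range.2 hk)
  simp only [Bool.and_eq_true, beq_iff_eq, hk1, h23, hz] at ht
  obtain ⟨⟨⟨⟨⟨hT, t23⟩, t0⟩, t1⟩, t2⟩, t3⟩ := ht
  set τ := ofList (transB.getD k []) with hτ
  have hτl := toList_ofList hT
  have hmem : toList ((τ⁻¹ * σ : M24) : Equiv.Perm GolayPt) ∈ fiveList := by
    refine fixList_five _ fun i hi => ?_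
    have hi24 : i < 24 := by simp [q5] at hi; omega
    have e : (τ : Equiv.Perm GolayPt) (pt i) = (σ : Equiv.Perm GolayPt) (pt i) := by
      refine idx_injective ?_
      rw [← toList_getD _ hi24, ← toList_getD _ hi24, hτl, ← hS]
      simp only [q5, List.mem_cons, List.not_mem_nil, or_false] at hi
      rcases hi with rfl | rfl | rfl | rfl | rfl
      · exact t23
      · exact t0
      · exact t1.trans hq
      · exact t2.trans h2.symm
      · exact t3.trans h3.symm
    rw [toList_getD _ hi24, Subgroup.coe_mul, Subgroup.coe_inv, Equiv.Perm.mul_apply, ← e,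
      Equiv.Perm.inv_def, Equiv.symm_apply_apply, idx_pt _ hi24]
  have hcomp : compL (transB.getD k []) (toList ((τ⁻¹ * σ : M24) : Equiv.Perm GolayPt)) = S := by
    rw [← hτl, ← toList_mul, ← Subgroup.coe_mul, mul_inv_cancel_left]
  have hp := List.all_eq_true.1 (List.all_eq_true.1 perms_check k (List.mem_range.2 hk)) _ hmem
  rw [hcomp, hcl] at hp
  simp only [Bool.or_eq_true, Bool.not_eq_true', beq_eq_false_iff_ne, ne_eq, not_true_eq_false, false_or,
    List.any_eq_true, List.mem_range, beq_iff_eq] at hp
  obtain ⟨i, hi, he⟩ := hp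
  refine ⟨i, hi, toList_coe_injective ?_⟩
  show toList (σ : Equiv.Perm GolayPt) = toList ((bP ^ i : M24) : Equiv.Perm GolayPt)
  rw [SubgroupClass.coe_pow, Cert.toList_pow, toList_bP]
  exact he

theorem unit_or {g : Co0} {p : GolayPt} {σ : M24} {w : golayCode} (hg : monoAut (w, σ) = g)
    {r : GolayPt} (h : g • eightAt p = eightAt r ∨ g • eightAt p = -eightAt r) :
    (σ : Equiv.Perm GolayPt) p = r := by
  by_contra hne
  have e := monoAut_eightAt (w, σ) p
  rw [hg] at e
  rcases h with h | h <;> rw [h] at e <;> have := congrFun e r <;>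
    simp [flipSign, eightAt_apply, Ne.symm hne] at this

/-- The functions of the commutant. -/
def candB : List (List ℤ → List ℤ) :=
  headB.flatMap fun f => signB.flatMap fun m => (List.range 11).map fun i =>
    fun x => forceL (forceL (permI (mulI i) x) (signA m)) f

/-- Every automorphism commuting with the multiplier acts as one of the candidates. -/
theorem exists_cand {g : Co0} (hg : g * bA = bA * g) : ∃ f ∈ candB, Sim g f := by
  set x := co ((g • eightAt none : leechLattice) : GolayPt → ℤ) with hx
  set y := co ((g • eightAt (some 0) : leechLattice) : GolayPt → ℤ) with hy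
  have hfix : ∀ p : GolayPt, (bP : Equiv.Perm GolayPt) p = p →
      co ((g • eightAt p : leechLattice) : GolayPt → ℤ) ∈ fixB := by
    intro p hp
    obtain ⟨hm, hn, -, -⟩ := image_facts g p p
    set l := co ((g • eightAt p : leechLattice) : GolayPt → ℤ) with hl
    have he := eq_expandB l (length_co _) (fixed_of_comm toList_bP hg hp)
    set a := l.getD 23 0; set c := l.getD 0 0; set d := l.getD 1 0; set e := l.getD 5 0
    rw [he, dotL_expandB] at hn
    rw [he] at hm
    rw [he]
    have h1 := mul_self_nonneg a; have h2 := mul_self_nonneg c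
    have h3 := mul_self_nonneg d; have h4 := mul_self_nonneg e
    simp only [fixB, List.mem_flatMap]
    refine ⟨a, mem_ints (by push_cast; nlinarith) (by push_cast; nlinarith), c,
      mem_ints (by push_cast; nlinarith) (by push_cast; nlinarith), d,
      mem_ints (by push_cast; nlinarith) (by push_cast; nlinarith), e,
      mem_ints (by push_cast; nlinarith) (by push_cast; nlinarith), ?_⟩
    rw [if_pos ⟨hn, hm⟩]
    exact List.mem_singleton_self _
  obtain ⟨-, -, hd, hh⟩ := image_facts g none (some 0)
  rw [if_neg (by simp)] at hd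
  have hc := List.all_eq_true.1 (List.all_eq_true.1 pairs_check x (hfix none bP_fix.1)) y
    (hfix _ bP_fix.2)
  rw [← hx, ← hy] at hd
  rw [hd, hh half_units] at hc
  simp only [bne_self_eq_false, Bool.not_true, Bool.false_or, pairOK, List.any_eq_true] at hc
  obtain ⟨f, hf, hp⟩ := hc
  simp only [Bool.and_eq_true, List.contains_iff_mem, List.mem_cons, List.not_mem_nil, or_false] at hp
  obtain ⟨h, hs, hhb⟩ := exists_head hf
  have hcomm : (h⁻¹ * g) * bA = bA * (h⁻¹ * g) :=
    (Commute.mul_left ((show Commute h bA from hhb).inv_left) (show Commute g bA from hg)).eq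
  have himg : ∀ p : GolayPt, (co ((g • eightAt p : leechLattice) : GolayPt → ℤ) = f (unit8 23) ∨
      co ((g • eightAt p : leechLattice) : GolayPt → ℤ) = f (unit8 0) ∨
      co ((g • eightAt p : leechLattice) : GolayPt → ℤ) = negA (f (unit8 23)) ∨
      co ((g • eightAt p : leechLattice) : GolayPt → ℤ) = negA (f (unit8 0))) →
      ∃ r : GolayPt, (r = none ∨ r = some 0) ∧
        ((h⁻¹ * g) • eightAt p = eightAt r ∨ (h⁻¹ * g) • eightAt p = -eightAt r) := by
    intro p h4
    have hr : ∀ r : GolayPt, f (unit8 (idx r)) = co ((h • eightAt r : leechLattice) : GolayPt → ℤ) := fun r => by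
      rw [← co_eightAt, hs]
    have hn : ∀ v : leechLattice, negA (co (v : GolayPt → ℤ)) = co ((-v : leechLattice) : GolayPt → ℤ) := fun v => by
      simp [negA, co]
    rw [show (23 : ℕ) = idx none from rfl, show (0 : ℕ) = idx (some 0) by decide +kernel, hr, hr, hn, hn] at h4
    have hv : ∀ v : leechLattice, co ((g • eightAt p : leechLattice) : GolayPt → ℤ) = co (v : GolayPt → ℤ) →
        (h⁻¹ * g) • eightAt p = h⁻¹ • v := fun v e => by
      rw [mul_smul, Subtype.ext (co_injective e)]
    rcases h4 with e | e | e | e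
    · exact ⟨none, Or.inl rfl, Or.inl (by rw [hv _ e, inv_smul_smul])⟩
    · exact ⟨some 0, Or.inr rfl, Or.inl (by rw [hv _ e, inv_smul_smul])⟩
    · exact ⟨none, Or.inl rfl, Or.inr (by rw [hv _ e, smul_neg', inv_smul_smul])⟩
    · exact ⟨some 0, Or.inr rfl, Or.inr (by rw [hv _ e, smul_neg', inv_smul_smul])⟩
  obtain ⟨r, hr, he⟩ := himg none hp.1
  obtain ⟨r', hr', he'⟩ := himg (some 0) hp.2
  have hcls : cls (((h⁻¹ * g) • eightAt none : leechLattice) : GolayPt → ℤ) =
      cls (eightAt none : GolayPt → ℤ) := by
    have hrr : cls (eightAt r : GolayPt → ℤ) = cls (eightAt none : GolayPt → ℤ) := by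
      rcases hr with rfl | rfl
      · rfl
      · refine (cls_eq_of_halfOK ?_).symm
        rw [co_eightAt, co_eightAt, show idx (some 0 : GolayPt) = 0 by decide +kernel]
        exact half_units
    rcases he with e | e
    · rw [e]; exact hrr
    · rw [e]
      refine Eq.trans ?_ hrr
      exact cls_neg (eightAt r).2
  obtain ⟨⟨w, σ⟩, hwσ⟩ := exists_monoAut hcls
  have hσ0 := unit_or hwσ he
  have hσ1 := unit_or hwσ he'
  rw [← hwσ, bA, permHom_eq_monoAut, monoAut_mul, monoAut_mul] at hcomm
  have hcomm' := monoAut_injective hcomm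
  simp only [Prod.mk.injEq] at hcomm'
  obtain ⟨hw, hσ⟩ := hcomm'
  obtain ⟨i, hi, hσi⟩ := perm_of_comm hσ (by
    rcases hr with rfl | rfl <;> rcases hr' with rfl | rfl
    · exact absurd ((σ : Equiv.Perm GolayPt).injective (hσ0.trans hσ1.symm)) (by simp)
    · exact Or.inl ⟨hσ0, hσ1⟩
    · exact Or.inr ⟨hσ0, hσ1⟩
    · exact absurd ((σ : Equiv.Perm GolayPt).injective (hσ0.trans hσ1.symm)) (by simp))
  obtain ⟨c, hc, hcw⟩ := (mem_code_iff _).1 w.2
  have hinv : invMask (word c) = true := by
    refine List.all_eq_true.2 fun j hj => ?_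
    have hj' := List.mem_range.1 hj
    have h5 := congrFun (congrArg Subtype.val hw) ((bP : Equiv.Perm GolayPt) (pt j))
    have hjb : idx ((bP : Equiv.Perm GolayPt) (pt j)) = bL.getD j 0 := by
      rw [← toList_bP, toList_getD _ hj']
    simp [hcw, vec, hjb, idx_pt j hj', -List.getD_eq_getElem?_getD] at h5
    rw [beq_iff_eq]
    revert h5
    cases (word c).testBit (bL.getD j 0) <;> cases (word c).testBit j <;> simp
  have hword := List.all_eq_true.1 (List.all_eq_true.1 words_check (c / 64) (List.mem_range.2 (by omega)))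
    (c % 64) (List.mem_range.2 (by omega))
  rw [Nat.div_add_mod, hinv] at hword
  simp only [Bool.not_true, Bool.false_or, List.contains_iff_mem] at hword
  refine ⟨fun x => forceL (forceL (permI (mulI i) x) (signA (word c))) f, ?_, ?_⟩
  · exact List.mem_flatMap.2 ⟨f, hf, List.mem_flatMap.2 ⟨_, hword, List.mem_map.2 ⟨i, List.mem_range.2 hi, rfl⟩⟩⟩
  · have hg' : g = h * (signAut w * bA ^ i) := by
      rw [bA, ← map_pow, ← hσi, show signAut w * permHom σ = monoAut (w, σ) from rfl, hwσ,
        mul_inv_cancel_left]
    rw [hg']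
    intro v
    simp only [forceL_eq]
    exact (hs.mul ((sim_sign hcw).mul (simP_b i))) v

end CfsgLib.OutConway
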