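import Cfsg.Agent.OutConway.Sim

/-!
# Automorphisms of the lattice given by matrices
-/

set_option autoImplicit false

namespace CfsgLib.OutConway

open Cfsg CfsgLib CfsgLib.Golay CfsgLib.Leech

/-- An entry of a matrix given by columns. -/
def ent (M : List (List ℤ)) (q p : GolayPt) : ℤ := (M.getD (idx q) []).getD (idx p) 0

/-- The numerator of the image. -/
def numer (E : GolayPt → GolayPt → ℤ) (x : GolayPt → ℤ) (p : GolayPt) : ℤ := ∑ q, x q * E q p

/-- The image under a matrix scaled by eight. -/
def imgF (E : GolayPt → GolayPt → ℤ) (x : GolayPt → ℤ) : GolayPt → ℤ := fun p => numer E x p / 8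

theorem numer_add (E : GolayPt → GolayPt → ℤ) (x y : GolayPt → ℤ) (p : GolayPt) :
    numer E (x + y) p = numer E x p + numer E y p := by
  simp [numer, add_mul, Finset.sum_add_distrib]

theorem imgF_add {E : GolayPt → GolayPt → ℤ} {x y : GolayPt → ℤ} (hx : ∀ p, (8 : ℤ) ∣ numer E x p) :
    imgF E (x + y) = imgF E x + imgF E y := by
  funext p
  simp only [imgF, Pi.add_apply, numer_add, Int.add_ediv_of_dvd_left (hx p)]

/-- The lattice vectors with image in the lattice. -/
def goodSet (E : GolayPt → GolayPt → ℤ) : AddSubgroup (GolayPt → ℤ) where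
  carrier := {x | x ∈ leechLattice ∧ (∀ p, (8 : ℤ) ∣ numer E x p) ∧ imgF E x ∈ leechLattice}
  zero_mem' := ⟨leechLattice.zero_mem, fun p => by simp [numer],
    by rw [show imgF E 0 = 0 from funext fun p => by simp [imgF, numer]]; exact leechLattice.zero_mem⟩
  add_mem' {x y} hx hy := ⟨leechLattice.add_mem hx.1 hy.1, fun p => by rw [numer_add]; exact dvd_add (hx.2.1 p) (hy.2.1 p),
    by rw [imgF_add hx.2.1]; exact leechLattice.add_mem hx.2.2 hy.2.2⟩
  neg_mem' {x} hx := by
    have hd : ∀ p, (8 : ℤ) ∣ numer E (-x) p := fun p => by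
      rw [show numer E (-x) p = -numer E x p by simp [numer, Finset.sum_neg_distrib]]
      exact (hx.2.1 p).neg_right
    refine ⟨leechLattice.neg_mem hx.1, hd, ?_⟩
    have : imgF E (-x) = -imgF E x := by
      refine eq_neg_of_add_eq_zero_left ?_
      rw [← imgF_add hd, neg_add_cancel]
      funext p; simp [imgF, numer]
    rw [this]; exact leechLattice.neg_mem hx.2.2

/-- Rows or columns are orthogonal of squared length 64. -/
def OrthTest (E : GolayPt → GolayPt → ℤ) : Prop :=
  ∀ q r, (∑ p, E q p * E r p) = if q = r then 64 else 0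

theorem back {E : GolayPt → GolayPt → ℤ} (hE : OrthTest E) {x : GolayPt → ℤ}
    (hd : ∀ p, (8 : ℤ) ∣ numer E x p) (r : GolayPt) :
    ∑ p, imgF E x p * E r p = 8 * x r := by
  have h : 8 * ∑ p, imgF E x p * E r p = 8 * (8 * x r) := by
    rw [Finset.mul_sum]
    have e : ∀ p, 8 * (imgF E x p * E r p) = ∑ q, x q * (E q p * E r p) := fun p => by
      rw [← mul_assoc, imgF, Int.mul_ediv_cancel' (hd p), numer, Finset.sum_mul]
      exact Finset.sum_congr rfl fun q _ => mul_assoc _ _ _
    rw [Finset.sum_congr rfl fun p _ => e p, Finset.sum_comm]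
    simp only [← Finset.mul_sum, hE _ r, mul_ite, mul_zero, Finset.sum_ite_eq', Finset.mem_univ, if_true]
    ring
  omega

theorem imgF_norm {E : GolayPt → GolayPt → ℤ} (hE : OrthTest E) {x : GolayPt → ℤ}
    (hd : ∀ p, (8 : ℤ) ∣ numer E x p) : sqNorm (imgF E x) = sqNorm x := by
  have h : 8 * sqNorm (imgF E x) = 8 * sqNorm x := by
    simp only [sqNorm, Finset.mul_sum]
    calc ∑ p, 8 * imgF E x p ^ 2 = ∑ p, ∑ r, x r * (imgF E x p * E r p) := by
          refine Finset.sum_congr rfl fun p _ => ?_
          rw [sq, ← mul_assoc, show 8 * imgF E x p = numer E x p from Int.mul_ediv_cancel' (hd p), numer,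
            Finset.sum_mul]
          exact Finset.sum_congr rfl fun r _ => by ring
      _ = ∑ r, 8 * x r ^ 2 := by
          rw [Finset.sum_comm]
          refine Finset.sum_congr rfl fun r _ => ?_
          rw [← Finset.mul_sum, back hE hd r]; ring
  omega

theorem imgF_left_inv {E : GolayPt → GolayPt → ℤ} (hE : OrthTest E) {x : GolayPt → ℤ}
    (hd : ∀ p, (8 : ℤ) ∣ numer E x p) : imgF (fun a b => E b a) (imgF E x) = x := by
  funext r
  show numer (fun a b => E b a) (imgF E x) r / 8 = x r
  rw [numer, back hE hd r, Int.mul_ediv_cancel_left _ (by norm_num)]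

/-- The transposed matrix. -/
def transp (M : List (List ℤ)) : List (List ℤ) :=
  (List.range 24).map fun p => M.map fun c => c.getD p 0

theorem ent_transp {M : List (List ℤ)} (hl : M.length = 24) (q p : GolayPt) : ent (transp M) q p = ent M p q := by
  simp only [ent, transp, List.getD_eq_getElem?_getD, List.getElem?_map, List.getElem?_range (idx_lt q),
    Option.map_some, Option.getD_some, List.getElem?_eq_getElem (show idx p < M.length from hl ▸ idx_lt p)]

/-- The mask of the second bits of a list of integers. -/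
def mask : List ℤ → ℕ
  | [] => 0
  | a :: l => (if a / 2 % 2 = 1 then 1 else 0) + 2 * mask l

theorem testBit_mask : ∀ (l : List ℤ) (i : ℕ), (mask l).testBit i = decide (l.getD i 0 / 2 % 2 = 1)
  | [], i => by simp [mask]
  | a :: l, 0 => by
    rw [mask, Nat.testBit_zero]
    by_cases h : a / 2 % 2 = 1 <;> simp [h]
  | a :: l, i + 1 => by
    rw [mask, Nat.testBit_succ, List.getD_cons_succ, ← testBit_mask l i]
    congr 1
    by_cases h : a / 2 % 2 = 1 <;> simp only [h, if_true, if_false] <;> omega

theorem mask_lt : ∀ l : List ℤ, mask l < 2 ^ l.length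
  | [] => by simp [mask]
  | a :: l => by
    have := mask_lt l
    rw [mask, List.length_cons, pow_succ]
    split_ifs <;> omega

theorem hi_eq_vec (x : GolayPt → ℤ) : hi x = vec (mask (co x)) := by
  funext i
  rw [vec, testBit_mask, getD_co]
  rcases Int.emod_two_eq_zero_or_one (x i / 2) with e | e <;> simp only [hi, e]
  · rw [show ((x i / 2 : ℤ) : ZMod 2) = ((0 : ℤ) : ZMod 2) from (ZMod.intCast_eq_intCast_iff' _ _ _).2 e]
    simp
  · rw [show ((x i / 2 : ℤ) : ZMod 2) = ((1 : ℤ) : ZMod 2) from (ZMod.intCast_eq_intCast_iff' _ _ _).2 e]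
    simp

/-- Membership test on a list of coordinates. -/
def memL (l : List ℤ) : Bool :=
  l.all (fun a => (a - l.getD 23 0) % 2 == 0) && (l.sum - 4 * l.getD 23 0) % 8 == 0 &&
    word (mask l % 4096) == mask l

theorem sum_co (x : GolayPt → ℤ) : (co x).sum = ∑ p, x p := by
  rw [co, ← List.sum_toFinset _ List.nodup_range]
  exact (Finset.sum_bij (fun q _ => idx q) (fun q _ => by simp [idx_lt]) (fun a _ b _ e => by
    rw [← pt_idx a, e, pt_idx]) (fun j hj => ⟨pt j, Finset.mem_univ _, idx_pt j (by simpa using hj)⟩)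
    fun q _ => by rw [pt_idx]).symm

theorem memL_iff {x : GolayPt → ℤ} : memL (co x) = true ↔ x ∈ leechLattice := by
  simp only [memL, Bool.and_eq_true, List.all_eq_true, beq_iff_eq]
  rw [show (23 : ℕ) = idx none from rfl, getD_co, sum_co, mem_leech_iff]
  constructor
  · rintro ⟨⟨h1, h2⟩, h3⟩
    refine ⟨fun i => Int.dvd_of_emod_eq_zero (h1 _ ?_), Int.dvd_of_emod_eq_zero h2, ?_⟩
    · exact List.mem_map.2 ⟨idx i, List.mem_range.2 (idx_lt i), by rw [pt_idx]⟩
    · rw [hi_eq_vec, ← h3]; exact vec_word_mem _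
  · intro h
    refine ⟨⟨fun a ha => ?_, Int.emod_eq_zero_of_dvd h.sum⟩, ?_⟩
    · obtain ⟨i, -, rfl⟩ := List.mem_map.1 ha
      exact Int.emod_eq_zero_of_dvd (h.par (pt i))
    · obtain ⟨c, hc, he⟩ := (mem_code_iff _).1 h.code
      rw [hi_eq_vec] at he
      have := mask_lt (co x)
      rw [length_co] at this
      rw [vec_inj this (word_lt c hc) he, word_mod c hc]

theorem mem_of_memL {x : GolayPt → ℤ} (h : memL (co x) = true) : x ∈ leechLattice := memL_iff.1 h

/-- The test of one generator. -/
def genL (M : List (List ℤ)) (x : List ℤ) : Bool :=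
  (rawA x M).all (fun a => a % 8 == 0) && memL (matA M x)

/-- The tests of all generators and the orthogonality. -/
def halfTest (M : List (List ℤ)) : Bool :=
  M.length == 24 && M.all (fun c => c.length == 24) && genL M (co Spor.vecV) &&
    rows.all (fun r => genL M (co (twoVec r))) &&
    (List.range 24).all (fun q => genL M (co (fourPair (pt q)))) &&
    (List.range 24).all fun i => (List.range 24).all fun j =>
      (List.zipWith (· * ·) (M.getD i []) (M.getD j [])).sum == if i = j then 64 else 0

theorem sum_idx' (f : ℕ → ℤ) : ∑ q : GolayPt, f (idx q) = ∑ j ∈ Finset.range 24, f j :=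
  Finset.sum_bij (fun q _ => idx q) (fun q _ => Finset.mem_range.2 (idx_lt q))
    (fun a _ b _ e => by rw [← pt_idx a, e, pt_idx])
    (fun j hj => ⟨pt j, Finset.mem_univ _, idx_pt j (Finset.mem_range.1 hj)⟩) (fun _ _ => rfl)

theorem half_spec {M : List (List ℤ)} (h : halfTest M = true) :
    M.length = 24 ∧ (∀ i < 24, (M.getD i []).length = 24) ∧
      (∀ x, x ∈ leechLattice → (∀ p, (8 : ℤ) ∣ numer (ent M) x p) ∧ imgF (ent M) x ∈ leechLattice) ∧
      OrthTest (ent M) := by
  simp only [halfTest, Bool.and_eq_true, beq_iff_eq, List.all_eq_true, List.mem_range] at h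
  obtain ⟨⟨⟨⟨⟨hl, hc⟩, hV⟩, hR⟩, hF⟩, ho⟩ := h
  have hcl : ∀ i < 24, (M.getD i []).length = 24 := fun i hi => by
    rw [List.getD_eq_getElem _ _ (hl ▸ hi)]; exact hc _ (List.getElem_mem _)
  have hnum : ∀ x : GolayPt → ℤ, (rawA (co x) M).length = 24 ∧
      ∀ p, (rawA (co x) M).getD (idx p) 0 = numer (ent M) x p := by
    intro x
    obtain ⟨h1, h2⟩ := rawA_spec (co x) M (by rw [length_co, hl]) hc
    refine ⟨h1, fun p => ?_⟩
    rw [h2 _ (idx_lt p), length_co, numer,
      ← sum_idx' fun j => (co x).getD j 0 * (M.getD j []).getD (idx p) 0]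
    exact Finset.sum_congr rfl fun q _ => by rw [getD_co]; rfl
  have hgen : ∀ x : GolayPt → ℤ, genL M (co x) = true →
      (∀ p, (8 : ℤ) ∣ numer (ent M) x p) ∧ imgF (ent M) x ∈ leechLattice := by
    intro x hx
    simp only [genL, Bool.and_eq_true, List.all_eq_true, beq_iff_eq] at hx
    obtain ⟨h1, h2⟩ := hnum x
    refine ⟨fun p => ?_, mem_of_memL ?_⟩
    · rw [← h2 p]
      refine Int.dvd_of_emod_eq_zero (hx.1 _ ?_)
      rw [List.getD_eq_getElem _ _ (h1 ▸ idx_lt p)]
      exact List.getElem_mem _
    · have e : co (imgF (ent M) x) = matA M (co x) := by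
        refine List.ext_getElem (by simp [matA, h1, length_co]) fun i a b => ?_
        have hi : i < 24 := by simpa [co] using a
        have hlt : i < (rawA (co x) M).length := by rw [h1]; exact hi
        have hh : (rawA (co x) M)[i]'hlt = numer (ent M) x (pt i) := by
          rw [← List.getD_eq_getElem _ 0 hlt]
          conv_lhs => rw [← idx_pt i hi]
          exact h2 _
        simp only [matA, List.getElem_map, hh]
        simp [co, imgF]
      rw [e]; exact hx.2
  refine ⟨hl, hcl, fun x hx => ((leech_le (goodSet (ent M)) ⟨vecV_mem, hgen _ hV⟩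
    (fun r hr => ⟨twoVec_rows_mem r hr, hgen _ (hR r hr)⟩)
    (fun q => ⟨fourPair_mem q, hgen _ (by rw [← pt_idx q]; exact hF _ (idx_lt q))⟩)) hx).2, fun q r => ?_⟩
  have h4 := ho _ (idx_lt q) _ (idx_lt r)
  have hq := hcl _ (idx_lt q)
  have hr := hcl _ (idx_lt r)
  have e : (List.zipWith (· * ·) (M.getD (idx q) []) (M.getD (idx r) [])).sum =
      ∑ p, ent M q p * ent M r p := by
    rw [show List.zipWith (· * ·) (M.getD (idx q) []) (M.getD (idx r) []) =
      (List.range 24).map fun j => (M.getD (idx q) []).getD j 0 * (M.getD (idx r) []).getD j 0 from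
      List.ext_getElem (by simp [hq, hr, -List.getD_eq_getElem?_getD]) fun i a b => by
        have hi : i < 24 := by simpa using b
        simp [List.getD_eq_getElem _ _ (hq.symm ▸ hi), List.getD_eq_getElem _ _ (hr.symm ▸ hi),
          -List.getD_eq_getElem?_getD]]
    rw [← List.sum_toFinset _ List.nodup_range, List.toFinset_range]
    exact (sum_idx' fun j => (M.getD (idx q) []).getD j 0 * (M.getD (idx r) []).getD j 0).symm
  rw [← e, h4]
  by_cases hqr : q = r
  · rw [if_pos hqr, if_pos (congrArg idx hqr)]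
  · rw [if_neg hqr, if_neg fun e => hqr (by rw [← pt_idx q, e, pt_idx])]

/-- All the conditions. -/
def AutTest (M : List (List ℤ)) : Prop := halfTest M = true ∧ halfTest (transp M) = true

instance (M : List (List ℤ)) : Decidable (AutTest M) := by unfold AutTest; infer_instance

theorem transp_fun {M : List (List ℤ)} (h : AutTest M) : ent (transp M) = fun a b => ent M b a :=
  funext fun a => funext fun b => ent_transp (half_spec h.1).1 a b

theorem transp_spec {M : List (List ℤ)} (h : AutTest M) :
    (∀ x, x ∈ leechLattice → (∀ p, (8 : ℤ) ∣ numer (fun a b => ent M b a) x p) ∧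
      imgF (fun a b => ent M b a) x ∈ leechLattice) ∧ OrthTest fun a b => ent M b a := by
  rw [← transp_fun h]
  exact (half_spec h.2).2.2

/-- The automorphism given by a matrix. -/
def matAut (M : List (List ℤ)) (h : AutTest M) : Co0 :=
  mkAut
    { toFun := fun v => ⟨imgF (ent M) v, ((half_spec h.1).2.2.1 _ v.2).2⟩
      invFun := fun v => ⟨imgF (fun a b => ent M b a) v, ((transp_spec h).1 _ v.2).2⟩
      left_inv := fun v => Subtype.ext (imgF_left_inv (half_spec h.1).2.2.2 ((half_spec h.1).2.2.1 _ v.2).1)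
      right_inv := fun v => Subtype.ext (imgF_left_inv (transp_spec h).2 ((transp_spec h).1 _ v.2).1)
      map_add' := fun a b => Subtype.ext
        (imgF_add (y := (b : GolayPt → ℤ)) ((half_spec h.1).2.2.1 _ a.2).1) }
    fun v => imgF_norm (half_spec h.1).2.2.2 ((half_spec h.1).2.2.1 _ v.2).1

theorem sim_matAut {M : List (List ℤ)} (h : AutTest M) : Sim (matAut M h) (matA M) := by
  obtain ⟨hl, hc, -⟩ := half_spec h.1
  refine sim_of_images hl fun q => ?_
  refine List.ext_getElem (by rw [length_co, hc _ (idx_lt q)]) fun i h1 h2 => ?_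
  have hi : i < 24 := by simpa [co] using h1
  have e : ((matAut M h • eightAt q : leechLattice) : GolayPt → ℤ) (pt i) = ent M q (pt i) := by
    show numer (ent M) (eightAt q : GolayPt → ℤ) (pt i) / 8 = _
    rw [numer, Finset.sum_eq_single q (fun r _ hr => by rw [eightAt_apply, if_neg hr, zero_mul]) (by simp),
      eightAt_apply, if_pos rfl, Int.mul_ediv_cancel_left _ (by norm_num)]
  simp only [co, List.getElem_map, List.getElem_range, e, ent, idx_pt i hi]
  exact List.getD_eq_getElem _ _ h2

end CfsgLib.OutConway
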