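import Cfsg.Agent.OutConway.Gen
import Cfsg.Agent.OutConway.MatAut
import Cfsg.Agent.Leech.MonoMaximal
import Cfsg.Agent.McLSimple.RankFour

/-!
# Tools for generating stabilisers
-/

set_option autoImplicit false

namespace CfsgLib.OutConway

open Cfsg CfsgLib CfsgLib.Golay CfsgLib.Leech MulAction
open Cfsg.Agent.McLSimple (mclStab tripleStab zSet)
open CfsgLib.Golay.Cert (genOK ofList toList_ofList q5)

attribute [local irreducible] shortVecs halfTable quarterTable codeFinset

theorem smul_of_sim {g : Co0} {f : List ℤ → List ℤ} (hg : Sim g f) {v w : leechLattice}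
    (h : f (co (v : GolayPt → ℤ)) = co (w : GolayPt → ℤ)) : g • v = w :=
  Subtype.ext (co_injective ((hg v).trans h))

theorem sim_of_smul {g : Co0} {f : List ℤ → List ℤ} (hg : Sim g f) {v w : leechLattice}
    (h : g • v = w) : f (co (v : GolayPt → ℤ)) = co (w : GolayPt → ℤ) := by
  rw [← h]; exact (hg v).symm

theorem closure_eq_top {Γ : Type*} [Group Γ] {H : Subgroup Γ} {S : Set H}
    (h : H ≤ Subgroup.closure (Subtype.val '' S)) : Subgroup.closure S = ⊤ := by
  refine (Subgroup.eq_top_iff' _).2 fun x => ?_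
  have hx : (x : Γ) ∈ Subgroup.closure (H.subtype '' S) := h x.2
  rw [← MonoidHom.map_closure] at hx
  obtain ⟨y, hy, e⟩ := hx
  exact Subtype.ext e ▸ hy

/-- Permutations fixing the first base points lie in a subgroup containing the seeds. -/
theorem perm_mem {K : Subgroup Co0} {start : ℕ} {prog : List (ℕ × ℕ)} {seeds : List (List ℕ)}
    (hok : chainOK start (build prog seeds) = true) (hs : start ≤ 5)
    (hseeds : ∀ L ∈ seeds, ∃ g : M24, permHom g ∈ K ∧ toList (g : Equiv.Perm GolayPt) = L)
    (σ : M24) (hσ : ∀ p : GolayPt, idx p ∈ q5.take start → (σ : Equiv.Perm GolayPt) p = p) :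
    permHom σ ∈ K := by
  refine mem_of_chain (H := K.comap permHom) (build_mem prog seeds hseeds) hok hs σ fun i hi => ?_
  have h24 : i < 24 := by
    have := List.mem_of_mem_take hi
    simp [q5] at this; omega
  rw [toList_getD _ h24, hσ _ (by rw [idx_pt i h24]; exact hi), idx_pt i h24]

/-- A monomial map fixing a vector constant away from the extra point. -/
theorem mono_fix {v : leechLattice}
    (habs : (v : GolayPt → ℤ) none ≠ (v : GolayPt → ℤ) (some 0) ∧
      (v : GolayPt → ℤ) none ≠ -(v : GolayPt → ℤ) (some 0) ∧ (v : GolayPt → ℤ) (some 0) ≠ 0 ∧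
      (v : GolayPt → ℤ) none ≠ 0)
    (hconst : ∀ k, (v : GolayPt → ℤ) (some k) = (v : GolayPt → ℤ) (some 0))
    {g : Co0} (hm : g ∈ monoGroup) (hg : g • v = v) :
    ∃ σ : M24, (σ : Equiv.Perm GolayPt) none = none ∧ permHom σ = g := by
  obtain ⟨⟨w, σ⟩, hwσ⟩ := (mem_monoGroup_iff _).mp hm
  have hfix : monoAut (w, σ) • v = v := by rw [hwσ]; exact hg
  have hval : ∀ i, (if (w : GolayPt → ZMod 2) i = 1 then
      -(v : GolayPt → ℤ) ((σ : Equiv.Perm GolayPt)⁻¹ i) else
        (v : GolayPt → ℤ) ((σ : Equiv.Perm GolayPt)⁻¹ i)) = (v : GolayPt → ℤ) i := fun i => by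
    have := congrFun (congrArg Subtype.val hfix) i
    rwa [monoAut, mul_smul, signAut_apply] at this
  have hσ : (σ : Equiv.Perm GolayPt) none = none := by
    have := hval ((σ : Equiv.Perm GolayPt) none)
    rw [Equiv.Perm.inv_def, Equiv.symm_apply_apply] at this
    rcases hx : (σ : Equiv.Perm GolayPt) none with _ | l
    · rfl
    · rw [hx, hconst l] at this
      split at this
      · exact absurd this (fun e => habs.2.1 (by omega))
      · exact absurd this habs.1
  refine ⟨σ, hσ, ?_⟩
  have hw : w = 0 := by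
    refine Subtype.ext (funext fun i => ?_)
    rcases eq_zero_or_one ((w : GolayPt → ZMod 2) i) with e | e
    · exact e
    have := hval i
    rw [if_pos e] at this
    exfalso
    rcases i with _ | k
    · rw [Equiv.Perm.inv_def, (Equiv.symm_apply_eq _).mpr hσ.symm] at this
      exact habs.2.2.2 (by omega)
    · rw [Equiv.Perm.inv_def] at this
      rcases hx : (σ : Equiv.Perm GolayPt).symm (some k) with _ | l
      · rw [Equiv.symm_apply_eq, hσ] at hx; exact absurd hx (by simp)
      · rw [hx, hconst l, hconst k] at this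
        exact habs.2.2.1 (by omega)
  rw [← hwσ, hw, monoAut, signAut_zero, one_mul]

/-- A subgroup containing the monomial part of the group has index one modulo 23. -/
theorem relIndex_mod {H K : Subgroup Co0} (hK : K ≤ H) (hT : tAut ∈ K)
    (hmono : ∀ g ∈ H, g ∈ monoGroup → g ∈ K) : K.relIndex H % 23 = 1 := by
  set N := Subgroup.normalizer ((Subgroup.zpowers tAut : Subgroup Co0) : Set Co0)
  have h1 := MonoMax.sylow_count K hT
  have h2 := MonoMax.sylow_count H (hK hT)
  have hle : N ⊓ H ≤ K := fun g hg => hmono g hg.2 (MonoMax.normalizer_le hg.1)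
  have e := Subgroup.relIndex_mul_relIndex _ _ _ hle hK
  rw [show N ⊓ H = N ⊓ K from le_antisymm (le_inf inf_le_left hle) (inf_le_inf_left _ hK),
    Subgroup.inf_relIndex_right] at e
  have e2 : (N ⊓ K).relIndex H = N.relIndex H := by
    rw [show N ⊓ K = N ⊓ H from le_antisymm (inf_le_inf_left _ hK) (le_inf inf_le_left hle),
      Subgroup.inf_relIndex_right]
  change N.relIndex K % 23 = 1 at h1
  change N.relIndex H % 23 = 1 at h2
  rw [e2] at e
  rw [← e, Nat.mul_mod, h1, one_mul, Nat.mod_mod] at h2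
  exact h2

/-- Distinct images bound the index of a point stabiliser. -/
theorem card_lower {K : Subgroup Co0} (v : leechLattice) (n : ℕ) (g : ℕ → Co0) (hg : ∀ i < n, g i ∈ K)
    (hinj : ∀ i < n, ∀ j < n, g i • v = g j • v → i = j) :
    n ≤ (stabilizer Co0 v).relIndex K := by
  have h := Nat.card_le_card_of_injective
    (fun i : Fin n => ((⟨g i, hg i i.2⟩ : K) : K ⧸ (stabilizer Co0 v).subgroupOf K)) fun i j e => by
      have e' := (QuotientGroup.eq).1 e
      rw [Subgroup.mem_subgroupOf, mem_stabilizer_iff] at e'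
      simp only [Subgroup.coe_mul, Subgroup.coe_inv, mul_smul, inv_smul_eq_iff] at e'
      exact Fin.ext (hinj i i.2 j j.2 e'.symm)
  rwa [Nat.card_fin] at h

theorem triple_sizes {x : leechLattice} (hx : x ∈ zSet) :
    (orbit tripleStab x).ncard ∈ [1, 330, 462, 1232] ∧
      ((orbit tripleStab x).ncard = 1 → x = Spor.leechU') ∧
      ∀ y ∈ zSet, (orbit tripleStab y).ncard = (orbit tripleStab x).ncard → y ∈ orbit tripleStab x := by
  obtain ⟨y₁, hy₁, n₁⟩ := Cfsg.Agent.McLSimple.ncard_suborbit (a := 0) (n := 330) (by norm_num)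
    (by decide +kernel) Cfsg.Agent.McLSimple.reach_zero (by decide +kernel) (by decide +kernel)
    (by unfold Cfsg.Agent.McLSimple.InZ; decide +kernel) (by decide +kernel)
  obtain ⟨y₂, hy₂, n₂⟩ := Cfsg.Agent.McLSimple.ncard_suborbit (a := 2) (n := 462) (by norm_num)
    (by decide +kernel) Cfsg.Agent.McLSimple.reach_two (by decide +kernel) (by decide +kernel)
    (by unfold Cfsg.Agent.McLSimple.InZ; decide +kernel) (by decide +kernel)
  obtain ⟨y₃, hy₃, n₃⟩ := Cfsg.Agent.McLSimple.ncard_suborbit (a := 1) (n := 1232) (by norm_num)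
    (by decide +kernel) Cfsg.Agent.McLSimple.reach_one (by decide +kernel) (by decide +kernel)
    (by unfold Cfsg.Agent.McLSimple.InZ; decide +kernel) (by decide +kernel)
  have n₀ : (orbit tripleStab Spor.leechU').ncard = 1 := by
    rw [Set.ncard_eq_one]
    refine ⟨Spor.leechU', Set.eq_singleton_iff_unique_mem.2 ⟨mem_orbit_self _, ?_⟩⟩
    rintro _ ⟨g, rfl⟩
    exact g.2.2
  have hz : Spor.leechU' ∈ zSet := Cfsg.Agent.McLSimple.inZ_base
  have hsub : ∀ y ∈ zSet, orbit tripleStab y ⊆ zSet := by
    rintro y hy _ ⟨g, rfl⟩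
    exact Cfsg.Agent.McLSimple.inZ_smul g.2.1 hy
  have hfin : zSet.Finite := Set.finite_of_ncard_pos
    (by rw [Cfsg.Agent.McLSimple.ncard_zSet]; norm_num)
  have hd : ∀ {a b : leechLattice}, (orbit tripleStab a).ncard ≠ (orbit tripleStab b).ncard →
      Disjoint (orbit tripleStab a) (orbit tripleStab b) := fun {a b} hne => by
    refine Set.disjoint_left.2 fun c hca hcb => hne ?_
    rw [← orbit_eq_iff.2 hca, ← orbit_eq_iff.2 hcb]
  have hU : orbit tripleStab Spor.leechU' ∪ orbit tripleStab y₁ ∪ orbit tripleStab y₂ ∪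
      orbit tripleStab y₃ = zSet := by
    refine Set.eq_of_subset_of_ncard_le (Set.union_subset (Set.union_subset
      (Set.union_subset (hsub _ hz) (hsub _ hy₁)) (hsub _ hy₂)) (hsub _ hy₃)) ?_ hfin
    have f := fun y (hy : y ∈ zSet) => hfin.subset (hsub y hy)
    rw [Set.ncard_union_eq ?_ (((f _ hz).union (f _ hy₁)).union (f _ hy₂)) (f _ hy₃),
      Set.ncard_union_eq ?_ ((f _ hz).union (f _ hy₁)) (f _ hy₂),
      Set.ncard_union_eq ?_ (f _ hz) (f _ hy₁),
      n₀, n₁, n₂, n₃, Cfsg.Agent.McLSimple.ncard_zSet]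
    · exact hd (by omega)
    · exact Set.disjoint_union_left.2 ⟨hd (by omega), hd (by omega)⟩
    · exact Set.disjoint_union_left.2
        ⟨Set.disjoint_union_left.2 ⟨hd (by omega), hd (by omega)⟩, hd (by omega)⟩
  have hcases : ∀ y ∈ zSet, orbit tripleStab y = orbit tripleStab Spor.leechU' ∨
      orbit tripleStab y = orbit tripleStab y₁ ∨ orbit tripleStab y = orbit tripleStab y₂ ∨
      orbit tripleStab y = orbit tripleStab y₃ := by
    intro y hy
    rw [← hU] at hy
    rcases hy with ((h | h) | h) | h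
    exacts [Or.inl (orbit_eq_iff.2 h), Or.inr (Or.inl (orbit_eq_iff.2 h)),
      Or.inr (Or.inr (Or.inl (orbit_eq_iff.2 h))), Or.inr (Or.inr (Or.inr (orbit_eq_iff.2 h)))]
  refine ⟨?_, ?_, ?_⟩
  · rcases hcases x hx with e | e | e | e <;> simp [e, n₀, n₁, n₂, n₃]
  · intro h1
    rcases hcases x hx with e | e | e | e
    · have hm : x ∈ orbit tripleStab Spor.leechU' := e ▸ mem_orbit_self x
      obtain ⟨g, rfl⟩ := hm
      exact g.2.2
    all_goals rw [e] at h1; omega
  · intro y hy he
    rcases hcases x hx with e | e | e | e <;> rcases hcases y hy with e' | e' | e' | e' <;>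
      rw [e, e'] at he <;> first | omega | exact (e'.trans e.symm) ▸ mem_orbit_self y

/-- A subgroup between the small stabiliser and the group moving the base point is everything. -/
theorem mcl_full {L : Subgroup Co0} (h1 : tripleStab ≤ L) (h2 : L ≤ mclStab)
    (h3 : ∃ g ∈ L, g • Spor.leechU' ≠ Spor.leechU') : L = mclStab := by
  set O := orbit L Spor.leechU' with hO
  have hOz : O ⊆ zSet := by
    rintro _ ⟨g, rfl⟩
    exact Cfsg.Agent.McLSimple.inZ_smul (h2 g.2) Cfsg.Agent.McLSimple.inZ_base
  have hfin : zSet.Finite := Set.finite_of_ncard_pos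
    (by rw [Cfsg.Agent.McLSimple.ncard_zSet]; norm_num)
  haveI : Finite mclStab := Nat.finite_of_card_ne_zero (by
    rw [Cfsg.Agent.McLSimple.card_mclStab]; norm_num)
  haveI : Finite L := Finite.of_injective _ (Subgroup.inclusion_injective h2)
  have hinv : ∀ x ∈ O, orbit tripleStab x ⊆ O := by
    rintro _ ⟨g, rfl⟩ _ ⟨k, rfl⟩
    refine ⟨⟨k.1 * g.1, mul_mem (h1 k.2) g.2⟩, ?_⟩
    show (k.1 * g.1) • Spor.leechU' = k.1 • g.1 • Spor.leechU'
    exact mul_smul _ _ _
  have hindex : ∀ (M : Subgroup Co0), tripleStab ≤ M → M ≤ mclStab →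
      tripleStab.relIndex M = (orbit M Spor.leechU').ncard := fun M hM1 hM2 => by
    rw [← index_stabilizer, Subgroup.relIndex]
    congr 1
    ext g
    exact ⟨fun h => h.2, fun h => ⟨hM2 g.2, h⟩⟩
  have hmul := Subgroup.relIndex_mul_relIndex _ _ _ h1 h2
  rw [hindex L h1 h2, hindex mclStab (h1.trans h2) le_rfl, Cfsg.Agent.McLSimple.orbit_eq_zSet,
    Cfsg.Agent.McLSimple.ncard_zSet] at hmul
  -- the sizes
  obtain ⟨g, hg, hne⟩ := h3
  have hx : g • Spor.leechU' ∈ O := ⟨⟨g, hg⟩, rfl⟩
  have hs : O.ncard ∈ [1, 331, 463, 1233, 793, 1563, 1695, 2025] ∧ O.ncard ≠ 1 := by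
    have hge : ∀ x ∈ O, x ≠ Spor.leechU' → (orbit tripleStab x).ncard + 1 ≤ O.ncard := by
      intro x hx hne
      have hn : Spor.leechU' ∉ orbit tripleStab x := by
        rintro ⟨k, e⟩
        apply hne
        have e' : k • x = Spor.leechU' := e
        rw [← inv_smul_smul k x, e']
        exact (inv_mem k.2).2
      rw [← Set.ncard_insert_of_notMem hn (hfin.subset ((hinv x hx).trans hOz))]
      exact Set.ncard_le_ncard (Set.insert_subset (mem_orbit_self _) (hinv x hx)) (hfin.subset hOz)
    refine ⟨?_, fun e => ?_⟩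
    · have hpart : ∀ n ∈ [330, 462, 1232], ∃ m, (m = 0 ∨ m = n) ∧
          {x ∈ O | (orbit tripleStab x).ncard = n}.ncard = m := by
        intro n hn
        rcases Set.eq_empty_or_nonempty {x ∈ O | (orbit tripleStab x).ncard = n} with e | ⟨x, hx, hxn⟩
        · exact ⟨0, Or.inl rfl, by rw [e, Set.ncard_empty]⟩
        · refine ⟨n, Or.inr rfl, Eq.trans (congrArg Set.ncard ?_) hxn⟩
          ext y
          constructor
          · rintro ⟨hy, hyn⟩
            exact (triple_sizes (hOz hx)).2.2 y (hOz hy) (hyn.trans hxn.symm)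
          · intro hy
            exact ⟨hinv x hx hy, by rw [orbit_eq_iff.2 hy, hxn]⟩
      obtain ⟨a, ha, ea⟩ := hpart 330 (by simp)
      obtain ⟨b, hb, eb⟩ := hpart 462 (by simp)
      obtain ⟨c, hc, ec⟩ := hpart 1232 (by simp)
      have hsplit : O = insert Spor.leechU' ({x ∈ O | (orbit tripleStab x).ncard = 330} ∪
          {x ∈ O | (orbit tripleStab x).ncard = 462} ∪ {x ∈ O | (orbit tripleStab x).ncard = 1232}) := by
        ext y
        simp only [Set.mem_insert_iff, Set.mem_union, Set.mem_ofPred_eq]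
        refine ⟨fun hy => ?_, ?_⟩
        · have h := triple_sizes (hOz hy)
          simp only [List.mem_cons, List.not_mem_nil, or_false] at h
          rcases h.1 with e | e | e | e
          exacts [Or.inl (h.2.1 e), Or.inr (Or.inl (Or.inl ⟨hy, e⟩)), Or.inr (Or.inl (Or.inr ⟨hy, e⟩)),
            Or.inr (Or.inr ⟨hy, e⟩)]
        · rintro (rfl | (h | h) | h)
          exacts [mem_orbit_self _, h.1, h.1, h.1]
      have f := fun n => (hfin.subset hOz).subset
        (show {x ∈ O | (orbit tripleStab x).ncard = n} ⊆ O from fun x hx => hx.1)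
      have hnot : ∀ n, n ≠ 1 → Spor.leechU' ∉ {x ∈ O | (orbit tripleStab x).ncard = n} := by
        rintro n hn ⟨-, h⟩
        refine hn (h.symm.trans ?_)
        rw [Set.ncard_eq_one]
        refine ⟨Spor.leechU', Set.eq_singleton_iff_unique_mem.2 ⟨mem_orbit_self _, ?_⟩⟩
        rintro _ ⟨k, rfl⟩
        exact k.2.2
      rw [hsplit, Set.ncard_insert_of_notMem ?_ (((f 330).union (f 462)).union (f 1232)),
        Set.ncard_union_eq ?_ ((f 330).union (f 462)) (f 1232),
        Set.ncard_union_eq ?_ (f 330) (f 462), ea, eb, ec]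
      · rcases ha with rfl | rfl <;> rcases hb with rfl | rfl <;> rcases hc with rfl | rfl <;> simp
      · exact Set.disjoint_left.2 fun y h h' => by have := h.2.symm.trans h'.2; omega
      · exact Set.disjoint_left.2 fun y h h' => by
          rcases h with h | h <;> have := h.2.symm.trans h'.2 <;> omega
      · rintro ((h | h) | h)
        exacts [hnot 330 (by norm_num) h, hnot 462 (by norm_num) h, hnot 1232 (by norm_num) h]
    · have := hge _ hx hne
      have : 0 < (orbit tripleStab (g • Spor.leechU')).ncard :=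
        (Set.ncard_pos (hfin.subset ((hinv _ hx).trans hOz))).2 (nonempty_orbit _)
      omega
  have hall : O.ncard = 2025 := by
    simp only [List.mem_cons, List.not_mem_nil, or_false] at hs
    have hd : O.ncard ∣ 2025 := ⟨_, hmul.symm⟩
    rcases hs.1 with e | e | e | e | e | e | e | e
    · exact absurd e hs.2
    all_goals first | exact e | (rw [e] at hd; norm_num at hd)
  rw [← hO, hall] at hmul
  exact le_antisymm h2 (Subgroup.relIndex_eq_one.1 (by omega))

end CfsgLib.OutConway
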