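import Cfsg.Agent.OutConway.Frame
import Cfsg.Agent.OutConway.Powers
import Cfsg.Agent.OutConway.Stab

/-!
# The commutant of the twist in two pair stabilisers
-/

set_option autoImplicit false

namespace CfsgLib.OutConway

open Cfsg CfsgLib CfsgLib.Golay CfsgLib.Leech MulAction
open Cfsg.Agent.McLSimple (tripleStab)
open CfsgLib.Golay.Cert (genOK ofList toList_ofList q5 fiveList fixList_five toList_coe_injective powL)

/-- The inverse table of a power of the twist. -/
def twistI (n : ℕ) : List ℕ := invL (powL cL (n % 5))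

theorem toList_cP : toList (cP : Equiv.Perm GolayPt) = cL := toList_ofList gens_ok.2.2.1

theorem cP_pow : cP ^ 5 = 1 :=
  Cert.toList_coe_injective (by
    show Golay.toList ((cP ^ 5 : M24) : Equiv.Perm GolayPt) = Golay.toList ((1 : M24) : Equiv.Perm GolayPt)
    rw [SubgroupClass.coe_pow, Cert.toList_pow, toList_cP, OneMemClass.coe_one,
      ← pow_zero (1 : Equiv.Perm GolayPt), Cert.toList_pow]
    decide +kernel)

theorem cA_pow : cA ^ 5 = 1 := by rw [cA, ← map_pow, cP_pow, map_one]

theorem simP_c : SimP cA fun n => permI (twistI n) := by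
  intro n
  have e : cA ^ n = permHom (cP ^ (n % 5)) := by
    rw [map_pow, pow_eq_pow_mod n cA_pow]
    rfl
  have h := sim_perm (σ := cP ^ (n % 5)) (L := powL cL (n % 5)) (by
    rw [SubgroupClass.coe_pow, Cert.toList_pow, toList_cP])
  rw [e]
  exact h

/-- The class of each position under the twist. -/
def repC : List ℕ := (List.range 24).map fun i =>
  if i = 23 then 0 else if i = 0 then 1 else if i = 3 then 2 else if i = 15 then 3
  else if i ∈ [1, 18, 4, 2, 6] then 4 else if i ∈ [5, 21, 20, 10, 7] then 5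
  else if i ∈ [8, 16, 13, 9, 12] then 6 else 7

theorem eq_expandC (l : List ℤ) (hl : l.length = 24) (h : ∀ i < 24, l.getD (cL.getD i 0) 0 = l.getD i 0) :
    l = expand repC [l.getD 23 0, l.getD 0 0, l.getD 3 0, l.getD 15 0, l.getD 1 0, l.getD 5 0, l.getD 8 0,
      l.getD 11 0] := by
  match l, hl with
  | [a0, a1, a2, a3, a4, a5, a6, a7, a8, a9, a10, a11, a12, a13, a14, a15, a16, a17, a18, a19, a20, a21, a22, a23], _ =>
    have f : ∀ i < 24, [a0, a1, a2, a3, a4, a5, a6, a7, a8, a9, a10, a11, a12, a13, a14, a15, a16, a17, a18,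
      a19, a20, a21, a22, a23].getD (cL.getD i 0) 0 = [a0, a1, a2, a3, a4, a5, a6, a7, a8, a9, a10, a11,
      a12, a13, a14, a15, a16, a17, a18, a19, a20, a21, a22, a23].getD i 0 := h
    have e1 := f 1 (by norm_num); have e2 := f 2 (by norm_num)
    have e4 := f 4 (by norm_num); have e5 := f 5 (by norm_num); have e6 := f 6 (by norm_num)
    have e7 := f 7 (by norm_num); have e8 := f 8 (by norm_num); have e9 := f 9 (by norm_num)
    have e10 := f 10 (by norm_num); have e11 := f 11 (by norm_num); have e12 := f 12 (by norm_num)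
    have e13 := f 13 (by norm_num); have e14 := f 14 (by norm_num); have e16 := f 16 (by norm_num)
    have e17 := f 17 (by norm_num); have e18 := f 18 (by norm_num); have e19 := f 19 (by norm_num)
    have e20 := f 20 (by norm_num); have e21 := f 21 (by norm_num); have e22 := f 22 (by norm_num)
    simp [cL] at e1 e2 e4 e5 e6 e7 e8 e9 e10 e11 e12 e13 e14 e16 e17 e18 e19 e20 e21 e22
    simp [expand, repC, List.range_succ]
    omega

theorem sum_expandC (a c e f d₁ d₂ d₃ d₄ : ℤ) :
    dotL (expand repC [a, c, e, f, d₁, d₂, d₃, d₄]) (expand repC [a, c, e, f, d₁, d₂, d₃, d₄]) =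
        a * a + c * c + e * e + f * f + 5 * (d₁ * d₁) + 5 * (d₂ * d₂) + 5 * (d₃ * d₃) + 5 * (d₄ * d₄) ∧
      (expand repC [a, c, e, f, d₁, d₂, d₃, d₄]).sum = a + c + e + f + 5 * d₁ + 5 * d₂ + 5 * d₃ + 5 * d₄ := by
  constructor <;> (simp [dotL, expand, repC, List.range_succ]; ring)

/-- The values allowed on a cycle. -/
def dvals (a n : ℤ) : List ℤ := (ints 3).filter fun v => (v - a) % 2 == 0 && decide (n + 5 * (v * v) ≤ 64)

/-- The possible images of the extra unit. -/
def enumC (s : ℤ) : List (List ℤ) :=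
  (ints 8).flatMap fun a =>
    if a * a + s * (8 - a) * (s * (8 - a)) ≤ 64 then
      (ints 8).flatMap fun e =>
        if (e - a) % 2 = 0 ∧ a * a + s * (8 - a) * (s * (8 - a)) + e * e ≤ 64 then
          (dvals a (a * a + s * (8 - a) * (s * (8 - a)) + e * e)).flatMap fun d₁ =>
          (dvals a (a * a + s * (8 - a) * (s * (8 - a)) + e * e + 5 * (d₁ * d₁))).flatMap fun d₂ =>
          (dvals a (a * a + s * (8 - a) * (s * (8 - a)) + e * e + 5 * (d₁ * d₁) + 5 * (d₂ * d₂))).flatMap fun d₃ =>
          (dvals a (a * a + s * (8 - a) * (s * (8 - a)) + e * e + 5 * (d₁ * d₁) + 5 * (d₂ * d₂) +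
              5 * (d₃ * d₃))).flatMap fun d₄ =>
            if a * a + s * (8 - a) * (s * (8 - a)) + e * e + 5 * (d₁ * d₁) + 5 * (d₂ * d₂) + 5 * (d₃ * d₃) +
                5 * (d₄ * d₄) +
                (40 - 5 * a - s * (8 - a) - e - 5 * d₁ - 5 * d₂ - 5 * d₃ - 5 * d₄) *
                  (40 - 5 * a - s * (8 - a) - e - 5 * d₁ - 5 * d₂ - 5 * d₃ - 5 * d₄) = 64 ∧
                memL (expand repC [a, s * (8 - a), e,
                  40 - 5 * a - s * (8 - a) - e - 5 * d₁ - 5 * d₂ - 5 * d₃ - 5 * d₄, d₁, d₂, d₃, d₄]) = true then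
              [expand repC [a, s * (8 - a), e,
                40 - 5 * a - s * (8 - a) - e - 5 * d₁ - 5 * d₂ - 5 * d₃ - 5 * d₄, d₁, d₂, d₃, d₄]]
            else []
        else []
    else []

theorem mem_enumC {s : ℤ} {l : List ℤ} (hl : l.length = 24)
    (hfix : ∀ i < 24, l.getD (cL.getD i 0) 0 = l.getD i 0) (hm : memL l = true) (hn : dotL l l = 64)
    (hV : -l.sum - 4 * l.getD 23 0 = -40) (hW : l.getD 0 0 = s * (8 - l.getD 23 0)) : l ∈ enumC s := by
  obtain ⟨hlen, hpar⟩ : l.length = 24 ∧ ∀ i < 24, (l.getD i 0 - l.getD 23 0) % 2 = 0 := by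
    refine ⟨hl, fun i hi => ?_⟩
    simp only [memL, Bool.and_eq_true, List.all_eq_true, beq_iff_eq] at hm
    exact hm.1.1 _ (by rw [List.getD_eq_getElem _ _ (hl ▸ hi)]; exact List.getElem_mem _)
  have he := eq_expandC l hl hfix
  have hb := bound_of_norm hn
  have hb' : ∀ i < 24, -8 ≤ l.getD i 0 ∧ l.getD i 0 ≤ 8 := fun i hi =>
    hb _ (by rw [List.getD_eq_getElem _ _ (hl ▸ hi)]; exact List.getElem_mem _)
  set a := l.getD 23 0
  set c := l.getD 0 0
  set e := l.getD 3 0 with hee
  set f := l.getD 15 0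
  set d₁ := l.getD 1 0 with h1
  set d₂ := l.getD 5 0 with h2
  set d₃ := l.getD 8 0 with h3
  set d₄ := l.getD 11 0 with h4
  obtain ⟨hd, hs⟩ := sum_expandC a c e f d₁ d₂ d₃ d₄
  rw [← he] at hd hs
  rw [hn] at hd
  have hf : f = 40 - 5 * a - c - e - 5 * d₁ - 5 * d₂ - 5 * d₃ - 5 * d₄ := by omega
  clear_value c
  subst hW
  have q0 := mul_self_nonneg a; have q1 := mul_self_nonneg (s * (8 - a)); have q2 := mul_self_nonneg e
  have q3 := mul_self_nonneg f; have q4 := mul_self_nonneg d₁; have q5' := mul_self_nonneg d₂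
  have q6 := mul_self_nonneg d₃; have q7 := mul_self_nonneg d₄
  have hdv : ∀ i < 24, ∀ n : ℤ, n + 5 * (l.getD i 0 * l.getD i 0) ≤ 64 → 0 ≤ n →
      l.getD i 0 ∈ dvals a n := by
    intro i hi n h h0
    refine List.mem_filter.2 ⟨mem_ints (by push_cast; nlinarith) (by push_cast; nlinarith), ?_⟩
    simp only [Bool.and_eq_true, beq_iff_eq, decide_eq_true_eq]
    exact ⟨hpar i hi, h⟩
  simp only [enumC, List.mem_flatMap]
  refine ⟨a, mem_ints (hb' 23 (by norm_num)).1 (hb' 23 (by norm_num)).2, ?_⟩
  rw [if_pos (by linarith), List.mem_flatMap]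
  refine ⟨e, mem_ints (hb' 3 (by norm_num)).1 (hb' 3 (by norm_num)).2, ?_⟩
  rw [if_pos ⟨hpar 3 (by norm_num), by linarith⟩, List.mem_flatMap]
  refine ⟨d₁, hdv 1 (by norm_num) _ (by rw [← h1]; linarith) (by linarith), List.mem_flatMap.2 ⟨d₂,
    hdv 5 (by norm_num) _ (by rw [← h2]; linarith) (by linarith), List.mem_flatMap.2 ⟨d₃,
    hdv 8 (by norm_num) _ (by rw [← h3]; linarith) (by linarith), List.mem_flatMap.2 ⟨d₄,
    hdv 11 (by norm_num) _ (by rw [← h4]; linarith) (by linarith), ?_⟩⟩⟩⟩
  rw [← hf, if_pos ⟨by linarith, he ▸ hm⟩]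
  exact List.mem_singleton.2 he

/-- The points other than the fixed ones. -/
def movC : List ℕ := [1, 2, 4, 5, 6, 7, 8, 9, 10, 11, 12, 13, 14, 16, 17, 18, 19, 20, 21, 22]

theorem trans_okC : (movC.all fun q => [3, 15].all fun r => transC.any fun L => genOK L &&
    L.getD 23 0 == 23 && L.getD 0 0 == 0 && L.getD 1 0 == q && L.getD 2 0 == (powL cL 3).getD q 0 &&
    L.getD 3 0 == r) = true := by decide +kernel

theorem perms_checkC : (transC.all fun L => fiveList.all fun f =>
    !(compL (compL L f) cL == compL cL (compL L f)) ||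
      (List.range 5).any fun i => compL L f == powL cL i) = true := by decide +kernel

theorem base_checkC : (powL cL 3).getD 1 0 = 2 ∧ cL.getD 3 0 = 3 ∧
    ((List.range 24).all fun i => decide (i ∈ movC) == (cL.getD i 0 != i)) = true := by decide +kernel

/-- A permutation commuting with the twist and fixing the two base points is a power. -/
theorem perm_of_commC {σ : M24} (hc : σ * cP = cP * σ) (h0 : (σ : Equiv.Perm GolayPt) none = none)
    (h1 : (σ : Equiv.Perm GolayPt) (some 0) = some 0) : ∃ j < 5, σ = cP ^ j := by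
  set S := toList (σ : Equiv.Perm GolayPt) with hS
  have hcl : compL S cL = compL cL S := by
    rw [hS, ← toList_cP, ← toList_mul, ← toList_mul, ← Subgroup.coe_mul, ← Subgroup.coe_mul, hc]
  have hstep : ∀ (n i : ℕ), i < 24 → S.getD ((powL cL n).getD i 0) 0 = (powL cL n).getD (S.getD i 0) 0 := by
    intro n i hi
    rw [← toList_cP, ← Cert.toList_pow, hS, toList_getD _ hi, toList_getD _ hi, toList_getD_idx,
      toList_getD_idx, ← SubgroupClass.coe_pow, ← Equiv.Perm.mul_apply, ← Equiv.Perm.mul_apply,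
      ← Subgroup.coe_mul, ← Subgroup.coe_mul, (Commute.pow_right (show Commute σ cP from hc) n).eq]
  have hone : powL cL 1 = cL := by decide +kernel
  have hlt : ∀ i < 24, S.getD i 0 < 24 := fun i hi => by rw [hS, toList_getD _ hi]; exact idx_lt _
  have hinj : ∀ i < 24, ∀ j < 24, S.getD i 0 = S.getD j 0 → i = j := fun i hi j hj e => by
    rw [hS, toList_getD _ hi, toList_getD _ hj] at e
    rw [← idx_pt i hi, (σ : Equiv.Perm GolayPt).injective (idx_injective e), idx_pt j hj]
  have hS23 : S.getD 23 0 = 23 := by rw [hS, toList_getD _ (by norm_num), show pt 23 = none from rfl, h0]; rfl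
  have hS0 : S.getD 0 0 = 0 := by
    rw [hS, toList_getD _ (by norm_num), show pt 0 = some 0 from rfl, h1]; decide +kernel
  have hmov : ∀ i < 24, (i ∈ movC ↔ cL.getD i 0 ≠ i) := fun i hi => by
    have h := List.all_eq_true.1 base_checkC.2.2 i (List.mem_range.2 hi)
    rw [beq_iff_eq] at h
    constructor
    · intro hm; rw [decide_eq_true hm] at h; simpa using h.symm
    · intro hne
      have : (cL.getD i 0 != i) = true := by simpa using hne
      rw [this] at h
      exact of_decide_eq_true h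
  have hclt : ∀ i < 24, cL.getD i 0 < 24 := fun i hi => by
    rw [← toList_cP, toList_getD _ hi]; exact idx_lt _
  have hq : S.getD 1 0 ∈ movC := by
    refine (hmov _ (hlt 1 (by norm_num))).2 fun e => ?_
    have h2 := hstep 1 1 (by norm_num)
    rw [hone, e] at h2
    exact (hmov 1 (by norm_num)).1 (by simp [movC]) (hinj _ (hclt 1 (by norm_num)) 1 (by norm_num) h2)
  have hr : S.getD 3 0 ∈ [3, 15] := by
    have h2 := hstep 1 3 (by norm_num)
    rw [hone, base_checkC.2.1] at h2
    have hnot : S.getD 3 0 ∉ movC := fun hm => (hmov _ (hlt 3 (by norm_num))).1 hm h2.symm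
    have hne1 : S.getD 3 0 ≠ 23 := fun e =>
      absurd (hinj 3 (by norm_num) 23 (by norm_num) (e.trans hS23.symm)) (by norm_num)
    have hne2 : S.getD 3 0 ≠ 0 := fun e =>
      absurd (hinj 3 (by norm_num) 0 (by norm_num) (e.trans hS0.symm)) (by norm_num)
    have := hlt 3 (by norm_num)
    simp only [movC, List.mem_cons, List.not_mem_nil, or_false] at hnot ⊢
    omega
  obtain ⟨L, hL, hLp⟩ := List.any_eq_true.1 (List.all_eq_true.1 (List.all_eq_true.1 trans_okC _ hq) _ hr)
  simp only [Bool.and_eq_true, beq_iff_eq] at hLp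
  obtain ⟨⟨⟨⟨⟨hT, t23⟩, t0⟩, t1⟩, t2⟩, t3⟩ := hLp
  have h2 : S.getD 2 0 = (powL cL 3).getD (S.getD 1 0) 0 := by
    have := hstep 3 1 (by norm_num)
    rwa [base_checkC.1] at this
  set τ := ofList L with hτ
  have hτl := toList_ofList hT
  have hmem : toList ((τ⁻¹ * σ : M24) : Equiv.Perm GolayPt) ∈ fiveList := by
    refine fixList_five _ fun i hi => ?_
    have hi24 : i < 24 := by simp [q5] at hi; omega
    have e : (τ : Equiv.Perm GolayPt) (pt i) = (σ : Equiv.Perm GolayPt) (pt i) := by
      refine idx_injective ?_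
      rw [← toList_getD _ hi24, ← toList_getD _ hi24, hτl, ← hS]
      simp only [q5, List.mem_cons, List.not_mem_nil, or_false] at hi
      rcases hi with rfl | rfl | rfl | rfl | rfl
      · exact t23.trans hS23.symm
      · exact t0.trans hS0.symm
      · exact t1
      · exact t2.trans h2.symm
      · exact t3
    rw [toList_getD _ hi24, Subgroup.coe_mul, Subgroup.coe_inv, Equiv.Perm.mul_apply, ← e,
      Equiv.Perm.inv_def, Equiv.symm_apply_apply, idx_pt _ hi24]
  have hcomp : compL L (toList ((τ⁻¹ * σ : M24) : Equiv.Perm GolayPt)) = S := by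
    rw [← hτl, ← toList_mul, ← Subgroup.coe_mul, mul_inv_cancel_left]
  have hp := List.all_eq_true.1 (List.all_eq_true.1 perms_checkC L hL) _ hmem
  rw [hcomp, hcl] at hp
  simp only [Bool.or_eq_true, Bool.not_eq_true', beq_eq_false_iff_ne, ne_eq, not_true_eq_false, false_or,
    List.any_eq_true, List.mem_range, beq_iff_eq] at hp
  obtain ⟨i, hi, he⟩ := hp
  refine ⟨i, hi, toList_coe_injective ?_⟩
  show toList (σ : Equiv.Perm GolayPt) = toList ((cP ^ i : M24) : Equiv.Perm GolayPt)
  rw [SubgroupClass.coe_pow, Cert.toList_pow, toList_cP]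
  exact he

theorem cP_fix : (cP : Equiv.Perm GolayPt) none = none := by
  refine idx_injective ?_
  rw [← toList_getD_idx, toList_cP]
  decide +kernel

theorem dot_V_eight : dotInt Spor.vecV (eightAt none : GolayPt → ℤ) = -40 := by
  simp only [dotInt, eightAt_apply, mul_ite, mul_zero, Finset.sum_ite_eq', Finset.mem_univ, if_true]
  rfl

/-- The commutant of the twist in a pair stabiliser. -/
theorem exists_pow {W : leechLattice} {s : ℤ} (hs : s * s = 1) {e : Co0} {fe : ℕ → List ℤ → List ℤ}
    (hfe : SimP e fe) (heV : e • Spor.leechV = Spor.leechV) (heW : e • W = W) (hec : e * cA = cA * e)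
    (hW : ∀ x : GolayPt → ℤ, dotInt (W : GolayPt → ℤ) x = 4 * (x none + s * x (some 0)))
    (hcheck : ((enumC s).all fun x => (List.range 5).any fun i => fe i (unit8 23) == x) = true)
    (htriple : ∀ g : Co0, g • Spor.leechV = Spor.leechV → g • W = W →
      g • eightAt none = eightAt none → g ∈ tripleStab)
    {g : Co0} (hgV : g • Spor.leechV = Spor.leechV) (hgW : g • W = W) (hgc : g * cA = cA * g) :
    ∃ i < 5, ∃ j < 5, g = e ^ i * cA ^ j := by
  set y : leechLattice := g • eightAt none with hy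
  set x := co (y : GolayPt → ℤ) with hx
  obtain ⟨hm, hn, -, -⟩ := image_facts g none none
  have e23 : x.getD 23 0 = (y : GolayPt → ℤ) none := getD_co _ none
  have e0 : x.getD 0 0 = (y : GolayPt → ℤ) (some 0) := by
    have h := getD_co (y : GolayPt → ℤ) (some 0)
    rwa [show idx (some 0 : GolayPt) = 0 by decide +kernel] at h
  have hV : -x.sum - 4 * x.getD 23 0 = -40 := by
    have h := dot_smul' g Spor.leechV (eightAt none)
    rw [hgV] at h
    rw [hx, sum_co, ← hx, e23, ← Cfsg.Agent.McLSimple.dot_vecV]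
    exact h.trans dot_V_eight
  have hW' : x.getD 0 0 = s * (8 - x.getD 23 0) := by
    have h := dot_smul' g W (eightAt none)
    rw [hgW, hW, hW] at h
    simp only [eightAt_apply, if_true, reduceCtorEq, if_false, mul_zero, add_zero] at h
    rw [e23, e0]
    have h' : (y : GolayPt → ℤ) none + s * (y : GolayPt → ℤ) (some 0) = 8 := by linarith
    linear_combination s * h' - (y : GolayPt → ℤ) (some 0) * hs
  obtain ⟨i, hi, he⟩ := List.any_eq_true.1 (List.all_eq_true.1 hcheck x
    (mem_enumC (length_co _) (fixed_of_comm toList_cP hgc cP_fix) hm hn hV hW'))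
  rw [beq_iff_eq] at he
  set k := (e ^ i)⁻¹ * g with hk
  have hk8 : k • eightAt none = eightAt none := by
    rw [hk, mul_smul, inv_smul_eq_iff]
    exact (smul_of_sim (hfe i) (by rw [co_eightAt]; exact he)).symm
  have hei : ∀ v : leechLattice, e • v = v → e ^ i • v = v := fun v hv =>
    (stabilizer Co0 v).pow_mem hv i
  have hkV : k • Spor.leechV = Spor.leechV := by
    rw [hk, mul_smul, hgV, inv_smul_eq_iff, hei _ heV]
  have hkW : k • W = W := by rw [hk, mul_smul, hgW, inv_smul_eq_iff, hei _ heW]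
  obtain ⟨σ, h0, h1, hσ⟩ := Cfsg.Agent.McLSimple.exists_perm_of_fix (htriple k hkV hkW hk8)
  have hkc : k * cA = cA * k :=
    (Commute.mul_left ((show Commute e cA from hec).pow_left i).inv_left (show Commute g cA from hgc)).eq
  rw [← hσ, cA, ← map_mul, ← map_mul] at hkc
  obtain ⟨j, hj, rfl⟩ := perm_of_commC (permHom_injective hkc) h0 h1
  refine ⟨i, List.mem_range.1 hi, j, hj, ?_⟩
  rw [show cA ^ j = k by rw [← hσ, map_pow]; rfl, hk, mul_inv_cancel_left]

end CfsgLib.OutConway
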