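import Cfsg.Agent.OutConway.Stab
import Cfsg.Agent.OutConway.Flip
import Cfsg.Agent.OutConway.CentB
import Cfsg.Agent.OutConway.Out

/-!
# Automorphisms of the stabiliser of a shortest vector
-/

set_option autoImplicit false

namespace CfsgLib.OutConway.Two

open Cfsg CfsgLib CfsgLib.Golay CfsgLib.Leech MulAction
open Cfsg.Agent.McLSimple (mclStab tripleStab)
open CfsgLib.Golay.Cert (genOK ofList toList_ofList q5)

attribute [local irreducible] shortVecs halfTable quarterTable codeFinset

/-- The fixed vector. -/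
def U2 : leechLattice := ⟨stdC none, stdC_mem none⟩

/-- The group. -/
abbrev H : Subgroup Co0 := stabilizer Co0 U2

/-- Its coordinates. -/
def uL : List ℤ := co (stdC none)

/-- The generators as functions. -/
def funs (k : ℕ) : List (ℕ → List ℤ → List ℤ) :=
  [fun n => permI (rotI (k * n)), fun n => permI (mulI n), fun n => (matA yMat)^[n]]

/-- The first relation. -/
def relA : List (ℕ × ℕ) := rep 11 [(0, 3), (1, 2), (2, 1)]

/-- The second relation. -/
def relB : List (ℕ × ℕ) := rep 6 [(0, 14), (1, 7), (2, 1), (0, 1), (2, 1)]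

/-- A word moving the third vector. -/
def movW : List (ℕ × ℕ) := [(0, 17), (2, 1), (0, 5), (2, 1), (0, 3), (2, 1), (0, 1), (2, 1)]

theorem fix_checks : permA tL uL = uL ∧ permA bL uL = uL ∧ matA yMat uL = uL ∧
    permA piL (co Spor.vecV) = negA (addV uL (co Spor.vecU)) := by decide +kernel

theorem rel_holdsA : sameAct (evF (funs 1) relA) id = true := by decide +kernel

theorem rel_holdsB : sameAct (evF (funs 1) relB) id = true := by decide +kernel

theorem rel_fails : ((List.range 23).all fun k => decide (k < 2) ||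
    evF (funs k) relB (unit8 5) != unit8 5 || evF (funs k) relA (unit8 5) != unit8 5) = true := by
  decide +kernel

theorem word_sig : sameAct (evF (funs 1) [(2, 1), (0, 14), (2, 1), (0, 16), (2, 1), (0, 5), (2, 1), (0, 5),
    (2, 1)]) (permA sigB) = true := by decide +kernel

theorem mover : evF (funs 1) movW uL = uL ∧
    evF (funs 1) movW (co Spor.vecU) = co Spor.vecU ∧
    permA piL (evF (funs 1) movW (permA piL (co Spor.vecU'))) ≠ co Spor.vecU' := by decide +kernel

/-- Twenty-four images of the second vector. -/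
def ptsF (i : ℕ) : List (ℕ × ℕ) := if i < 23 then [(0, i)] else [(2, 1)]

theorem pts_nodup : ((List.range 24).map fun i => evF (funs 1) (ptsF i) (co Spor.vecU)).Nodup := by
  decide +kernel

theorem cand_check : (candB.all fun f => !(f uL == uL) ||
    (List.range 11).any fun i => sameAct f (permI (mulI i))) = true := by decide +kernel

theorem y_checks : sameAct (fun x => matA yMat (permA bL (matA yMat x))) (permI (mulI 10)) = true ∧
    sameAct (fun x => matA yMat (matA yMat x)) id = true ∧
    sameAct (fun x => permA bL (permA tL x)) (fun x => permA tL (permA tL (permA bL x))) = true := by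
  decide +kernel

theorem divisor_check : ∀ i < 86, (23 * i + 1) ∣ 47104 → i = 0 := by decide +kernel

theorem tmem : tAut ∈ H := smul_of_sim sim_t fix_checks.1
theorem bmem : bA ∈ H := smul_of_sim sim_b fix_checks.2.1
theorem ymem : yA ∈ H := smul_of_sim sim_y fix_checks.2.2.1

/-- The translation. -/
def tH : H := ⟨tAut, tmem⟩
/-- The multiplier. -/
noncomputable def bH : H := ⟨bA, bmem⟩
/-- The inverting element. -/
def yH : H := ⟨yA, ymem⟩

theorem sims (k : ℕ) : List.Forall₂ SimP [tAut ^ k, bA, yA] (funs k) :=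
  .cons (simP_t k) (.cons simP_b (.cons (simP_pow sim_y) .nil))

theorem sims₁ : List.Forall₂ SimP [tAut, bA, yA] (funs 1) := by
  simpa only [pow_one] using sims 1

theorem conj_bt : bA * tAut * bA⁻¹ = tAut ^ 2 := by
  rw [mul_inv_eq_iff_eq_mul]
  exact eq_of_sim (sim_b.mul sim_t) ((sim_t.pow 2).mul sim_b) y_checks.2.2

theorem conj_yb : yA * bA * yA⁻¹ = bA⁻¹ := by
  have e : yA⁻¹ = yA := inv_eq_of_mul_eq_one_left (eq_one_of_sim (sim_y.mul sim_y) y_checks.2.1)
  have h : yA * (bA * yA) = bA ^ 10 :=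
    eq_of_sim (sim_y.mul (sim_b.mul sim_y)) (simP_b 10) y_checks.1
  rw [e, mul_assoc, h, eq_inv_iff_mul_eq_one, ← pow_succ, bA_pow]

theorem pi_V : piA • Spor.leechV = -(U2 + Spor.leechU) := by
  refine smul_of_sim sim_pi (fix_checks.2.2.2.trans ?_)
  refine List.ext_getElem (by simp [negA, addV, uL, co]) fun i h1 h2 => ?_
  simp [negA, addV, uL, co, U2]
  rfl

theorem conj_mem (g : Co0) : piA * g * piA⁻¹ ∈ stabilizer Co0 U2 ⊓ stabilizer Co0 Spor.leechU ↔
    g ∈ mclStab := by
  have hU : piA • Spor.leechU = Spor.leechU := smul_of_sim sim_pi pi_checks.2.2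
  have hU' : piA⁻¹ • Spor.leechU = Spor.leechU := inv_smul_eq_iff.2 hU.symm
  have hV' : piA⁻¹ • (-(U2 + Spor.leechU)) = Spor.leechV := inv_smul_eq_iff.2 pi_V.symm
  have hU2 : U2 = -(piA • Spor.leechV) - Spor.leechU := by rw [pi_V]; abel
  simp only [Subgroup.mem_inf, mem_stabilizer_iff, mclStab, mul_smul, hU']
  constructor
  · rintro ⟨h1, h2⟩
    have hg : g • Spor.leechU = Spor.leechU := by
      refine MulAction.injective piA ?_
      show piA • g • Spor.leechU = piA • Spor.leechU
      rw [hU]; exact h2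
    refine ⟨MulAction.injective piA ?_, hg⟩
    show piA • g • Spor.leechV = piA • Spor.leechV
    rw [pi_V]
    calc piA • g • Spor.leechV = piA • g • piA⁻¹ • (-(U2 + Spor.leechU)) := by rw [hV']
      _ = -(U2 + Spor.leechU) := by
        simp only [Leech.smul_neg', Leech.smul_add', h1, hU', hg, hU]
  · rintro ⟨h1, h2⟩
    refine ⟨?_, by rw [h2, hU]⟩
    conv_lhs => rw [hU2]
    rw [Leech.smul_sub', Leech.smul_neg', inv_smul_smul, hU', Leech.smul_sub', Leech.smul_neg', h1, h2,
      Leech.smul_sub', Leech.smul_neg', hU, ← hU2]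

theorem card_pair : Nat.card ↥(stabilizer Co0 U2 ⊓ stabilizer Co0 Spor.leechU) = 898128000 := by
  rw [← Cfsg.Agent.McLSimple.card_mclStab]
  refine (Nat.card_congr
    { toFun := fun g : mclStab => (⟨piA * g * piA⁻¹, (conj_mem _).2 g.2⟩ : ↥(stabilizer Co0 U2 ⊓ stabilizer Co0 Spor.leechU))
      invFun := fun g => ⟨piA⁻¹ * g * piA, (conj_mem _).1 (by simpa [mul_assoc] using g.2)⟩
      left_inv := fun g => Subtype.ext (by simp [mul_assoc])
      right_inv := fun g => Subtype.ext (by simp [mul_assoc]) }).symm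

/-- Generation. -/
theorem le_closure : H ≤ Subgroup.closure {tAut, bA, yA} := by
  set K := Subgroup.closure ({tAut, bA, yA} : Set Co0) with hK
  have hgens : ∀ g ∈ [tAut, bA, yA], g ∈ K := fun g hg => Subgroup.subset_closure (by simpa using hg)
  have hKH : K ≤ H := (Subgroup.closure_le _).2 (by
    rintro g (rfl | rfl | rfl)
    exacts [tmem, bmem, ymem])
  have hsig : permHom (ofList sigB) ∈ K := by
    rw [← eq_of_sim (sim_ev sims₁ _) (sim_ofList gens_ok.2.2.2.2.1) word_sig]
    exact ev_mem hgens _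
  have hperm : ∀ σ : M24, (σ : Equiv.Perm GolayPt) none = none → permHom σ ∈ K := fun σ hσ => by
    refine perm_mem progB_ok (by norm_num) ?_ σ fun p hp => ?_
    · intro L hL
      simp only [List.mem_cons, List.not_mem_nil, or_false] at hL
      rcases hL with rfl | rfl | rfl
      exacts [⟨trans23, hgens _ (by simp [tAut]), toList_trans⟩,
        ⟨bP, hgens _ (by simp [bA]), toList_bP⟩, ⟨_, hsig, toList_ofList gens_ok.2.2.2.2.1⟩]
    · simp only [q5, List.take_succ_cons, List.take_zero, List.mem_singleton] at hp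
      rwa [show p = none from idx_injective hp]
  set S := stabilizer Co0 U2 ⊓ stabilizer Co0 Spor.leechU with hS
  have hSK : S ≤ K := by
    have hfull := mcl_full (L := K.comap (MulAut.conj piA).toMonoidHom ⊓ mclStab)
      (le_inf (fun g hg => by
        obtain ⟨σ, h0, h1, rfl⟩ := Cfsg.Agent.McLSimple.exists_perm_of_fix hg
        show piA * permHom σ * piA⁻¹ ∈ K
        rw [piA, ← map_inv, ← map_mul, ← map_mul]
        refine hperm _ ?_
        show projInv ((σ : Equiv.Perm GolayPt) (projInv.symm none)) = none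
        rw [show projInv.symm none = some 0 from rfl, h1]
        rfl) inf_le_left) inf_le_right
      ⟨piA⁻¹ * evG [tAut, bA, yA] movW * piA, ⟨by
          show piA * (piA⁻¹ * evG [tAut, bA, yA] movW * piA) * piA⁻¹ ∈ K
          simpa [mul_assoc] using ev_mem hgens movW,
        (conj_mem _).1 (by
          rw [show piA * (piA⁻¹ * evG [tAut, bA, yA] movW * piA) * piA⁻¹ = evG [tAut, bA, yA] movW by group]
          exact ⟨smul_of_sim (sim_ev sims₁ _) mover.1, smul_of_sim (sim_ev sims₁ _) mover.2.1⟩)⟩,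
        fun e => mover.2.2 (sim_of_smul (v := Spor.leechU') (w := Spor.leechU') (sim_pi.mul ((sim_ev sims₁ movW).mul sim_pi)) (by
          rw [pi_inv] at e; rw [← mul_assoc]; exact e))⟩
    intro g hg
    have h := (hfull.ge ((conj_mem (piA⁻¹ * g * piA)).1 (by rw [show piA * (piA⁻¹ * g * piA) * piA⁻¹ = g by group]; exact hg))).1
    simpa [Subgroup.mem_comap, MulAut.conj_apply, mul_assoc] using h
  have hmod : K.relIndex H % 23 = 1 := relIndex_mod hKH (hgens _ (by simp)) fun g hgH hgm => by
    obtain ⟨σ, hσ, rfl⟩ := mono_fix ⟨stdC_base.2.2.1, stdC_base.2.2.2.1, stdC_base.2.2.2.2⟩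
      stdC_base.2.1 hgm hgH
    exact hperm σ hσ
  have hlow : 24 ≤ (stabilizer Co0 Spor.leechU).relIndex K := by
    refine card_lower _ 24 (fun i => evG [tAut, bA, yA] (ptsF i)) (fun i _ => ev_mem hgens _)
      fun i hi j hj e => ?_
    have e' := congrArg (fun v : leechLattice => co (v : GolayPt → ℤ)) e
    simp only [(sim_ev sims₁ _) Spor.leechU] at e'
    exact List.inj_on_of_nodup_map pts_nodup (List.mem_range.2 hi) (List.mem_range.2 hj) e'
  have h1 : S.relIndex K = (stabilizer Co0 Spor.leechU).relIndex K := by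
    rw [Subgroup.relIndex, Subgroup.relIndex]
    congr 1
    ext g
    exact ⟨fun h => h.2, fun h => ⟨hKH g.2, h⟩⟩
  have hn : sqNorm (U2 : GolayPt → ℤ) = 32 := by
    show sqNorm (stdC none) = 32
    decide +kernel
  have hcard : 898128000 * ((stabilizer Co0 Spor.leechU).relIndex K * K.relIndex H) = 898128000 * 47104 := by
    have e := Subgroup.relIndex_mul_relIndex _ _ _ (bot_le : ⊥ ≤ S) hSK
    have e' := Subgroup.relIndex_mul_relIndex _ _ _ (bot_le : ⊥ ≤ K) hKH
    simp only [Subgroup.relIndex_bot_left] at e e'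
    rw [← e, h1, show Nat.card S = 898128000 from card_pair, card_stabilizer_32 hn] at e'
    rw [← mul_assoc, e']
  have h2 := Nat.eq_of_mul_eq_mul_left (by norm_num) hcard
  refine Subgroup.relIndex_eq_one.1 ?_
  set d := K.relIndex H
  have h3 : 24 * d ≤ 47104 := h2 ▸ Nat.mul_le_mul_right _ hlow
  have h4 := divisor_check (d / 23) (by omega) (by
    rw [show 23 * (d / 23) + 1 = d by omega]; exact Dvd.intro_left _ h2)
  omega

theorem gen_top : Subgroup.closure ({tH, bH, yH} : Set H) = ⊤ :=
  closure_eq_top (by rw [Set.image_insert_eq, Set.image_insert_eq, Set.image_singleton]; exact le_closure)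

theorem no_sq : ¬ 23 ^ 2 ∣ Nat.card H :=
  fun h => not_sq_dvd_card (h.trans (Subgroup.card_subgroup_dvd_card _))

theorem order_t : orderOf tH = 23 := by rw [tH, Subgroup.orderOf_mk, orderOf_tAut]

theorem cent_t (g : H) (hg : g * tH = tH * g) : ∃ n : ℕ, g = tH ^ n := by
  have h : tAut * (g : Co0) * tAut⁻¹ = g := by
    rw [mul_inv_eq_iff_eq_mul]; exact (congrArg Subtype.val hg).symm
  obtain ⟨n, e | e⟩ := commute_tAut h
  · exact ⟨n, Subtype.ext e⟩
  · exfalso
    have hfix : (g : Co0) • U2 = U2 := g.2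
    rw [e, mul_smul, show tAut ^ n • U2 = U2 from H.pow_mem tmem n, negAut_smul] at hfix
    exact stdC_base.1 (congrFun (congrArg Subtype.val hfix) none)

theorem cent_b (g : H) (hg : (g : Co0) * bA = bA * g) : ∃ i : ℕ, g = bH ^ i := by
  obtain ⟨f, hf, hs⟩ := exists_cand hg
  have hc := List.all_eq_true.1 cand_check f hf
  simp only [Bool.or_eq_true, Bool.not_eq_true', beq_eq_false_iff_ne, List.any_eq_true] at hc
  rcases hc with h | ⟨i, -, h⟩
  · exact absurd (sim_of_smul hs g.2) h
  · exact ⟨i, Subtype.ext (eq_of_sim hs (simP_b i) h)⟩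

/-- Every automorphism is inner. -/
theorem card_out : Nat.card (Out H) = 1 := by
  haveI := fact23
  refine card_out_one gen_top fun φ => ?_
  have hbt : bH * tH * bH⁻¹ = tH ^ 2 := Subtype.ext conj_bt
  have hyb : yH * bH * yH⁻¹ = bH⁻¹ := Subtype.ext conj_yb
  have hb11 : bH ^ 11 = 1 := Subtype.ext bA_pow
  obtain ⟨g₀, k₀, hk₀, e₁, e₂⟩ :=
    normal_pair no_sq order_t (m := 2) (r := 1) hbt (by norm_num) cent_t φ
  -- the inverting element
  obtain ⟨i, hi⟩ := cent_b (yH⁻¹ * (g₀ * φ yH * g₀⁻¹)) (by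
    have h := congrArg (fun x => g₀ * φ x * g₀⁻¹) hyb
    simp only [map_mul, map_inv] at h
    rw [show g₀ * (φ bH)⁻¹ * g₀⁻¹ = (g₀ * φ bH * g₀⁻¹)⁻¹ by group, e₂,
      show g₀ * (φ yH * φ bH * (φ yH)⁻¹) * g₀⁻¹ = (g₀ * φ yH * g₀⁻¹) * (g₀ * φ bH * g₀⁻¹) *
        (g₀ * φ yH * g₀⁻¹)⁻¹ by group, e₂] at h
    set y' := g₀ * φ yH * g₀⁻¹
    have h' : (yH⁻¹ * y') * bH = bH * (yH⁻¹ * y') := by
      calc yH⁻¹ * y' * bH = yH⁻¹ * (y' * bH * y'⁻¹) * y' := by group
        _ = yH⁻¹ * bH⁻¹ * y' := by rw [h]
        _ = yH⁻¹ * (yH * bH * yH⁻¹) * y' := by rw [hyb]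
        _ = bH * (yH⁻¹ * y') := by group
    exact congrArg Subtype.val h')
  have hyi : g₀ * φ yH * g₀⁻¹ = yH * bH ^ i := by rw [← hi]; group
  set j := 6 * i with hj
  set g := bH ^ j * g₀ with hg
  set ψ := MulAut.conj g * φ with hψ
  have hψv : ∀ x, ψ x = g * φ x * g⁻¹ := fun x => rfl
  have eb : ψ bH = bH := by rw [hψv, hg, conj_trans, e₂]; group
  have et : ψ tH = tH ^ (2 ^ j * k₀ % 23) := by
    rw [hψv, hg, conj_trans, e₁, ← conj_pow, conj_pow_pow' hbt, ← pow_mul]
    exact pow_congr order_t (by simp [Nat.mul_mod])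
  have ey : ψ yH = yH := by
    rw [hψv, hg, conj_trans, hyi]
    have e : bH ^ j * yH = yH * (bH ^ j)⁻¹ := by
      have := conj_pow (i := j) (a := yH) (b := bH)
      rw [hyb, inv_pow] at this
      conv_lhs => rw [← inv_inv (bH ^ j), this]
      group
    calc bH ^ j * (yH * bH ^ i) * (bH ^ j)⁻¹ = (bH ^ j * yH) * bH ^ i * (bH ^ j)⁻¹ := by group
      _ = yH * ((bH ^ j)⁻¹ * bH ^ i * (bH ^ j)⁻¹) := by rw [e]; group
      _ = yH * (bH ^ i * (bH ^ (j + j))⁻¹) := by rw [pow_add]; group
      _ = yH := by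
        rw [show j + j = i + 11 * i by omega, pow_add, pow_mul, hb11, one_pow, mul_one, mul_inv_cancel,
          mul_one]
  refine ⟨g, ?_⟩
  simp only [← hψv]
  set k := 2 ^ j * k₀ % 23 with hk
  have hk1 : k = 1 := by
    have hkpos : k ≠ 0 := by
      intro e
      rw [e, pow_zero] at et
      have h0 : tH = 1 := ψ.injective (by rw [et, map_one])
      have := order_t
      rw [h0, orderOf_one] at this
      omega
    by_contra hne
    have hc := List.all_eq_true.1 rel_fails k (List.mem_range.2 (Nat.mod_lt _ (by norm_num)))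
    simp only [Bool.or_eq_true, decide_eq_true_iff, bne_iff_ne] at hc
    have key : ∀ W, sameAct (evF (funs 1) W) id = true → sameAct (evF (funs k) W) id = true := by
      intro W hW
      have h1 : evG [tH, bH, yH] W = 1 := Subtype.ext (by
        refine Eq.trans (map_ev H.subtype [tH, bH, yH] W) ?_
        exact eq_one_of_sim (sim_ev sims₁ _) hW)
      have h2 := congrArg ψ h1
      rw [map_ev, map_one] at h2
      simp only [List.map_cons, List.map_nil, et, eb, ey] at h2
      have h3 := congrArg H.subtype h2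
      rw [map_ev, map_one] at h3
      exact sameAct_of_eq (sim_ev (sims k) W) sim_one h3
    have h5 : ∀ W, sameAct (evF (funs k) W) id = true → evF (funs k) W (unit8 5) = unit8 5 := fun W hW => by
      simpa using List.all_eq_true.1 hW 5 (List.mem_range.2 (by norm_num))
    rcases hc with (hc | hc) | hc
    · omega
    · exact hc (h5 _ (key _ rel_holdsB))
    · exact hc (h5 _ (key _ rel_holdsA))
  rintro x (rfl | rfl | rfl)
  exacts [et.trans (by rw [hk1, pow_one]), eb, ey]

end CfsgLib.OutConway.Two
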