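import Cfsg.Agent.OutConway.Stab
import Cfsg.Agent.OutConway.Powers
import Cfsg.Agent.OutConway.CentB
import Cfsg.Agent.OutConway.Out

/-!
# Automorphisms of the stabiliser of a vector of squared length 48
-/

set_option autoImplicit false

namespace CfsgLib.OutConway.Three

open Cfsg CfsgLib CfsgLib.Golay CfsgLib.Leech MulAction
open Cfsg.Agent.McLSimple (mclStab tripleStab)
open CfsgLib.Golay.Cert (genOK ofList toList_ofList q5)

attribute [local irreducible] shortVecs halfTable quarterTable codeFinset

/-- The group. -/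
abbrev H : Subgroup Co0 := stabilizer Co0 Spor.leechV

/-- The coordinates of the fixed vector. -/
def vL : List ℤ := co Spor.vecV

/-- The generators as functions. -/
def funs (k : ℕ) : List (ℕ → List ℤ → List ℤ) :=
  [fun n => permI (rotI (k * n)), fun n => permI (mulI n), fun n => (matA zMat)^[n]]

/-- The relation. -/
def relW : List (ℕ × ℕ) := rep 6 [(2, 1), (0, 1), (2, 1), (0, 5), (1, 5)]

theorem fix_checks : permA tL vL = vL ∧ permA bL vL = vL ∧ matA zMat vL = vL := by decide +kernel

theorem rel_holds : sameAct (evF (funs 1) relW) id = true := by decide +kernel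

theorem rel_fails : sameAct (evF (funs 22) relW) id = false := by decide +kernel

theorem word_sig : sameAct (evF (funs 1) [(2, 1), (0, 22), (2, 1), (0, 16), (2, 1), (0, 4), (2, 1), (0, 10),
    (2, 1), (0, 1), (2, 1)]) (permA sigA) = true := by decide +kernel

theorem mover : evF (funs 1) [(2, 1), (0, 4), (2, 1), (0, 2), (2, 1), (0, 1)] (co Spor.vecU) = co Spor.vecU ∧
    evF (funs 1) [(2, 1), (0, 4), (2, 1), (0, 2), (2, 1), (0, 1)] (co Spor.vecU') ≠ co Spor.vecU' := by
  decide +kernel

/-- Twenty-four images of the second vector. -/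
def ptsF (i : ℕ) : List (ℕ × ℕ) := if i < 23 then [(0, i)] else [(2, 1)]

theorem pts_nodup : ((List.range 24).map fun i => evF (funs 1) (ptsF i) (co Spor.vecU)).Nodup := by
  decide +kernel

theorem cand_check : (candB.all fun f => !(f vL == vL) || !(sameAct (fun x => f (f x)) id) ||
    sameAct f id || sameAct f (matA zMat)) = true := by decide +kernel

theorem z_invol : sameAct (fun x => matA zMat (matA zMat x)) id = true ∧
    sameAct (matA zMat) id = false ∧
    sameAct (fun x => matA zMat (permA bL x)) (fun x => permA bL (matA zMat x)) = true ∧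
    sameAct (fun x => permA bL (permA tL x)) (fun x => permA tL (permA tL (permA bL x))) = true := by
  decide +kernel

theorem mult_reps : ∀ k < 23, k ≠ 0 → ∃ j < 11, (2 ^ j * k) % 23 ∈ [1, 22] := by decide +kernel

theorem tmem : tAut ∈ H := smul_of_sim sim_t fix_checks.1
theorem bmem : bA ∈ H := smul_of_sim sim_b fix_checks.2.1
theorem zmem : zA ∈ H := smul_of_sim sim_z fix_checks.2.2

/-- The translation. -/
def tH : H := ⟨tAut, tmem⟩
/-- The multiplier. -/
noncomputable def bH : H := ⟨bA, bmem⟩
/-- The involution. -/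
def zH : H := ⟨zA, zmem⟩

theorem sims (k : ℕ) : List.Forall₂ SimP [tAut ^ k, bA, zA] (funs k) :=
  .cons (simP_t k) (.cons simP_b (.cons (simP_pow sim_z) .nil))

theorem sims₁ : List.Forall₂ SimP [tAut, bA, zA] (funs 1) := by
  simpa only [pow_one] using sims 1

theorem conj_bt : bA * tAut * bA⁻¹ = tAut ^ 2 := by
  rw [mul_inv_eq_iff_eq_mul]
  exact eq_of_sim (sim_b.mul sim_t) ((sim_t.pow 2).mul sim_b) z_invol.2.2.2

/-- Generation. -/
theorem le_closure : H ≤ Subgroup.closure {tAut, bA, zA} := by
  set K := Subgroup.closure ({tAut, bA, zA} : Set Co0) with hK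
  have hgens : ∀ g ∈ [tAut, bA, zA], g ∈ K := fun g hg => Subgroup.subset_closure (by simpa using hg)
  have hKH : K ≤ H := (Subgroup.closure_le _).2 (by
    rintro g (rfl | rfl | rfl)
    exacts [tmem, bmem, zmem])
  have hsig : permHom (ofList sigA) ∈ K := by
    rw [← eq_of_sim (sim_ev sims₁ _) (sim_ofList gens_ok.2.2.2.1) word_sig]
    exact ev_mem hgens _
  have hperm : ∀ σ : M24, (σ : Equiv.Perm GolayPt) none = none → permHom σ ∈ K := fun σ hσ => by
    refine perm_mem progA_ok (by norm_num) ?_ σ fun p hp => ?_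
    · intro L hL
      simp only [List.mem_cons, List.not_mem_nil, or_false] at hL
      rcases hL with rfl | rfl | rfl
      exacts [⟨trans23, hgens _ (by simp [tAut]), toList_trans⟩,
        ⟨bP, hgens _ (by simp [bA]), toList_bP⟩, ⟨_, hsig, toList_ofList gens_ok.2.2.2.1⟩]
    · simp only [q5, List.take_succ_cons, List.take_zero, List.mem_singleton] at hp
      rwa [show p = none from idx_injective hp]
  have hmcl : mclStab ≤ K := by
    have htriple : tripleStab ≤ K := fun g hg => by
      obtain ⟨σ, h0, -, rfl⟩ := Cfsg.Agent.McLSimple.exists_perm_of_fix hg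
      exact hperm σ h0
    have hfull := mcl_full (L := K ⊓ mclStab) (le_inf htriple inf_le_left) inf_le_right
      ⟨_, ⟨ev_mem hgens [(2, 1), (0, 4), (2, 1), (0, 2), (2, 1), (0, 1)], hKH (ev_mem hgens _),
        smul_of_sim (sim_ev sims₁ _) mover.1⟩,
        fun e => mover.2 (sim_of_smul (sim_ev sims₁ _) e)⟩
    exact fun g hg => (hfull.ge hg).1
  have hmod : K.relIndex H % 23 = 1 := relIndex_mod hKH (hgens _ (by simp)) fun g hgH hgm => by
    obtain ⟨σ, hσ, rfl⟩ := mono_fix ⟨vecV_base.2.2.1, vecV_base.2.2.2.1, vecV_base.2.2.2.2⟩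
      vecV_base.2.1 hgm hgH
    exact hperm σ hσ
  have hlow : 24 ≤ (stabilizer Co0 Spor.leechU).relIndex K := by
    refine card_lower _ 24 (fun i => evG [tAut, bA, zA] (ptsF i)) (fun i _ => ev_mem hgens _)
      fun i hi j hj e => ?_
    have e' := congrArg (fun v : leechLattice => co (v : GolayPt → ℤ)) e
    simp only [(sim_ev sims₁ _) Spor.leechU] at e'
    exact List.inj_on_of_nodup_map pts_nodup (List.mem_range.2 hi) (List.mem_range.2 hj) e'
  have hcard : (stabilizer Co0 Spor.leechU).relIndex K * 898128000 * K.relIndex H = 495766656000 := by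
    have h1 : mclStab.relIndex K = (stabilizer Co0 Spor.leechU).relIndex K := by
      rw [Subgroup.relIndex, Subgroup.relIndex]
      congr 1
      ext g
      exact ⟨fun h => h.2, fun h => ⟨hKH g.2, h⟩⟩
    have hn : sqNorm (Spor.leechV : GolayPt → ℤ) = 48 := Cfsg.Agent.McLSimple.sq_vecV
    rw [← card_stabilizer_48 hn, ← h1, ← Cfsg.Agent.McLSimple.card_mclStab,
      ← Subgroup.relIndex_bot_left, ← Subgroup.relIndex_bot_left, mul_comm (mclStab.relIndex K),
      Subgroup.relIndex_mul_relIndex _ _ _ bot_le hmcl,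
      Subgroup.relIndex_mul_relIndex _ _ _ bot_le hKH]
  refine Subgroup.relIndex_eq_one.1 ?_
  have h552 : (stabilizer Co0 Spor.leechU).relIndex K * K.relIndex H = 552 := by
    rw [mul_right_comm] at hcard; omega
  have : 24 * K.relIndex H ≤ 552 := h552 ▸ Nat.mul_le_mul_right _ hlow
  omega

theorem gen_top : Subgroup.closure ({tH, bH, zH} : Set H) = ⊤ :=
  closure_eq_top (by rw [Set.image_insert_eq, Set.image_insert_eq, Set.image_singleton]; exact le_closure)

theorem no_sq : ¬ 23 ^ 2 ∣ Nat.card H :=
  fun h => not_sq_dvd_card (h.trans (Subgroup.card_subgroup_dvd_card _))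

theorem order_t : orderOf tH = 23 := by rw [tH, Subgroup.orderOf_mk, orderOf_tAut]

theorem cent_t (g : H) (hg : g * tH = tH * g) : ∃ n : ℕ, g = tH ^ n := by
  have h : tAut * (g : Co0) * tAut⁻¹ = g := by
    rw [mul_inv_eq_iff_eq_mul]; exact (congrArg Subtype.val hg).symm
  obtain ⟨n, e | e⟩ := commute_tAut h
  · exact ⟨n, Subtype.ext e⟩
  · exfalso
    have hfix : (g : Co0) • Spor.leechV = Spor.leechV := g.2
    rw [e, mul_smul, show tAut ^ n • Spor.leechV = Spor.leechV from H.pow_mem tmem n,
      negAut_smul] at hfix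
    exact vecV_base.1 (congrFun (congrArg Subtype.val hfix) none)

/-- Every automorphism is inner. -/
theorem card_out : Nat.card (Out H) = 1 := by
  haveI := fact23
  refine card_out_one gen_top fun φ => ?_
  have hbt : bH * tH * bH⁻¹ = tH ^ 2 := Subtype.ext conj_bt
  obtain ⟨g₀, k₀, hk₀, e₁, e₂⟩ :=
    normal_pair no_sq order_t (m := 2) (r := 1) hbt (by norm_num) cent_t φ
  obtain ⟨g, k, hk, et, eb⟩ := shift_exp (p := 23) order_t hbt [1, 22] (fun k h1 h2 => by
    obtain ⟨j, -, h⟩ := mult_reps k h1 h2; exact ⟨j, h⟩) hk₀ e₁ e₂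
  set ψ := MulAut.conj g * φ with hψ
  have hψv : ∀ x, ψ x = g * φ x * g⁻¹ := fun x => rfl
  rw [← hψv] at et eb
  refine ⟨g, ?_⟩
  simp only [← hψv]
  -- the involution
  set x := ψ zH with hx
  have hxb : (x : Co0) * bA = bA * x := by
    have e : zH * bH = bH * zH := Subtype.ext (eq_of_sim (sim_z.mul sim_b) (sim_b.mul sim_z) z_invol.2.2.1)
    have := congrArg ψ e
    rw [map_mul, map_mul, eb] at this
    exact congrArg Subtype.val this
  obtain ⟨f, hf, hs⟩ := exists_cand hxb
  have hzz : zH * zH = 1 := Subtype.ext (eq_one_of_sim (sim_z.mul sim_z) z_invol.1)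
  have hxx : (x : Co0) * x = 1 := by
    have := congrArg ψ hzz
    rw [map_mul, map_one] at this
    exact congrArg Subtype.val this
  have hne : (x : Co0) ≠ 1 := fun e => by
    have h1 : zH = 1 := ψ.injective (by rw [map_one]; exact Subtype.ext e)
    have := sameAct_of_eq sim_z sim_one (congrArg Subtype.val h1)
    rw [z_invol.2.1] at this
    exact Bool.false_ne_true this
  have hc := List.all_eq_true.1 cand_check f hf
  simp only [Bool.or_eq_true, Bool.not_eq_true', beq_eq_false_iff_ne] at hc
  have hxz : x = zH := by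
    rcases hc with ((h | h) | h) | h
    · exact absurd (sim_of_smul hs x.2) h
    · rw [sameAct_of_eq (hs.mul hs) sim_one hxx] at h; exact Bool.noConfusion h
    · exact absurd (eq_one_of_sim hs h) hne
    · exact Subtype.ext (eq_of_sim hs sim_z h)
  -- the exponent
  have hk1 : k = 1 := by
    simp only [List.mem_cons, List.not_mem_nil, or_false] at hk
    refine hk.resolve_right fun h22 => ?_
    subst h22
    have h1 : evG [tH, bH, zH] relW = 1 := Subtype.ext (by
      refine Eq.trans (map_ev H.subtype [tH, bH, zH] relW) ?_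
      exact eq_one_of_sim (sim_ev sims₁ _) rel_holds)
    have h2 := congrArg ψ h1
    rw [map_ev, map_one] at h2
    simp only [List.map_cons, List.map_nil, et, eb, ← hx, hxz] at h2
    have h3 := congrArg H.subtype h2
    rw [map_ev, map_one] at h3
    have h4 := sameAct_of_eq (sim_ev (sims 22) relW) sim_one h3
    rw [rel_fails] at h4
    exact Bool.false_ne_true h4
  subst hk1
  rintro y (rfl | rfl | rfl)
  exacts [et.trans (pow_one _), eb, hxz]

end CfsgLib.OutConway.Three
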