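import Cfsg.Agent.OutConway.Gen
import Cfsg.Agent.OutConway.TransData
import Cfsg.Agent.Leech.Classes

/-!
# Fixed coordinate frames
-/

set_option autoImplicit false

namespace CfsgLib.OutConway

open Cfsg CfsgLib CfsgLib.Golay CfsgLib.Leech
open CfsgLib.Golay.Cert (genOK ofList toList_ofList q5 fiveList fixList_five toList_coe_injective)

/-- Half the difference of two lists is in the lattice. -/
def halfOK (x y : List ℤ) : Bool :=
  (List.zipWith (fun a b => a - b) x y).all (fun a => a % 2 == 0) &&
    memL ((List.zipWith (fun a b => a - b) x y).map fun a => a / 2)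

theorem halfOK_of_cls {x y : GolayPt → ℤ} (h : cls x = cls y) : halfOK (co x) (co y) = true := by
  obtain ⟨z, hz, he⟩ := (cls_eq_iff x y).1 h
  have e : List.zipWith (fun a b => a - b) (co x) (co y) = (co z).map fun a => 2 * a := by
    rw [co, co, co, List.zipWith_map, List.zipWith_self, List.map_map]
    refine List.map_congr_left fun i _ => ?_
    have := congrFun he (pt i)
    simpa [two_mul, Pi.add_apply, two_nsmul] using this
  simp only [halfOK, e, Bool.and_eq_true, List.all_eq_true, List.mem_map, beq_iff_eq, List.map_map]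
  refine ⟨?_, ?_⟩
  · rintro a ⟨b, -, rfl⟩; omega
  · rw [show ((fun a : ℤ => a / 2) ∘ fun a => 2 * a) = id from funext fun a => by simp, List.map_id]
    exact memL_iff.2 hz

theorem cls_eq_of_halfOK {x y : GolayPt → ℤ} (h : halfOK (co x) (co y) = true) : cls x = cls y := by
  simp only [halfOK, Bool.and_eq_true, List.all_eq_true, beq_iff_eq] at h
  have e : List.zipWith (fun a b => a - b) (co x) (co y) = co (x - y) := by
    rw [co, co, co, List.zipWith_map, List.zipWith_self]
    rfl
  rw [e] at h
  have e2 : (co (x - y)).map (fun a => a / 2) = co fun p => (x - y) p / 2 := by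
    rw [co, co, List.map_map]; rfl
  rw [e2] at h
  refine (cls_eq_iff x y).2 ⟨_, memL_iff.1 h.2, funext fun p => ?_⟩
  have := h.1 ((x - y) p) (List.mem_map.2 ⟨idx p, List.mem_range.2 (idx_lt p), by rw [pt_idx]⟩)
  simp only [Pi.smul_apply, two_nsmul]
  omega

/-- Inner product of lists. -/
def dotL (x y : List ℤ) : ℤ := (List.zipWith (· * ·) x y).sum

theorem dotL_co (x y : GolayPt → ℤ) : dotL (co x) (co y) = dotInt x y := by
  rw [dotL, dotInt, ← sum_co fun p => x p * y p, co, co, co, List.zipWith_map, List.zipWith_self]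

theorem norm_co (x : GolayPt → ℤ) : dotL (co x) (co x) = sqNorm x := by
  rw [dotL_co, dotInt, sqNorm]; exact Finset.sum_congr rfl fun p _ => (sq (x p)).symm

theorem co_mem (v : leechLattice) : memL (co (v : GolayPt → ℤ)) = true := memL_iff.2 v.2

theorem image_facts (g : Co0) (p q : GolayPt) :
    let x := co ((g • eightAt p : leechLattice) : GolayPt → ℤ)
    let y := co ((g • eightAt q : leechLattice) : GolayPt → ℤ)
    memL x = true ∧ dotL x x = 64 ∧ dotL x y = (if p = q then 64 else 0) ∧
      (halfOK (unit8 (idx p)) (unit8 (idx q)) = true → halfOK x y = true) := by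
  refine ⟨co_mem _, by rw [norm_co, sqNorm_smul, sqNorm_eightAt], ?_, fun h => ?_⟩
  · rw [dotL_co, dot_smul', dotInt]
    simp only [eightAt_apply, mul_ite, mul_zero, Finset.sum_ite_eq', Finset.mem_univ, if_true]
    by_cases h : p = q
    · subst h; simp
    · rw [if_neg h, if_neg (Ne.symm h)]; simp
  · rw [← co_eightAt, ← co_eightAt] at h
    obtain ⟨z, hz, he⟩ := (cls_eq_iff _ _).1 (cls_eq_of_halfOK h)
    refine halfOK_of_cls ((cls_eq_iff _ _).2 ⟨_, (g • (⟨z, hz⟩ : leechLattice)).2, ?_⟩)
    have e : eightAt p - eightAt q = (⟨z, hz⟩ : leechLattice) + ⟨z, hz⟩ :=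
      Subtype.ext (funext fun r => by
        have := congrFun he r
        simp at this ⊢
        omega)
    have h2 := congrArg (fun v : leechLattice => ((g • v : leechLattice) : GolayPt → ℤ)) e
    simp only [smul_sub', smul_add'] at h2
    funext r
    have := congrFun h2 r
    simp at this ⊢
    omega

/-- Vectors constant on the classes of a table, from their values. -/
def expand (rep : List ℕ) (v : List ℤ) : List ℤ := rep.map fun k => v.getD k 0

theorem fixed_of_comm {g : Co0} {σ : M24} {L : List ℕ} (hL : toList (σ : Equiv.Perm GolayPt) = L)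
    (hc : g * permHom σ = permHom σ * g) {p : GolayPt} (hp : (σ : Equiv.Perm GolayPt) p = p) :
    ∀ i < 24, (co ((g • eightAt p : leechLattice) : GolayPt → ℤ)).getD (L.getD i 0) 0 =
      (co ((g • eightAt p : leechLattice) : GolayPt → ℤ)).getD i 0 := by
  intro i hi
  have hfix : permHom σ • (g • eightAt p) = g • eightAt p := by
    rw [← mul_smul, ← hc, mul_smul, permHom_eightAt, hp]
  have h := congrFun (congrArg Subtype.val hfix) ((σ : Equiv.Perm GolayPt) (pt i))
  rw [permHom_apply, Equiv.Perm.inv_def, Equiv.symm_apply_apply] at h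
  rw [← hL, toList_getD _ hi, getD_co]
  conv_rhs => rw [← idx_pt i hi, getD_co]
  exact h.symm

/-- The integers of absolute value at most `n`. -/
def ints (n : ℕ) : List ℤ := (List.range (2 * n + 1)).map fun i : ℕ => Int.ofNat i - n

theorem mem_ints {a : ℤ} {n : ℕ} (h1 : -(n : ℤ) ≤ a) (h2 : a ≤ n) : a ∈ ints n := by
  simp only [ints, List.mem_map, List.mem_range, Int.ofNat_eq_natCast]
  exact ⟨(a + n).toNat, by omega, by omega⟩

theorem bound_of_norm {l : List ℤ} (hl : dotL l l = 64) : ∀ a ∈ l, -8 ≤ a ∧ a ≤ 8 := by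
  intro a ha
  have key : ∀ m : List ℤ, 0 ≤ dotL m m ∧ (a ∈ m → a * a ≤ dotL m m) := by
    intro m
    induction m with
    | nil => simp [dotL]
    | cons b m ih =>
      have e : dotL (b :: m) (b :: m) = b * b + dotL m m := by simp [dotL]
      rw [e]
      refine ⟨add_nonneg (mul_self_nonneg b) ih.1, fun h => ?_⟩
      rcases List.mem_cons.1 h with rfl | h
      · linarith [ih.1]
      · linarith [ih.2 h, mul_self_nonneg b]
  have := (key l).2 ha
  rw [hl] at this
  constructor <;> nlinarith

end CfsgLib.OutConway
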