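import Cfsg.Agent.OutConway.Elements
import Cfsg.Agent.Golay.NormalForm

/-!
# Generation of point stabilisers by straight line programs
-/

set_option autoImplicit false

namespace CfsgLib.OutConway

open Cfsg CfsgLib CfsgLib.Golay
open CfsgLib.Golay.Cert (q5 fiveList fixList_five toList_coe_injective)

/-- Run a straight line program on position lists. -/
def build : List (ℕ × ℕ) → List (List ℕ) → List (List ℕ)
  | [], acc => acc
  | (a, b) :: r, acc =>
    if a < acc.length ∧ b < acc.length then build r (acc ++ [compL (acc.getD a []) (acc.getD b [])]) else acc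

theorem build_mem {H : Subgroup M24} : ∀ (ps : List (ℕ × ℕ)) (acc : List (List ℕ)),
    (∀ L ∈ acc, ∃ g ∈ H, toList (g : Equiv.Perm GolayPt) = L) →
    ∀ L ∈ build ps acc, ∃ g ∈ H, toList (g : Equiv.Perm GolayPt) = L
  | [], _, h => h
  | (a, b) :: r, acc, h => by
    rw [build]
    split_ifs with hab
    · refine build_mem r _ fun L hL => ?_
      rcases List.mem_append.1 hL with hL | hL
      · exact h L hL
      · rw [List.mem_singleton] at hL
        have ha : acc.getD a [] ∈ acc := by rw [List.getD_eq_getElem _ _ hab.1]; exact List.getElem_mem _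
        have hb : acc.getD b [] ∈ acc := by rw [List.getD_eq_getElem _ _ hab.2]; exact List.getElem_mem _
        obtain ⟨x, hx, ex⟩ := h _ ha
        obtain ⟨y, hy, ey⟩ := h _ hb
        exact ⟨x * y, mul_mem hx hy, by rw [hL, Subgroup.coe_mul, toList_mul, ex, ey]⟩
    · exact h

/-- A set of lists realises all transversals below the given level and the last stabiliser. -/
def chainOK (start : ℕ) (B : List (List ℕ)) : Bool :=
  fiveList.all (fun f => B.contains f) &&
    (List.range 5).all fun j => decide (j < start) || (List.range 24).all fun q =>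
      (q5.take j).contains q ||
        B.any fun L => (q5.take j).all (fun i => L.getD i 0 == i) && L.getD (q5.getD j 0) 0 == q

theorem mem_of_chain {H : Subgroup M24} {start : ℕ} {B : List (List ℕ)}
    (hB : ∀ L ∈ B, ∃ g ∈ H, toList (g : Equiv.Perm GolayPt) = L) (hok : chainOK start B = true)
    (hs5 : start ≤ 5) (σ : M24) (hσ : ∀ i ∈ q5.take start, (toList (σ : Equiv.Perm GolayPt)).getD i 0 = i) : σ ∈ H := by
  simp only [chainOK, Bool.and_eq_true, List.all_eq_true, List.contains_iff_mem, List.mem_range,
    Bool.or_eq_true, decide_eq_true_eq, List.any_eq_true, beq_iff_eq] at hok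
  obtain ⟨hfive, hlev⟩ := hok
  suffices ∀ d j, j + d = 5 → start ≤ j → ∀ τ : M24,
      (∀ i ∈ q5.take j, (toList (τ : Equiv.Perm GolayPt)).getD i 0 = i) → τ ∈ H by
    exact this (5 - start) start (by omega) le_rfl σ hσ
  intro d
  induction d with
  | zero =>
    intro j hj hs τ hτ
    obtain rfl : j = 5 := by omega
    obtain ⟨g, hg, e⟩ := hB _ (hfive _ (fixList_five τ (by simpa [q5] using hτ)))
    rwa [← toList_coe_injective e]
  | succ d ih =>
    intro j hj hs τ hτ
    have hj5 : j < 5 := by omega
    set p := q5.getD j 0 with hp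
    have hp24 : p < 24 := by interval_cases j <;> simp [hp, q5]
    set q := (toList (τ : Equiv.Perm GolayPt)).getD p 0 with hq
    have hq24 : q < 24 := by rw [hq, toList_getD _ hp24]; exact idx_lt _
    have hnot : ¬ q ∈ q5.take j := by
      intro hmem
      have e := hτ q hmem
      have h1 : (τ : Equiv.Perm GolayPt) (pt q) = pt q :=
        idx_injective (by rw [← toList_getD _ hq24, e, idx_pt _ hq24])
      have h2 : (τ : Equiv.Perm GolayPt) (pt p) = pt q :=
        idx_injective (by rw [← toList_getD _ hp24, ← hq, idx_pt _ hq24])
      have h3 : pt p = pt q := (τ : Equiv.Perm GolayPt).injective (h2.trans h1.symm)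
      have h4 : p = q := by rw [← idx_pt p hp24, h3, idx_pt q hq24]
      rw [← h4] at hmem
      interval_cases j <;> simp [hp, q5] at hmem
    obtain ⟨L, hLB, hfix, hLq⟩ : ∃ L ∈ B, (∀ i ∈ q5.take j, L.getD i 0 = i) ∧ L.getD p 0 = q := by
      rcases hlev j hj5 with h | h
      · omega
      · rcases h q hq24 with h' | ⟨L, hL, h1, h2⟩
        · exact absurd h' hnot
        · exact ⟨L, hL, h1, h2⟩
    obtain ⟨g, hg, hgL⟩ := hB L hLB
    have key : g⁻¹ * τ ∈ H := by
      refine ih (j + 1) (by omega) (by omega) _ fun i hi => ?_
      have hsplit : i ∈ q5.take j ∨ i = p := by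
        rw [List.take_succ_eq_append_getElem (by simp [q5]; omega)] at hi
        rcases List.mem_append.1 hi with h | h
        · exact Or.inl h
        · exact Or.inr (by rw [List.mem_singleton.1 h, hp, List.getD_eq_getElem _ _ (by simp [q5]; omega)])
      have hi24 : i < 24 := by
        rcases hsplit with h | h
        · have h' := List.mem_of_mem_take h
          simp [q5] at h'; omega
        · omega
      have hgi : (g : Equiv.Perm GolayPt) (pt i) = (τ : Equiv.Perm GolayPt) (pt i) := by
        refine idx_injective ?_
        rw [← toList_getD _ hi24, ← toList_getD _ hi24, hgL]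
        rcases hsplit with h | rfl
        · rw [hfix i h, hτ i h]
        · exact hLq
      rw [toList_getD _ hi24, Subgroup.coe_mul, Subgroup.coe_inv, Equiv.Perm.mul_apply, ← hgi,
        Equiv.Perm.inv_def, Equiv.symm_apply_apply, idx_pt _ hi24]
    simpa using mul_mem hg key

theorem progA_ok : chainOK 1 (build progA [tL, bL, sigA]) = true := by decide +kernel
theorem progB_ok : chainOK 1 (build progB [tL, bL, sigB]) = true := by decide +kernel
theorem progH_ok : chainOK 2 (build progH [bL, cL, sigH]) = true := by decide +kernel
theorem progM_ok : chainOK 2 (build progM [bL, cL, sigM]) = true := by decide +kernel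

end CfsgLib.OutConway
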