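import Mathlib.Data.List.Range

/-!
# Powers of the elements commuting with the twist, and words for a hundred images
-/

set_option autoImplicit false

namespace CfsgLib.OutConway

/-- The power 2 of the element of order 5 fixing the second pair. -/
def hMat2 : List (List ℤ) := [
  [5, 1, 1, -3, 1, 1, 1, 1, 1, 1, 1, 1, 1, 1, 1, 1, 1, 1, 1, 1, 1, 1, 1, -3],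
  [1, 1, 1, 1, 1, 1, 1, 1, 1, 1, 1, 1, 1, -3, -3, 1, -3, 1, 1, -3, 1, -3, 1, 1],
  [1, 1, 1, 1, 1, 1, 1, -3, -3, 1, 1, 1, -3, 1, 1, 1, 1, -3, 1, -3, 1, 1, 1, 1],
  [1, 1, 1, 1, 1, -3, 1, -3, 1, 1, -3, 1, 1, 1, 1, 1, 1, 1, 1, 1, -3, -3, 1, 1],
  [1, 1, 1, 1, 1, 1, 1, 1, 1, -3, -3, -3, -3, 1, -3, 1, 1, 1, 1, 1, 1, 1, 1, 1],
  [1, -3, -3, 1, 1, -3, 1, 1, 1, 1, 1, 1, 1, 1, -3, 1, 1, -3, 1, 1, 1, 1, 1, 1],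
  [1, 1, 1, 1, 1, -3, 1, 1, -3, 1, 1, -3, 1, 1, 1, 1, -3, 1, 1, 1, 1, 1, -3, 1],
  [1, 1, 1, 1, -3, 1, -3, -3, 1, 1, 1, 1, 1, 1, -3, 1, 1, 1, 1, 1, 1, 1, -3, 1],
  [1, 1, 1, 1, 1, 1, 1, 1, -3, 1, 1, 1, 1, 1, -3, -3, 1, 1, -3, 1, -3, 1, 1, 1],
  [1, 1, 1, 1, 1, -3, -3, 1, 1, -3, 1, 1, 1, 1, 1, -3, 1, 1, 1, -3, 1, 1, 1, 1],
  [1, 1, -3, 1, 1, 1, 1, 1, 1, 1, -3, 1, 1, 1, 1, 1, 1, 1, -3, -3, 1, 1, -3, 1],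
  [1, -3, 1, 1, 1, 1, 1, -3, 1, -3, 1, 1, 1, 1, 1, 1, -3, 1, -3, 1, 1, 1, 1, 1],
  [1, -3, 1, 1, 1, 1, 1, 1, 1, 1, 1, 1, -3, 1, 1, -3, 1, 1, 1, 1, 1, -3, -3, 1],
  [1, 1, -3, 1, 1, 1, 1, -3, 1, 1, 1, -3, 1, -3, 1, -3, 1, 1, 1, 1, 1, 1, 1, 1],
  [1, 1, -3, 1, 1, 1, -3, 1, 1, 1, 1, 1, -3, 1, 1, 1, -3, 1, 1, 1, -3, 1, 1, 1],
  [-3, 1, 1, 5, 1, 1, 1, 1, 1, 1, 1, 1, 1, 1, 1, 1, 1, 1, 1, 1, 1, 1, 1, -3],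
  [1, 1, 1, 1, -3, 1, 1, 1, 1, 1, -3, 1, 1, 1, 1, -3, -3, -3, 1, 1, 1, 1, 1, 1],
  [1, -3, 1, 1, 1, 1, -3, 1, -3, 1, -3, 1, 1, -3, 1, 1, 1, 1, 1, 1, 1, 1, 1, 1],
  [1, 1, 1, 1, 1, 1, 1, 1, 1, -3, 1, 1, 1, -3, 1, 1, 1, -3, 1, 1, -3, 1, -3, 1],
  [1, 1, 1, 1, -3, -3, 1, 1, 1, 1, 1, 1, -3, -3, 1, 1, 1, 1, -3, 1, 1, 1, 1, 1],
  [1, -3, 1, 1, -3, 1, 1, 1, 1, 1, 1, -3, 1, 1, 1, 1, 1, 1, 1, -3, -3, 1, 1, 1],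
  [1, 1, 1, 1, 1, 1, -3, 1, 1, 1, 1, -3, 1, 1, 1, 1, 1, -3, -3, 1, 1, -3, 1, 1],
  [1, 1, -3, 1, -3, 1, 1, 1, -3, -3, 1, 1, 1, 1, 1, 1, 1, 1, 1, 1, 1, -3, 1, 1],
  [-3, 1, 1, -3, 1, 1, 1, 1, 1, 1, 1, 1, 1, 1, 1, 1, 1, 1, 1, 1, 1, 1, 1, 5]]

/-- The power 3 of the element of order 5 fixing the second pair. -/
def hMat3 : List (List ℤ) := [
  [5, 1, 1, 1, 1, 1, 1, 1, 1, 1, 1, 1, 1, 1, 1, -3, 1, 1, 1, 1, 1, 1, 1, -3],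
  [1, 1, 1, 1, 1, -3, 1, 1, 1, 1, 1, -3, -3, 1, 1, 1, 1, -3, 1, 1, -3, 1, 1, 1],
  [1, 1, 1, 1, 1, -3, 1, 1, 1, 1, -3, 1, 1, -3, -3, 1, 1, 1, 1, 1, 1, 1, -3, 1],
  [-3, 1, 1, 1, 1, 1, 1, 1, 1, 1, 1, 1, 1, 1, 1, 5, 1, 1, 1, 1, 1, 1, 1, -3],
  [1, 1, 1, 1, 1, 1, 1, -3, 1, 1, 1, 1, 1, 1, 1, 1, -3, 1, 1, -3, -3, 1, -3, 1],
  [1, 1, 1, -3, 1, -3, -3, 1, 1, -3, 1, 1, 1, 1, 1, 1, 1, 1, 1, -3, 1, 1, 1, 1],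
  [1, 1, 1, 1, 1, 1, 1, -3, 1, -3, 1, 1, 1, 1, -3, 1, 1, -3, 1, 1, 1, -3, 1, 1],
  [1, 1, -3, -3, 1, 1, 1, -3, 1, 1, 1, -3, 1, -3, 1, 1, 1, 1, 1, 1, 1, 1, 1, 1],
  [1, 1, -3, 1, 1, 1, -3, 1, -3, 1, 1, 1, 1, 1, 1, 1, 1, -3, 1, 1, 1, 1, -3, 1],
  [1, 1, 1, 1, -3, 1, 1, 1, 1, -3, 1, -3, 1, 1, 1, 1, 1, 1, -3, 1, 1, 1, -3, 1],
  [1, 1, 1, -3, -3, 1, 1, 1, 1, 1, -3, 1, 1, 1, 1, 1, -3, -3, 1, 1, 1, 1, 1, 1],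
  [1, 1, 1, 1, -3, 1, -3, 1, 1, 1, 1, 1, 1, -3, 1, 1, 1, 1, 1, 1, -3, -3, 1, 1],
  [1, 1, -3, 1, -3, 1, 1, 1, 1, 1, 1, 1, -3, 1, -3, 1, 1, 1, 1, -3, 1, 1, 1, 1],
  [1, -3, 1, 1, 1, 1, 1, 1, 1, 1, 1, 1, 1, -3, 1, 1, 1, -3, -3, -3, 1, 1, 1, 1],
  [1, -3, 1, 1, -3, -3, 1, -3, -3, 1, 1, 1, 1, 1, 1, 1, 1, 1, 1, 1, 1, 1, 1, 1],
  [1, 1, 1, 1, 1, 1, 1, 1, -3, -3, 1, 1, -3, -3, 1, 1, -3, 1, 1, 1, 1, 1, 1, 1],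
  [1, -3, 1, 1, 1, 1, -3, 1, 1, 1, 1, -3, 1, 1, -3, 1, -3, 1, 1, 1, 1, 1, 1, 1],
  [1, 1, -3, 1, 1, -3, 1, 1, 1, 1, 1, 1, 1, 1, 1, 1, -3, 1, -3, 1, 1, -3, 1, 1],
  [1, 1, 1, 1, 1, 1, 1, 1, -3, 1, -3, -3, 1, 1, 1, 1, 1, 1, 1, -3, 1, -3, 1, 1],
  [1, -3, -3, 1, 1, 1, 1, 1, 1, -3, -3, 1, 1, 1, 1, 1, 1, 1, 1, 1, -3, 1, 1, 1],
  [1, 1, 1, -3, 1, 1, 1, 1, -3, 1, 1, 1, 1, 1, -3, 1, 1, 1, -3, 1, -3, 1, 1, 1],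
  [1, -3, 1, -3, 1, 1, 1, 1, 1, 1, 1, 1, -3, 1, 1, 1, 1, 1, 1, 1, 1, -3, -3, 1],
  [1, 1, 1, 1, 1, 1, -3, -3, 1, 1, -3, 1, -3, 1, 1, 1, 1, 1, -3, 1, 1, 1, 1, 1],
  [-3, 1, 1, 1, 1, 1, 1, 1, 1, 1, 1, 1, 1, 1, 1, -3, 1, 1, 1, 1, 1, 1, 1, 5]]

/-- The power 4 of the element of order 5 fixing the second pair. -/
def hMat4 : List (List ℤ) := [
  [6, 0, 0, 2, 0, 2, 0, 2, 0, 0, 2, 0, 0, 0, 0, 0, 0, 0, 0, 0, 2, 2, 0, -2],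
  [0, -2, 2, 0, 2, 0, 2, 0, -2, -2, 0, 2, 2, 2, -2, 2, 2, 2, 2, -2, 0, 0, -2, 0],
  [0, 2, -2, 0, 2, 0, 2, 0, 2, -2, 0, -2, 2, 2, 2, 2, -2, -2, 2, -2, 0, 0, 2, 0],
  [0, 2, 2, 0, 2, 0, 2, 0, -2, -2, 0, 2, -2, -2, 2, -2, -2, 2, 2, 2, 0, 0, 2, 0],
  [0, 2, 2, 0, -2, 0, 2, 0, -2, 2, 0, -2, 2, -2, -2, 2, 2, -2, 2, 2, 0, 0, 2, 0],
  [0, 2, 2, 0, -2, 0, 2, 0, 2, -2, 0, -2, 2, 2, 2, -2, 2, 2, -2, 2, 0, 0, -2, 0],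
  [0, 2, 2, 0, 2, 0, -2, 0, 2, 2, 0, -2, -2, -2, 2, 2, 2, 2, 2, -2, 0, 0, -2, 0],
  [0, -2, 2, 0, 2, 0, 2, 0, 2, 2, 0, 2, 2, -2, 2, -2, 2, -2, -2, -2, 0, 0, 2, 0],
  [2, 0, 0, -2, 0, -2, 0, -2, 0, 0, -2, 0, 0, 0, 0, 0, 0, 0, 0, 0, 6, -2, 0, 2],
  [2, 0, 0, -2, 0, 6, 0, -2, 0, 0, -2, 0, 0, 0, 0, 0, 0, 0, 0, 0, -2, -2, 0, 2],
  [0, -2, 2, 0, 2, 0, -2, 0, 2, 2, 0, -2, 2, 2, -2, -2, -2, 2, 2, 2, 0, 0, 2, 0],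
  [0, -2, -2, 0, 2, 0, 2, 0, -2, 2, 0, -2, -2, 2, 2, 2, 2, 2, -2, 2, 0, 0, 2, 0],
  [2, 0, 0, -2, 0, -2, 0, -2, 0, 0, -2, 0, 0, 0, 0, 0, 0, 0, 0, 0, -2, 6, 0, 2],
  [2, 0, 0, -2, 0, -2, 0, 6, 0, 0, -2, 0, 0, 0, 0, 0, 0, 0, 0, 0, -2, -2, 0, 2],
  [0, 2, -2, 0, 2, 0, -2, 0, 2, -2, 0, 2, 2, -2, -2, 2, 2, 2, -2, 2, 0, 0, 2, 0],
  [2, 0, 0, 6, 0, -2, 0, -2, 0, 0, -2, 0, 0, 0, 0, 0, 0, 0, 0, 0, -2, -2, 0, 2],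
  [2, 0, 0, -2, 0, -2, 0, -2, 0, 0, 6, 0, 0, 0, 0, 0, 0, 0, 0, 0, -2, -2, 0, 2],
  [0, -2, 2, 0, -2, 0, -2, 0, 2, -2, 0, 2, -2, 2, 2, 2, 2, -2, 2, 2, 0, 0, 2, 0],
  [0, 2, 2, 0, 2, 0, 2, 0, 2, 2, 0, 2, -2, 2, -2, 2, -2, -2, -2, 2, 0, 0, -2, 0],
  [0, 2, 2, 0, -2, 0, -2, 0, -2, 2, 0, 2, 2, 2, 2, 2, -2, 2, -2, -2, 0, 0, 2, 0],
  [0, 2, -2, 0, 2, 0, -2, 0, -2, 2, 0, 2, 2, 2, 2, -2, 2, -2, 2, 2, 0, 0, -2, 0],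
  [0, 2, -2, 0, -2, 0, 2, 0, 2, 2, 0, 2, -2, 2, -2, -2, 2, 2, 2, -2, 0, 0, 2, 0],
  [0, -2, -2, 0, -2, 0, 2, 0, 2, 2, 0, 2, 2, -2, 2, 2, -2, 2, 2, 2, 0, 0, -2, 0],
  [-2, 0, 0, 2, 0, 2, 0, 2, 0, 0, 2, 0, 0, 0, 0, 0, 0, 0, 0, 0, 2, 2, 0, 6]]

/-- The power 2 of the element of order 5 fixing the first pair. -/
def mMat2 : List (List ℤ) := [
  [5, -1, -1, -3, -1, -1, -1, -1, -1, -1, -1, 1, -1, -1, 1, 1, -1, 1, -1, 1, -1, -1, 1, 3],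
  [-1, 1, 1, -1, 1, 1, 1, 1, 1, 1, 1, -1, 1, -3, 3, -1, -3, -1, 1, 3, 1, -3, -1, 1],
  [-1, 1, 1, -1, 1, 1, 1, -3, -3, 1, 1, -1, -3, 1, -1, -1, 1, 3, 1, 3, 1, 1, -1, 1],
  [1, -1, -1, 1, -1, 3, -1, 3, -1, -1, 3, 1, -1, -1, 1, 1, -1, 1, -1, 1, 3, 3, 1, -1],
  [-1, 1, 1, -1, 1, 1, 1, 1, 1, -3, -3, 3, -3, 1, 3, -1, 1, -1, 1, -1, 1, 1, -1, 1],
  [-1, -3, -3, -1, 1, -3, 1, 1, 1, 1, 1, -1, 1, 1, 3, -1, 1, 3, 1, -1, 1, 1, -1, 1],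
  [-1, 1, 1, -1, 1, -3, 1, 1, -3, 1, 1, 3, 1, 1, -1, -1, -3, -1, 1, -1, 1, 1, 3, 1],
  [-1, 1, 1, -1, -3, 1, -3, -3, 1, 1, 1, -1, 1, 1, 3, -1, 1, -1, 1, -1, 1, 1, 3, 1],
  [-1, 1, 1, -1, 1, 1, 1, 1, -3, 1, 1, -1, 1, 1, 3, 3, 1, -1, -3, -1, -3, 1, -1, 1],
  [-1, 1, 1, -1, 1, -3, -3, 1, 1, -3, 1, -1, 1, 1, -1, 3, 1, -1, 1, 3, 1, 1, -1, 1],
  [-1, 1, -3, -1, 1, 1, 1, 1, 1, 1, -3, -1, 1, 1, -1, -1, 1, -1, -3, 3, 1, 1, 3, 1],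
  [1, 3, -1, 1, -1, -1, -1, 3, -1, 3, -1, 1, -1, -1, 1, 1, 3, 1, 3, 1, -1, -1, 1, -1],
  [-1, -3, 1, -1, 1, 1, 1, 1, 1, 1, 1, -1, -3, 1, -1, 3, 1, -1, 1, -1, 1, -3, 3, 1],
  [-1, 1, -3, -1, 1, 1, 1, -3, 1, 1, 1, 3, 1, -3, -1, 3, 1, -1, 1, -1, 1, 1, -1, 1],
  [1, -1, 3, 1, -1, -1, 3, -1, -1, -1, -1, 1, 3, -1, 1, 1, 3, 1, -1, 1, 3, -1, 1, -1],
  [-3, -1, -1, 5, -1, -1, -1, -1, -1, -1, -1, 1, -1, -1, 1, 1, -1, 1, -1, 1, -1, -1, 1, 3],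
  [-1, 1, 1, -1, -3, 1, 1, 1, 1, 1, -3, -1, 1, 1, -1, 3, -3, 3, 1, -1, 1, 1, -1, 1],
  [1, 3, -1, 1, -1, -1, 3, -1, 3, -1, 3, 1, -1, 3, 1, 1, -1, 1, -1, 1, -1, -1, 1, -1],
  [-1, 1, 1, -1, 1, 1, 1, 1, 1, -3, 1, -1, 1, -3, -1, -1, 1, 3, 1, -1, -3, 1, 3, 1],
  [1, -1, -1, 1, 3, 3, -1, -1, -1, -1, -1, 1, 3, 3, 1, 1, -1, 1, 3, 1, -1, -1, 1, -1],
  [-1, -3, 1, -1, -3, 1, 1, 1, 1, 1, 1, 3, 1, 1, -1, -1, 1, -1, 1, 3, -3, 1, -1, 1],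
  [-1, 1, 1, -1, 1, 1, -3, 1, 1, 1, 1, 3, 1, 1, -1, -1, 1, 3, -3, -1, 1, -3, -1, 1],
  [1, -1, 3, 1, 3, -1, -1, -1, 3, 3, -1, 1, -1, -1, 1, 1, -1, 1, -1, 1, -1, 3, 1, -1],
  [3, 1, 1, 3, 1, 1, 1, 1, 1, 1, 1, -1, 1, 1, -1, -1, 1, -1, 1, -1, 1, 1, -1, 5]]

/-- The power 3 of the element of order 5 fixing the first pair. -/
def mMat3 : List (List ℤ) := [
  [5, -1, -1, 1, -1, -1, -1, -1, -1, -1, -1, 1, -1, -1, 1, -3, -1, 1, -1, 1, -1, -1, 1, 3],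
  [-1, 1, 1, -1, 1, -3, 1, 1, 1, 1, 1, 3, -3, 1, -1, -1, 1, 3, 1, -1, -3, 1, -1, 1],
  [-1, 1, 1, -1, 1, -3, 1, 1, 1, 1, -3, -1, 1, -3, 3, -1, 1, -1, 1, -1, 1, 1, 3, 1],
  [-3, -1, -1, 1, -1, -1, -1, -1, -1, -1, -1, 1, -1, -1, 1, 5, -1, 1, -1, 1, -1, -1, 1, 3],
  [-1, 1, 1, -1, 1, 1, 1, -3, 1, 1, 1, -1, 1, 1, -1, -1, -3, -1, 1, 3, -3, 1, 3, 1],
  [-1, 1, 1, 3, 1, -3, -3, 1, 1, -3, 1, -1, 1, 1, -1, -1, 1, -1, 1, 3, 1, 1, -1, 1],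
  [-1, 1, 1, -1, 1, 1, 1, -3, 1, -3, 1, -1, 1, 1, 3, -1, 1, 3, 1, -1, 1, -3, -1, 1],
  [-1, 1, -3, 3, 1, 1, 1, -3, 1, 1, 1, 3, 1, -3, -1, -1, 1, -1, 1, -1, 1, 1, -1, 1],
  [-1, 1, -3, -1, 1, 1, -3, 1, -3, 1, 1, -1, 1, 1, -1, -1, 1, 3, 1, -1, 1, 1, 3, 1],
  [-1, 1, 1, -1, -3, 1, 1, 1, 1, -3, 1, 3, 1, 1, -1, -1, 1, -1, -3, -1, 1, 1, 3, 1],
  [-1, 1, 1, 3, -3, 1, 1, 1, 1, 1, -3, -1, 1, 1, -1, -1, -3, 3, 1, -1, 1, 1, -1, 1],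
  [1, -1, -1, 1, 3, -1, 3, -1, -1, -1, -1, 1, -1, 3, 1, 1, -1, 1, -1, 1, 3, 3, 1, -1],
  [-1, 1, -3, -1, -3, 1, 1, 1, 1, 1, 1, -1, -3, 1, 3, -1, 1, -1, 1, 3, 1, 1, -1, 1],
  [-1, -3, 1, -1, 1, 1, 1, 1, 1, 1, 1, -1, 1, -3, -1, -1, 1, 3, -3, 3, 1, 1, -1, 1],
  [1, 3, -1, 1, 3, 3, -1, 3, 3, -1, -1, 1, -1, -1, 1, 1, -1, 1, -1, 1, -1, -1, 1, -1],
  [1, -1, -1, 1, -1, -1, -1, -1, 3, 3, -1, 1, 3, 3, 1, 1, 3, 1, -1, 1, -1, -1, 1, -1],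
  [-1, -3, 1, -1, 1, 1, -3, 1, 1, 1, 1, 3, 1, 1, 3, -1, -3, -1, 1, -1, 1, 1, -1, 1],
  [1, -1, 3, 1, -1, 3, -1, -1, -1, -1, -1, 1, -1, -1, 1, 1, 3, 1, 3, 1, -1, 3, 1, -1],
  [-1, 1, 1, -1, 1, 1, 1, 1, -3, 1, -3, 3, 1, 1, -1, -1, 1, -1, 1, 3, 1, -3, -1, 1],
  [1, 3, 3, 1, -1, -1, -1, -1, -1, 3, 3, 1, -1, -1, 1, 1, -1, 1, -1, 1, 3, -1, 1, -1],
  [-1, 1, 1, 3, 1, 1, 1, 1, -3, 1, 1, -1, 1, 1, 3, -1, 1, -1, -3, -1, -3, 1, -1, 1],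
  [-1, -3, 1, 3, 1, 1, 1, 1, 1, 1, 1, -1, -3, 1, -1, -1, 1, -1, 1, -1, 1, -3, 3, 1],
  [1, -1, -1, 1, -1, -1, 3, 3, -1, -1, 3, 1, 3, -1, 1, 1, -1, 1, 3, 1, -1, -1, 1, -1],
  [3, 1, 1, -1, 1, 1, 1, 1, 1, 1, 1, -1, 1, 1, -1, 3, 1, -1, 1, -1, 1, 1, -1, 5]]

/-- The power 4 of the element of order 5 fixing the first pair. -/
def mMat4 : List (List ℤ) := [
  [6, 0, 0, 2, 0, -2, 0, -2, 0, 0, -2, 0, 0, 0, 0, 0, 0, 0, 0, 0, -2, -2, 0, 2],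
  [0, -2, 2, 0, 2, 0, 2, 0, -2, -2, 0, -2, 2, 2, 2, -2, 2, -2, 2, 2, 0, 0, 2, 0],
  [0, 2, -2, 0, 2, 0, 2, 0, 2, -2, 0, 2, 2, 2, -2, -2, -2, 2, 2, 2, 0, 0, -2, 0],
  [0, -2, -2, 0, -2, 0, -2, 0, 2, 2, 0, 2, 2, 2, 2, -2, 2, 2, -2, 2, 0, 0, 2, 0],
  [0, 2, 2, 0, -2, 0, 2, 0, -2, 2, 0, 2, 2, -2, 2, -2, 2, 2, 2, -2, 0, 0, -2, 0],
  [0, 2, 2, 0, -2, 0, 2, 0, 2, -2, 0, 2, 2, 2, -2, 2, 2, -2, -2, -2, 0, 0, 2, 0],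
  [0, 2, 2, 0, 2, 0, -2, 0, 2, 2, 0, 2, -2, -2, -2, -2, 2, -2, 2, 2, 0, 0, 2, 0],
  [0, -2, 2, 0, 2, 0, 2, 0, 2, 2, 0, -2, 2, -2, -2, 2, 2, 2, -2, 2, 0, 0, -2, 0],
  [-2, 0, 0, 2, 0, -2, 0, -2, 0, 0, -2, 0, 0, 0, 0, 0, 0, 0, 0, 0, 6, -2, 0, 2],
  [-2, 0, 0, 2, 0, 6, 0, -2, 0, 0, -2, 0, 0, 0, 0, 0, 0, 0, 0, 0, -2, -2, 0, 2],
  [0, -2, 2, 0, 2, 0, -2, 0, 2, 2, 0, 2, 2, 2, 2, 2, -2, -2, 2, -2, 0, 0, -2, 0],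
  [0, 2, 2, 0, -2, 0, -2, 0, 2, -2, 0, -2, 2, -2, 2, 2, -2, 2, 2, 2, 0, 0, 2, 0],
  [-2, 0, 0, 2, 0, -2, 0, -2, 0, 0, -2, 0, 0, 0, 0, 0, 0, 0, 0, 0, -2, 6, 0, 2],
  [-2, 0, 0, 2, 0, -2, 0, 6, 0, 0, -2, 0, 0, 0, 0, 0, 0, 0, 0, 0, -2, -2, 0, 2],
  [0, -2, 2, 0, -2, 0, 2, 0, -2, 2, 0, 2, -2, 2, -2, 2, -2, 2, 2, 2, 0, 0, 2, 0],
  [2, 0, 0, 6, 0, 2, 0, 2, 0, 0, 2, 0, 0, 0, 0, 0, 0, 0, 0, 0, 2, 2, 0, -2],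
  [-2, 0, 0, 2, 0, -2, 0, -2, 0, 0, 6, 0, 0, 0, 0, 0, 0, 0, 0, 0, -2, -2, 0, 2],
  [0, 2, -2, 0, 2, 0, 2, 0, -2, 2, 0, 2, 2, -2, 2, 2, -2, -2, -2, 2, 0, 0, 2, 0],
  [0, 2, 2, 0, 2, 0, 2, 0, 2, 2, 0, -2, -2, 2, 2, -2, -2, 2, -2, -2, 0, 0, 2, 0],
  [0, -2, -2, 0, 2, 0, 2, 0, 2, -2, 0, 2, -2, -2, 2, 2, 2, 2, 2, -2, 0, 0, 2, 0],
  [0, 2, -2, 0, 2, 0, -2, 0, -2, 2, 0, -2, 2, 2, -2, 2, 2, 2, 2, -2, 0, 0, 2, 0],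
  [0, 2, -2, 0, -2, 0, 2, 0, 2, 2, 0, -2, -2, 2, 2, 2, 2, -2, 2, 2, 0, 0, -2, 0],
  [0, 2, 2, 0, 2, 0, -2, 0, -2, -2, 0, 2, -2, 2, 2, 2, 2, 2, -2, 2, 0, 0, -2, 0],
  [2, 0, 0, -2, 0, 2, 0, 2, 0, 0, 2, 0, 0, 0, 0, 0, 0, 0, 0, 0, 2, 2, 0, 6]]

/-- Words moving the base point to a hundred different places. -/
def orbitWords : List (List (ℕ × ℕ)) := [
  [],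
  [(2, 1)],
  [(2, 2)],
  [(2, 3)],
  [(2, 4)],
  [(0, 1), (2, 1)],
  [(0, 1), (2, 2)],
  [(0, 1), (2, 3)],
  [(0, 2), (2, 1)],
  [(0, 2), (2, 2)],
  [(1, 1), (0, 1), (2, 1)],
  [(1, 1), (0, 1), (2, 2)],
  [(1, 1), (0, 2), (2, 1)],
  [(1, 1), (0, 2), (2, 2)],
  [(1, 2), (0, 1), (2, 1)],
  [(1, 2), (0, 1), (2, 2)],
  [(0, 1), (1, 1), (0, 1), (2, 1)],
  [(0, 1), (1, 1), (0, 1), (2, 2)],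
  [(0, 1), (1, 1), (0, 2), (2, 2)],
  [(0, 1), (1, 2), (0, 1), (2, 1)],
  [(0, 2), (1, 1), (0, 1), (2, 1)],
  [(0, 2), (1, 1), (0, 1), (2, 2)],
  [(2, 1), (0, 1), (2, 1)],
  [(2, 1), (0, 1), (2, 2)],
  [(2, 1), (0, 1), (2, 3)],
  [(2, 1), (0, 2), (2, 1)],
  [(2, 1), (0, 2), (2, 2)],
  [(2, 2), (0, 1), (2, 1)],
  [(2, 2), (0, 1), (2, 3)],
  [(2, 2), (0, 2), (2, 1)],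
  [(2, 2), (0, 2), (2, 2)],
  [(2, 3), (0, 1), (2, 1)],
  [(2, 3), (0, 2), (2, 2)],
  [(0, 1), (2, 1), (0, 1), (2, 1)],
  [(0, 1), (2, 1), (0, 1), (2, 2)],
  [(0, 1), (2, 1), (0, 2), (2, 1)],
  [(0, 1), (2, 1), (0, 2), (2, 2)],
  [(0, 1), (2, 2), (0, 1), (2, 1)],
  [(0, 1), (2, 2), (0, 2), (2, 1)],
  [(0, 2), (2, 1), (0, 1), (2, 1)],
  [(0, 2), (2, 1), (0, 2), (2, 1)],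
  [(0, 2), (2, 2), (0, 2), (2, 1)],
  [(0, 3), (2, 1), (0, 1), (2, 1)],
  [(0, 3), (2, 1), (0, 2), (2, 1)],
  [(0, 3), (2, 2), (0, 2), (2, 1)],
  [(2, 1), (1, 1), (0, 1), (2, 1)],
  [(2, 1), (1, 1), (0, 1), (2, 2)],
  [(2, 1), (1, 1), (0, 2), (2, 1)],
  [(2, 1), (1, 1), (0, 2), (2, 2)],
  [(2, 1), (1, 2), (0, 1), (2, 1)],
  [(2, 1), (1, 2), (0, 1), (2, 2)],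
  [(0, 1), (2, 1), (1, 1), (0, 1), (2, 1)],
  [(0, 1), (2, 1), (1, 1), (0, 2), (2, 2)],
  [(0, 1), (2, 1), (1, 2), (0, 1), (2, 1)],
  [(0, 2), (2, 1), (1, 1), (0, 1), (2, 1)],
  [(1, 1), (0, 1), (2, 1), (0, 1), (2, 1)],
  [(1, 1), (0, 1), (2, 1), (0, 1), (2, 2)],
  [(1, 1), (0, 1), (2, 1), (0, 2), (2, 1)],
  [(1, 1), (0, 2), (2, 1), (0, 1), (2, 1)],
  [(1, 1), (0, 3), (2, 1), (0, 1), (2, 1)],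
  [(1, 2), (0, 1), (2, 1), (0, 1), (2, 1)],
  [(1, 2), (0, 2), (2, 1), (0, 1), (2, 1)],
  [(1, 3), (0, 1), (2, 1), (0, 1), (2, 1)],
  [(1, 4), (0, 1), (2, 1), (0, 1), (2, 1)],
  [(2, 1), (0, 1), (1, 1), (0, 1), (2, 1)],
  [(2, 1), (0, 1), (1, 1), (0, 1), (2, 2)],
  [(2, 1), (0, 1), (1, 1), (0, 2), (2, 2)],
  [(2, 1), (0, 1), (1, 2), (0, 1), (2, 1)],
  [(2, 1), (0, 2), (1, 1), (0, 1), (2, 1)],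
  [(2, 1), (0, 2), (1, 1), (0, 1), (2, 2)],
  [(2, 2), (0, 1), (1, 2), (0, 1), (2, 1)],
  [(0, 1), (1, 1), (0, 1), (2, 1), (0, 1), (2, 1)],
  [(0, 1), (1, 1), (0, 1), (2, 1), (0, 1), (2, 2)],
  [(0, 1), (1, 1), (0, 2), (2, 1), (0, 1), (2, 1)],
  [(0, 1), (1, 1), (0, 3), (2, 1), (0, 1), (2, 1)],
  [(0, 1), (1, 2), (0, 1), (2, 1), (0, 1), (2, 1)],
  [(0, 1), (1, 2), (0, 2), (2, 1), (0, 1), (2, 1)],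
  [(0, 1), (2, 1), (0, 1), (1, 1), (0, 1), (2, 1)],
  [(0, 1), (2, 1), (0, 2), (1, 1), (0, 1), (2, 1)],
  [(0, 2), (1, 1), (0, 1), (2, 1), (0, 1), (2, 1)],
  [(0, 2), (2, 1), (0, 1), (1, 1), (0, 1), (2, 1)],
  [(0, 2), (2, 1), (0, 2), (1, 1), (0, 1), (2, 1)],
  [(1, 1), (0, 1), (2, 1), (1, 1), (0, 1), (2, 1)],
  [(0, 1), (1, 1), (0, 1), (2, 1), (1, 1), (0, 1), (2, 1)],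
  [(1, 1), (0, 1), (2, 1), (0, 2), (1, 1), (0, 1), (2, 1)],
  [(2, 1), (0, 1), (2, 1), (0, 1), (2, 1)],
  [(2, 1), (0, 1), (2, 1), (0, 1), (2, 2)],
  [(2, 1), (0, 1), (2, 1), (0, 2), (2, 1)],
  [(2, 1), (0, 1), (2, 2), (0, 1), (2, 1)],
  [(2, 1), (0, 1), (2, 2), (0, 2), (2, 1)],
  [(2, 2), (0, 1), (2, 1), (0, 1), (2, 1)],
  [(2, 2), (0, 1), (2, 1), (0, 2), (2, 1)],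
  [(2, 2), (0, 1), (2, 2), (0, 1), (2, 1)],
  [(0, 1), (2, 2), (0, 1), (2, 2), (0, 1), (2, 1)],
  [(2, 1), (1, 1), (0, 1), (2, 1), (0, 1), (2, 1)],
  [(2, 1), (1, 1), (0, 1), (2, 1), (0, 1), (2, 2)],
  [(0, 1), (2, 1), (1, 1), (0, 1), (2, 1), (0, 1), (2, 2)],
  [(2, 1), (0, 1), (1, 1), (0, 1), (2, 1), (0, 1), (2, 1)],
  [(2, 1), (0, 1), (2, 1), (0, 1), (1, 1), (0, 1), (2, 1)],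
  [(2, 2), (0, 1), (2, 1), (0, 1), (1, 1), (0, 1), (2, 1)]]

end CfsgLib.OutConway
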