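import Cfsg.Agent.OutConway.CentC
import Cfsg.Agent.OutConway.CentB
import Cfsg.Agent.OutConway.Out
import Cfsg.Agent.OutConway.PowData

/-!
# Normalised automorphisms of the pair stabilisers
-/

set_option autoImplicit false

namespace CfsgLib.OutConway

open Cfsg CfsgLib CfsgLib.Golay CfsgLib.Leech MulAction
open CfsgLib.Golay.Cert (genOK ofList toList_ofList q5)

attribute [local irreducible] shortVecs halfTable quarterTable codeFinset

theorem sim_next {g h : Co0} {M N : List (List ℤ)} {f : List ℤ → List ℤ} (hg : Sim g (matA M))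
    (hh : Sim h f) (hN : N.length = 24)
    (hc : ((List.range 24).all fun i => forceL (f (unit8 i)) (matA M) == N.getD i []) = true) :
    Sim (g * h) (matA N) := by
  refine sim_of_images hN fun q => ?_
  have h1 := List.all_eq_true.1 hc (idx q) (List.mem_range.2 (idx_lt q))
  rw [beq_iff_eq, forceL_eq] at h1
  rw [mul_smul, hg, hh, co_eightAt, h1]

/-- The five powers of an element of order five as functions. -/
def powE (M M2 M3 M4 : List (List ℤ)) (n : ℕ) : List ℤ → List ℤ :=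
  match n % 5 with
  | 1 => matA M
  | 2 => matA M2
  | 3 => matA M3
  | 4 => matA M4
  | _ => id

theorem simP_five {g : Co0} {M M2 M3 M4 : List (List ℤ)} (h1 : Sim g (matA M)) (h2 : Sim (g ^ 2) (matA M2))
    (h3 : Sim (g ^ 3) (matA M3)) (h4 : Sim (g ^ 4) (matA M4)) (h5 : g ^ 5 = 1) :
    SimP g (powE M M2 M3 M4) := by
  intro n
  rw [pow_eq_pow_mod n h5]
  have hn : n % 5 < 5 := Nat.mod_lt _ (by norm_num)
  unfold powE
  rcases hm : n % 5 with _ | _ | _ | _ | _ | m
  · rw [pow_zero]; exact sim_one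
  · rw [pow_one]; exact h1
  · exact h2
  · exact h3
  · exact h4
  · omega

/-- The powers of a product of a power of `e` and a power of the twist. -/
def funC (F : ℕ → List ℤ → List ℤ) (i j n : ℕ) (x : List ℤ) : List ℤ :=
  forceL (permI (twistI (j * n)) x) (F (i * n))

theorem simP_funC {e : Co0} {F : ℕ → List ℤ → List ℤ} (he : SimP e F) (hec : e * cA = cA * e) (i j : ℕ) :
    SimP (e ^ i * cA ^ j) (funC F i j) := by
  intro n v
  have hc : Commute (e ^ i) (cA ^ j) := (show Commute e cA from hec).pow_pow i j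
  rw [funC, forceL_eq, hc.mul_pow, ← pow_mul, ← pow_mul]
  exact ((he (i * n)).mul (simP_c (j * n))) v

theorem bc_check : sameAct (fun x => permA cL (permA bL x)) (fun x => permI (mulI 3) (permA cL x)) = true ∧
    sameAct (permA bL) id = false := by decide +kernel

theorem conj_cb : cA * bA * cA⁻¹ = bA ^ 3 := by
  rw [mul_inv_eq_iff_eq_mul]
  exact eq_of_sim (sim_c.mul sim_b) ((simP_b 3).mul sim_c) bc_check.1

theorem mult_reps5 : ∀ k < 11, k ≠ 0 → ∃ j < 5, (3 ^ j * k) % 11 ∈ [1, 10] := by decide +kernel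

theorem order_b : orderOf bA = 11 := by
  haveI : Fact (Nat.Prime 11) := ⟨by norm_num⟩
  refine orderOf_eq_prime bA_pow fun h => ?_
  have := sameAct_of_eq sim_b sim_one h
  rw [bc_check.2] at this
  exact Bool.noConfusion this

theorem not_sq_eleven (H : Subgroup Co0) : ¬ 11 ^ 2 ∣ Nat.card H := fun h => by
  have := h.trans (Subgroup.card_subgroup_dvd_card _)
  rw [card_Co0] at this
  norm_num at this

/-- An automorphism can be made to fix the twist and to send the multiplier to itself or its inverse. -/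
theorem normal_bc {H : Subgroup Co0} (hb : bA ∈ H) (hc : cA ∈ H)
    (hC : ∀ g : H, (g : Co0) * bA = bA * g → ∃ i : ℕ, (g : Co0) = bA ^ i) (φ : MulAut H) :
    ∃ (g : H) (k : ℕ), k ∈ [1, 10] ∧ g * φ ⟨bA, hb⟩ * g⁻¹ = ⟨bA, hb⟩ ^ k ∧
      g * φ ⟨cA, hc⟩ * g⁻¹ = ⟨cA, hc⟩ := by
  haveI : Fact (Nat.Prime 11) := ⟨by norm_num⟩
  have ho : orderOf (⟨bA, hb⟩ : H) = 11 := by rw [Subgroup.orderOf_mk, order_b]
  have hw : (⟨cA, hc⟩ : H) * ⟨bA, hb⟩ * (⟨cA, hc⟩ : H)⁻¹ = (⟨bA, hb⟩ : H) ^ 3 := Subtype.ext conj_cb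
  obtain ⟨g₀, k₀, hk₀, e₁, e₂⟩ := normal_pair (not_sq_eleven H) ho (m := 3) (r := 6) hw (by norm_num)
    (fun g hg => by
      obtain ⟨i, hi⟩ := hC g (congrArg Subtype.val hg)
      exact ⟨i, Subtype.ext hi⟩) φ
  exact shift_exp (p := 11) ho hw [1, 10] (fun k h1 h2 => by
    obtain ⟨j, -, h⟩ := mult_reps5 k h1 h2; exact ⟨j, h⟩) hk₀ e₁ e₂

/-- Conjugation by an element normalising a subgroup, as an automorphism of the subgroup. -/
def normConj {H : Subgroup Co0} (T : Co0) (h : ∀ x ∈ H, T * x * T⁻¹ ∈ H) (h' : ∀ x ∈ H, T⁻¹ * x * T ∈ H) :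
    MulAut H where
  toFun x := ⟨T * x * T⁻¹, h x x.2⟩
  invFun x := ⟨T⁻¹ * x * T, h' x x.2⟩
  left_inv x := Subtype.ext (by simp [mul_assoc])
  right_inv x := Subtype.ext (by simp [mul_assoc])
  map_mul' x y := Subtype.ext (by simp [mul_assoc])

theorem normConj_apply {H : Subgroup Co0} (T : Co0) (h : ∀ x ∈ H, T * x * T⁻¹ ∈ H)
    (h' : ∀ x ∈ H, T⁻¹ * x * T ∈ H) (x : H) : (normConj T h h' x : Co0) = T * x * T⁻¹ := rfl

end CfsgLib.OutConway
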