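import Cfsg.Agent.OutConway.Sim

/-!
# Words in generators and their actions on coordinates
-/

set_option autoImplicit false

namespace CfsgLib.OutConway

open Cfsg CfsgLib CfsgLib.Leech

/-- Evaluate a word given by indices and exponents. -/
def evG {M : Type*} [Monoid M] (gs : List M) : List (ℕ × ℕ) → M
  | [] => 1
  | (i, n) :: w => gs.getD i 1 ^ n * evG gs w

/-- Pass on an evaluated natural number. -/
def forceNat {β : Type} : ℕ → (ℕ → β) → β
  | 0, k => k 0
  | n + 1, k => k (n + 1)

/-- Pass on an evaluated integer. -/
def forceInt {β : Type} : ℤ → (ℤ → β) → β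
  | Int.ofNat n, k => forceNat n fun m => k (Int.ofNat m)
  | Int.negSucc n, k => forceNat n fun m => k (Int.negSucc m)

/-- Pass on an evaluated list of integers. -/
def forceL {β : Type} : List ℤ → (List ℤ → β) → β
  | [], k => k []
  | a :: l, k => forceInt a fun a' => forceL l fun l' => k (a' :: l')

theorem forceNat_eq {β : Type} (n : ℕ) (k : ℕ → β) : forceNat n k = k n := by
  cases n <;> rfl

theorem forceInt_eq {β : Type} (a : ℤ) (k : ℤ → β) : forceInt a k = k a := by
  cases a <;> simp [forceInt, forceNat_eq]

theorem forceL_eq {β : Type} (l : List ℤ) : ∀ k : List ℤ → β, forceL l k = k l := by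
  induction l with
  | nil => intro k; rfl
  | cons a l ih => intro k; rw [forceL, forceInt_eq, ih]

/-- Evaluate a word on coordinate functions, evaluating each step before the next. -/
def evF (fs : List (ℕ → List ℤ → List ℤ)) : List (ℕ × ℕ) → List ℤ → List ℤ
  | [] => id
  | (i, n) :: w => fun x => forceL (evF fs w x) fun y => forceL (fs.getD i (fun _ => id) n y) id

/-- All powers of an automorphism act as the given functions. -/
def SimP (g : Co0) (F : ℕ → List ℤ → List ℤ) : Prop := ∀ n, Sim (g ^ n) (F n)

/-- Repeat a word. -/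
def rep (n : ℕ) (w : List (ℕ × ℕ)) : List (ℕ × ℕ) := (List.replicate n w).flatten

theorem sim_getD {gs : List Co0} {fs : List (ℕ → List ℤ → List ℤ)} (h : List.Forall₂ SimP gs fs) :
    ∀ i, SimP (gs.getD i 1) (fs.getD i fun _ => id) := by
  induction h with
  | nil => intro i n; simpa using sim_one
  | cons h _ ih =>
    intro i
    cases i with
    | zero => simpa using h
    | succ i => simpa using ih i

theorem sim_ev {gs : List Co0} {fs : List (ℕ → List ℤ → List ℤ)} (h : List.Forall₂ SimP gs fs) :
    ∀ w, Sim (evG gs w) (evF fs w)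
  | [] => sim_one
  | (i, n) :: w => by
    have e := (sim_getD h i n).mul (sim_ev h w)
    intro v
    show _ = forceL (evF fs w _) fun y => forceL (fs.getD i (fun _ => id) n y) id
    rw [forceL_eq, forceL_eq]
    exact e v

theorem map_ev {M N F : Type*} [Monoid M] [Monoid N] [FunLike F M N] [MonoidHomClass F M N] (f : F)
    (gs : List M) : ∀ w, f (evG gs w) = evG (gs.map f) w
  | [] => map_one f
  | (i, n) :: w => by
    rw [evG, evG, map_mul, map_pow, map_ev f gs w]
    congr 2
    simp [List.getD_eq_getElem?_getD, List.getElem?_map]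
    cases gs[i]? <;> simp

theorem ev_mem {M : Type*} [Monoid M] {S : Type*} [SetLike S M] [SubmonoidClass S M] {K : S}
    {gs : List M} (h : ∀ g ∈ gs, g ∈ K) : ∀ w, evG gs w ∈ K
  | [] => one_mem K
  | (i, n) :: w => by
    refine mul_mem (pow_mem ?_ n) (ev_mem h w)
    rw [List.getD_eq_getElem?_getD]
    cases e : gs[i]? with
    | none => simpa using one_mem K
    | some g => simpa using h g (List.mem_of_getElem? e)

end CfsgLib.OutConway
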